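import Groth.Agent.ChevThmLib.QuasiCompl
import Groth.Agent.AntiAffLib.AffineQuot
import Groth.Agent.AntiAffLib.Descend
import Groth.Prelude

/-!
# Smooth subgroups over an algebraically closed field given by their rational points
-/

set_option autoImplicit false
set_option linter.style.haveILetI false
set_option backward.isDefEq.respectTransparency false
set_option maxHeartbeats 1600000

universe u

open CategoryTheory CategoryTheory.Limits MonoidalCategory CartesianMonoidalCategory AlgebraicGeometry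
open scoped MonObj
open AVAmpleLib (tR tL)

noncomputable section

namespace ChevThmLib

attribute [-instance] CategoryTheory.Hom.commGroup

variable {k : Type u} [Field k] [IsAlgClosed k] {G : Over (Spec (CommRingCat.of k))} [GrpObj G]
  [LocallyOfFiniteType G.hom]

theorem eta_eq_one {X : Over (Spec (CommRingCat.of k))} [GrpObj X] :
    (η[X] : 𝟙_ (Over (Spec (CommRingCat.of k))) ⟶ X) = 1 := by
  rw [Hom.one_def, toUnit_unique (toUnit _) (𝟙 _), Category.id_comp]

/-- A closed condition on a scheme of finite type can be checked on rational points. -/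
theorem forall_mem_of_points {X : Over (Spec (CommRingCat.of k))} [GrpObj X] [LocallyOfFiniteType X.hom]
    {W : Set X.left} (hW : IsClosed W) (h : ∀ x : 𝟙_ (Over (Spec (CommRingCat.of k))) ⟶ X, AVAmpleLib.pt x ∈ W)
    (x : X.left) : x ∈ W := by
  by_contra hx
  haveI : JacobsonSpace X.left := LocallyOfFiniteType.jacobsonSpace X.hom
  obtain ⟨y, hy, hyc⟩ := nonempty_inter_closedPoints (show Wᶜ.Nonempty from ⟨x, hx⟩)
    hW.isOpen_compl.isLocallyClosed
  obtain ⟨a, rfl⟩ := AVAmpleLib.exists_pt_eq y hyc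
  exact hy (h a)

/-- A subgroup of rational points is carried by a reduced closed subgroup scheme. -/
structure PtSub (S : Subgroup (𝟙_ (Over (Spec (CommRingCat.of k))) ⟶ G))
    {B : Over (Spec (CommRingCat.of k))} (j : B ⟶ G) : Prop where
  range_eq : Set.range j.left = closure (AVAmpleLib.pt '' (S : Set (𝟙_ (Over (Spec (CommRingCat.of k))) ⟶ G)))

variable {S : Subgroup (𝟙_ (Over (Spec (CommRingCat.of k))) ⟶ G)} {B : Over (Spec (CommRingCat.of k))} [GrpObj B]
  {j : B ⟶ G} [IsMonHom j] [IsClosedImmersion j.left]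

omit [IsMonHom j] in
theorem PtSub.exists_lift (h : PtSub S j) {g : 𝟙_ (Over (Spec (CommRingCat.of k))) ⟶ G} (hg : g ∈ S) :
    ∃ b, b ≫ j = g := by
  haveI : IsSeparated G.hom := Groth.Agent.GrpField.isSeparated_grp (G := G)
  exact exists_point_lift j g (h.range_eq ▸ subset_closure ⟨g, hg, rfl⟩)

omit [GrpObj B] [IsMonHom j] [IsClosedImmersion j.left] in
theorem PtSub.range_subset (h : PtSub S j) {W : Set G.left} (hW : IsClosed W)
    (hS : ∀ g ∈ S, AVAmpleLib.pt g ∈ W) : Set.range j.left ⊆ W :=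
  h.range_eq ▸ closure_minimal (by rintro _ ⟨g, hg, rfl⟩; exact hS g hg) hW

omit [IsMonHom j] in
/-- A reduced subgroup scheme containing a set of points contains the subgroup scheme they define. -/
theorem PtSub.exists_factor (h : PtSub S j) [IsReduced B.left] {C : Over (Spec (CommRingCat.of k))} [GrpObj C]
    {H : Over (Spec (CommRingCat.of k))} [GrpObj H] (c : C ⟶ H) [IsClosedImmersion c.left] (q : G ⟶ H)
    (hS : ∀ g ∈ S, ∃ x, x ≫ c = g ≫ q) : ∃ l : B ⟶ C, l ≫ c = j ≫ q := by
  have hW : IsClosed (q.left ⁻¹' Set.range c.left) := c.left.isClosedEmbedding.isClosed_range.preimage q.left.continuous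
  obtain ⟨l, hl⟩ := AVAmpleLib.exists_lift_of_reduced c.left (j ≫ q).left (by
    rintro _ ⟨x, rfl⟩
    rw [Over.comp_left, Scheme.Hom.comp_apply]
    refine h.range_subset hW (fun g hg => ?_) ⟨x, rfl⟩
    obtain ⟨y, hy⟩ := hS g hg
    exact ⟨y.left (IsLocalRing.closedPoint k), congrArg AVAmpleLib.pt hy⟩)
  exact ⟨Over.homMk l (by rw [← Over.w (j ≫ q), ← hl, Category.assoc, Over.w c]), Over.OverMorphism.ext hl⟩

/-- The subgroup scheme of a normal subgroup of points is normal. -/
theorem PtSub.isNormalHom (h : PtSub S j) [Smooth G.hom] [Smooth B.hom] [S.Normal] : AlgGrp.IsNormalHom j := by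
  haveI : IsSeparated G.hom := Groth.Agent.GrpField.isSeparated_grp (G := G)
  haveI : Smooth (G ⊗ B).hom := inferInstanceAs (Smooth (pullback.fst G.hom B.hom ≫ G.hom))
  haveI : IsReduced (G ⊗ B).left := AlgSpLib.isReduced_of_smooth (G ⊗ B).hom
  let c : G ⊗ B ⟶ G := fst G B * (snd G B ≫ j) * (fst G B)⁻¹
  have hall : ∀ x, x ∈ c.left ⁻¹' Set.range j.left := by
    refine forall_mem_of_points (j.left.isClosedEmbedding.isClosed_range.preimage c.left.continuous) fun o => ?_
    let g := o ≫ fst G B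
    let b := o ≫ snd G B
    let cg : G ⟶ G := (toUnit G ≫ g) * 𝟙 G * (toUnit G ≫ g)⁻¹
    have hcg : ∀ x : 𝟙_ (Over (Spec (CommRingCat.of k))) ⟶ G, x ≫ cg = g * x * g⁻¹ := fun x => by
      rw [MonObj.comp_mul, MonObj.comp_mul, GrpObj.comp_inv, Category.comp_id, ← Category.assoc,
        toUnit_unique (x ≫ toUnit G) (𝟙 _), Category.id_comp]
    show c.left (AVAmpleLib.pt o) ∈ Set.range j.left
    have e : o ≫ c = (b ≫ j) ≫ cg := by
      rw [hcg, MonObj.comp_mul, MonObj.comp_mul, GrpObj.comp_inv, ← Category.assoc]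
    show AVAmpleLib.pt (o ≫ c) ∈ Set.range j.left
    rw [e]
    show cg.left (AVAmpleLib.pt (b ≫ j)) ∈ Set.range j.left
    refine h.range_subset (j.left.isClosedEmbedding.isClosed_range.preimage cg.left.continuous) (fun x hx => ?_)
      ⟨b.left (IsLocalRing.closedPoint k), rfl⟩
    show AVAmpleLib.pt (x ≫ cg) ∈ Set.range j.left
    rw [hcg, h.range_eq]
    exact subset_closure ⟨_, Subgroup.Normal.conj_mem ‹_› x hx g, rfl⟩
  obtain ⟨l₀, hl₀⟩ := AVAmpleLib.exists_lift_of_reduced j.left c.left (by rintro _ ⟨x, rfl⟩; exact hall x)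
  let l : G ⊗ B ⟶ B := Over.homMk l₀ (by rw [← Over.w c, ← hl₀, Category.assoc, Over.w j])
  have hl : l ≫ j = c := Over.OverMorphism.ext hl₀
  intro T g m
  refine ⟨lift g m ≫ l, ?_⟩
  rw [Category.assoc, hl, MonObj.comp_mul, MonObj.comp_mul, GrpObj.comp_inv, lift_fst, lift_snd_assoc]

/-- A closed subscheme mapping by an affine morphism into an affine one is affine. -/
theorem isAffine_of_lift {X C Y Z : Over (Spec (CommRingCat.of k))} (x : X ⟶ Y) [IsClosedImmersion x.left]
    (q : Y ⟶ Z) [IsAffineHom q.left] (c : C ⟶ Z) [IsClosedImmersion c.left] [IsAffine C.left] (l : X ⟶ C)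
    (e : l ≫ c = x ≫ q) : IsAffine X.left := by
  haveI : IsAffineHom (l.left ≫ c.left) := by
    rw [← Over.comp_left, e, Over.comp_left]; infer_instance
  haveI : IsAffineHom l.left := IsAffineHom.of_comp l.left c.left
  exact isAffine_of_isAffineHom l.left

/-- The identity component, as an open and closed subgroup with finitely many translates covering the group. -/
theorem exists_component' (B : Over (Spec (CommRingCat.of k))) [GrpObj B] [Smooth B.hom] [QuasiCompact B.hom] :
    ∃ (H : Over (Spec (CommRingCat.of k))) (_ : GrpObj H) (i₀ : H ⟶ B), IsMonHom i₀ ∧ IsClosedImmersion i₀.left ∧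
      IsOpenImmersion i₀.left ∧ Smooth H.hom ∧ QuasiCompact H.hom ∧ IsIntegral H.left ∧ ConnectedSpace H.left ∧
      (∀ {X : Over (Spec (CommRingCat.of k))} [ConnectedSpace X.left] (l : X ⟶ B)
        (x : 𝟙_ (Over (Spec (CommRingCat.of k))) ⟶ X), x ≫ l = 1 → ∃ l' : X ⟶ H, l' ≫ i₀ = l) ∧
      ∃ t : Finset (𝟙_ (Over (Spec (CommRingCat.of k))) ⟶ B),
        ∀ b : 𝟙_ (Over (Spec (CommRingCat.of k))) ⟶ B, ∃ c ∈ t, ∃ e : 𝟙_ (Over (Spec (CommRingCat.of k))) ⟶ H,
          (e ≫ i₀) * c = b := by
  classical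
  haveI : IsSeparated B.hom := Groth.Agent.GrpField.isSeparated_grp (G := B)
  obtain ⟨H, _, i₀, hi, hci, hfl, hr, hgi, hc⟩ := Groth.Agent.GrpField.exists_identity_component (G := B)
  haveI := hi; haveI := hci
  haveI : LocallyOfFinitePresentation i₀.left := by
    haveI : LocallyOfFiniteType H.hom := by rw [← Over.w i₀]; infer_instance
    exact AntiAffLib.lfp_of_lft i₀
  haveI hopen : IsOpenImmersion i₀.left := IsOpenImmersion.of_flat_of_mono _
  haveI hHsm : Smooth H.hom := by rw [← Over.w i₀]; infer_instance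
  haveI : IrreducibleSpace H.left := GeometricallyIrreducible.irreducibleSpace_of_subsingleton H.hom
  haveI : IsReduced H.left := AlgSpLib.isReduced_of_smooth H.hom
  haveI : QuasiCompact H.hom := by rw [← Over.w i₀]; infer_instance
  refine ⟨H, inferInstance, i₀, hi, hci, hopen, hHsm, inferInstance, isIntegral_of_irreducibleSpace_of_isReduced _,
    inferInstance, ?_, ?_⟩
  · intro X _ l x hx
    have hrange : Set.range l.left ⊆ Set.range i₀.left := by
      rw [hr, ← Groth.Agent.GrpField.connectedComponent_unit]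
      refine (isPreconnected_range l.left.continuous).subset_connectedComponent ⟨x.left (IsLocalRing.closedPoint k), ?_⟩
      rw [← Scheme.Hom.comp_apply, ← Over.comp_left, hx, ← eta_eq_one]
      rfl
    exact ⟨Over.homMk (IsOpenImmersion.lift i₀.left l.left hrange) (by
      rw [← Over.w i₀, ← Category.assoc, IsOpenImmersion.lift_fac]
      exact Over.w l), Over.OverMorphism.ext (IsOpenImmersion.lift_fac _ _ _)⟩
  haveI : CompactSpace B.left := QuasiCompact.compactSpace_of_compactSpace B.hom
  have hopen' : ∀ b : 𝟙_ (Over (Spec (CommRingCat.of k))) ⟶ B, IsOpen (Set.range (i₀ ≫ tR b).left) := fun b => by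
    haveI : IsIso (tR b).left := inferInstanceAs (IsIso ((Over.forget _).map (tR b)))
    haveI : IsOpenImmersion (i₀ ≫ tR b).left := by rw [Over.comp_left]; infer_instance
    exact (i₀ ≫ tR b).left.isOpenEmbedding.isOpen_range
  have hcov : (Set.univ : Set B.left) ⊆ ⋃ b, Set.range (i₀ ≫ tR b).left := by
    intro x _
    by_contra hx
    haveI : JacobsonSpace B.left := LocallyOfFiniteType.jacobsonSpace B.hom
    obtain ⟨y, hy, hyc⟩ := nonempty_inter_closedPoints
      (show ((⋃ b, Set.range (i₀ ≫ tR b).left)ᶜ).Nonempty from ⟨x, hx⟩)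
      (isOpen_iUnion hopen').isClosed_compl.isLocallyClosed
    obtain ⟨b, rfl⟩ := AVAmpleLib.exists_pt_eq y hyc
    refine hy (Set.mem_iUnion.2 ⟨b, (1 : 𝟙_ (Over (Spec (CommRingCat.of k))) ⟶ H).left (IsLocalRing.closedPoint k), ?_⟩)
    rw [← Scheme.Hom.comp_apply, ← Over.comp_left, ← Category.assoc, MonObj.one_comp, AVAmpleLib.point_tR,
      _root_.one_mul]
    rfl
  obtain ⟨t, ht⟩ := isCompact_univ.elim_finite_subcover _ hopen' hcov
  refine ⟨t, fun b => ?_⟩
  obtain ⟨c, hct, z, hz⟩ := Set.mem_iUnion₂.1 (ht (Set.mem_univ (AVAmpleLib.pt b)))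
  haveI : IsIso (tR c).left := inferInstanceAs (IsIso ((Over.forget _).map (tR c)))
  haveI : IsClosedImmersion (i₀ ≫ tR c).left := by rw [Over.comp_left]; infer_instance
  obtain ⟨e, he⟩ := exists_point_lift (i₀ ≫ tR c) b ⟨z, hz⟩
  exact ⟨c, hct, e, by rw [← AVAmpleLib.point_tR, Category.assoc, he]⟩

end ChevThmLib

end
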