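import Groth.Agent.ChevThmLib.Twist
import Groth.Prelude

/-!
# Proper quotients with affine kernel over an arbitrary field
-/

set_option autoImplicit false
set_option linter.style.haveILetI false
set_option backward.isDefEq.respectTransparency false
set_option maxHeartbeats 1600000

universe u

open CategoryTheory CategoryTheory.Limits MonoidalCategory CartesianMonoidalCategory AlgebraicGeometry TopologicalSpace
open scoped MonObj
open AVAmpleLib (bcF bcPt imgPt)

noncomputable section

namespace ChevThmLib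

attribute [-instance] CategoryTheory.Hom.commGroup

variable {k : Type u} [Field k]

local instance grpBcH (Ω : Type u) [Field Ω] [Algebra k Ω] (Z : Over (Spec (CommRingCat.of k))) [GrpObj Z] :
    GrpObj ((bcF Ω).obj Z) := Functor.grpObjObj

/-- Descent of the affine part along a homeomorphic homomorphism with geometrically reduced image. -/
theorem exists_map_of_reduced {G G' : Over (Spec (CommRingCat.of k))} [GrpObj G] [GrpObj G'] [Smooth G.hom]
    [QuasiCompact G.hom] [Smooth G'.hom] [QuasiCompact G'.hom] (Φ : G ⟶ G') [IsMonHom Φ] [IsAffineHom Φ.left]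
    [UniversallyInjective Φ.left] [Surjective Φ.left] {L : Over (Spec (CommRingCat.of k))} (j : L ⟶ G')
    [IsClosedImmersion j.left] [IsReduced L.left] [GeometricallyReduced L.hom]
    (N : Over (Spec (CommRingCat.of (AlgebraicClosure k)))) [GrpObj N] (i : N ⟶ (bcF (AlgebraicClosure k)).obj G)
    (hi : IsAffNormal i)
    (Qc : Over (Spec (CommRingCat.of (AlgebraicClosure k)))) [GrpObj Qc]
    (qc : (bcF (AlgebraicClosure k)).obj G ⟶ Qc) [IsMonHom qc] [Flat qc.left] [Surjective qc.left] [IsProper Qc.hom]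
    (hqck : AlgGrp.IsKernel i qc) (C : Set G.left)
    (key : ∀ a : SGA7.pt (K := k) (AlgebraicClosure k) ⟶ G,
      imgPt a ∈ C ↔ ∃ n, n ≫ i = AVAmpleLib.ptsMulEquiv (AlgebraicClosure k) G a)
    (hrange : Set.range j.left = Φ.left '' C) :
    ∃ (B : Over (Spec (CommRingCat.of k))) (_ : GrpObj B) (f : G ⟶ B), IsMonHom f ∧ IsProper B.hom ∧
      ∀ (K : Over (Spec (CommRingCat.of k))) (iK : K ⟶ G), IsClosedImmersion iK.left → iK ≫ f = 1 → IsAffine K.left := by
  classical
  let Ω := AlgebraicClosure k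
  let ξ := Spec.map (CommRingCat.ofHom (algebraMap k Ω))
  let GK := (bcF Ω).obj G
  haveI : Smooth GK.hom := inferInstanceAs (Smooth (pullback.snd G.hom ξ))
  haveI : QuasiCompact GK.hom := inferInstanceAs (QuasiCompact (pullback.snd G.hom ξ))
  haveI : Smooth ((bcF Ω).obj G').hom := inferInstanceAs (Smooth (pullback.snd G'.hom ξ))
  haveI : QuasiCompact ((bcF Ω).obj G').hom := inferInstanceAs (QuasiCompact (pullback.snd G'.hom ξ))
  haveI : IsSeparated G.hom := Groth.Agent.GrpField.isSeparated_grp (G := G)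
  haveI : IsSeparated G'.hom := Groth.Agent.GrpField.isSeparated_grp (G := G')
  haveI : IsSeparated ((bcF Ω).obj G').hom := Groth.Agent.GrpField.isSeparated_grp (G := (bcF Ω).obj G')
  haveI := hi.hom; haveI := hi.closed; haveI := hi.smooth; haveI := hi.conn; haveI := hi.affine
  haveI : IsReduced N.left := AlgSpLib.isReduced_of_smooth N.hom
  let e := AVAmpleLib.ptsMulEquiv Ω G
  haveI : Mono j.left := inferInstance
  haveI : Mono j := Over.mono_of_mono_left j
  haveI hLlft : LocallyOfFiniteType L.hom := by rw [← Over.w j]; infer_instance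
  haveI : QuasiCompact L.hom := by rw [← Over.w j]; infer_instance
  -- geometric points
  have hsurjpt : ∀ a' : SGA7.pt (K := k) Ω ⟶ G', ∃ a, a ≫ Φ = a' := by
    intro a'
    have hac : IsClosed ({imgPt a'} : Set G'.left) := by
      haveI : IsIntegralHom ξ := by
        rw [IsIntegralHom.SpecMap_iff]
        exact fun x => (Algebra.IsIntegral.isIntegral (R := k) x)
      haveI : IsIntegralHom (pullback.fst G'.hom ξ) := MorphismProperty.pullback_fst _ _ inferInstance
      rw [← AVAmpleLib.fst_bcPt, ← Set.image_singleton]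
      exact (pullback.fst G'.hom ξ).isClosedMap _ (isClosed_pt _)
    obtain ⟨y, hy⟩ := Φ.left.surjective (imgPt a')
    have hyc : IsClosed ({y} : Set G.left) := by
      have : ({y} : Set G.left) = Φ.left ⁻¹' {imgPt a'} := by
        ext z
        exact ⟨fun hz => by rw [Set.mem_singleton_iff.1 hz]; exact hy, fun hz => Φ.left.injective (hz.trans hy.symm)⟩
      rw [this]
      exact hac.preimage Φ.left.continuous
    obtain ⟨a, ha⟩ := AVAmpleLib.exists_imgPt (Ω := Ω) hyc
    obtain ⟨σ, hσ⟩ := exists_galPt (a ≫ Φ) a' (by rw [AVAmpleLib.imgPt_comp, ha, hy])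
    exact ⟨galPt σ ≫ a, by rw [Category.assoc, hσ]⟩
  have hC : ∀ a : SGA7.pt (K := k) Ω ⟶ G, imgPt (a ≫ Φ) ∈ Set.range j.left ↔ ∃ n, n ≫ i = e a := by
    intro a
    rw [hrange, AVAmpleLib.imgPt_comp, Φ.left.injective.mem_set_image]
    exact key a
  have hjC : ∀ z : SGA7.pt (K := k) Ω ⟶ L, imgPt (z ≫ j) ∈ Set.range j.left := fun z => ⟨_, rfl⟩
  have hfac : ∀ (Z : Over (Spec (CommRingCat.of k))) (h : Z ⟶ G'), IsReduced Z.left → LocallyOfFiniteType Z.hom →
      (∀ z : SGA7.pt (K := k) Ω ⟶ Z, ∃ a n, a ≫ Φ = z ≫ h ∧ n ≫ i = e a) → ∃ l : Z ⟶ L, l ≫ j = h := by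
    intro Z h _ _ hz
    obtain ⟨l, hl⟩ := AVAmpleLib.exists_lift_of_reduced j.left h.left
      (AVAmpleLib.range_subset_of_imgPts h j.left.isClosedEmbedding.isClosed_range fun z => by
        obtain ⟨a, n, ha, hn⟩ := hz z
        rw [← ha]
        exact (hC a).2 ⟨n, hn⟩)
    refine ⟨Over.homMk l ?_, Over.OverMorphism.ext hl⟩
    rw [← Over.w h, ← hl, Category.assoc, Over.w j]
  have hpt : ∀ z : SGA7.pt (K := k) Ω ⟶ L, ∃ a n, a ≫ Φ = z ≫ j ∧ n ≫ i = e a := by
    intro z
    obtain ⟨a, ha⟩ := hsurjpt (z ≫ j)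
    obtain ⟨n, hn⟩ := (hC a).1 (by rw [ha]; exact hjC z)
    exact ⟨a, n, ha, hn⟩
  haveI : IsReduced (L ⊗ L).left := by
    haveI : IsLocallyNoetherian L.left := LocallyOfFiniteType.isLocallyNoetherian L.hom
    haveI : Flat L.hom := Groth.Agent.GrpField.flat_field _
    exact inferInstanceAs (IsReduced (pullback L.hom L.hom))
  haveI : LocallyOfFiniteType (L ⊗ L).hom :=
    inferInstanceAs (LocallyOfFiniteType (pullback.fst L.hom L.hom ≫ L.hom))
  obtain ⟨_, hjm⟩ := Groth.Agent.SubDesc.exists_grpObj_of_mono j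
    (hfac (L ⊗ L) _ inferInstance inferInstance fun z => by
      obtain ⟨a, m, ha, hm⟩ := hpt (z ≫ fst L L)
      obtain ⟨b, n, hb, hn⟩ := hpt (z ≫ snd L L)
      exact ⟨a * b, m * n, by rw [MonObj.mul_comp, ha, hb, MonObj.comp_mul, Category.assoc, Category.assoc],
        by rw [MonObj.mul_comp, hm, hn, map_mul]⟩)
    (hfac _ _ (inferInstanceAs (IsReduced (Spec (CommRingCat.of k))))
      (inferInstanceAs (LocallyOfFiniteType (𝟙 (Spec (CommRingCat.of k))))) fun z =>
      ⟨1, 1, by rw [MonObj.one_comp, MonObj.comp_one], by rw [MonObj.one_comp, map_one]⟩)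
    (hfac L _ inferInstance inferInstance fun z => by
      obtain ⟨a, n, ha, hn⟩ := hpt z
      exact ⟨a⁻¹, n⁻¹, by rw [GrpObj.inv_comp, ha, GrpObj.comp_inv], by rw [GrpObj.inv_comp, hn, map_inv]⟩)
  haveI := hjm
  haveI : Smooth L.hom := AlbLib.smooth_grp L
  have hnormal : AlgGrp.IsNormalHom j := by
    haveI : Smooth (G' ⊗ L).hom := inferInstanceAs (Smooth (pullback.fst G'.hom L.hom ≫ G'.hom))
    haveI : IsReduced (G' ⊗ L).left := AlgSpLib.isReduced_of_smooth (G' ⊗ L).hom
    obtain ⟨c, hc⟩ := hfac (G' ⊗ L) (fst G' L * (snd G' L ≫ j) * (fst G' L)⁻¹) inferInstance inferInstance fun z => by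
      obtain ⟨a, n, ha, hn⟩ := hpt (z ≫ snd G' L)
      obtain ⟨g, hg⟩ := hsurjpt (z ≫ fst G' L)
      obtain ⟨m, hm⟩ := hi.normal _ (e g) n
      refine ⟨g * a * g⁻¹, m, ?_, ?_⟩
      · rw [MonObj.mul_comp, MonObj.mul_comp, GrpObj.inv_comp, ha, hg, MonObj.comp_mul, MonObj.comp_mul,
          GrpObj.comp_inv, Category.assoc]
      · rw [← hm, hn, map_mul, map_mul, map_inv]
    intro T g n
    refine ⟨lift g n ≫ c, ?_⟩
    rw [Category.assoc, hc, MonObj.comp_mul, MonObj.comp_mul, GrpObj.comp_inv, lift_fst, lift_snd_assoc]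
  obtain ⟨hξs, hξf⟩ := AVAmpleLib.surjective_flat_qc_bc (k := k) Ω
  let ΦK := (bcF Ω).map Φ
  haveI : IsMonHom ΦK := inferInstanceAs (IsMonHom ((bcF Ω).map Φ))
  haveI : Surjective ΦK.left := MorphismProperty.of_isPullback (AVAmpleLib.isPullback_bc Ω Φ) ‹Surjective Φ.left›
  haveI : IsAffineHom ΦK.left := MorphismProperty.of_isPullback (AVAmpleLib.isPullback_bc Ω Φ) ‹IsAffineHom Φ.left›
  let jK := (bcF Ω).map j
  haveI : IsClosedImmersion jK.left := MorphismProperty.of_isPullback (AVAmpleLib.isPullback_bc Ω j) ‹_›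
  haveI : Smooth ((bcF Ω).obj L).hom := inferInstanceAs (Smooth (pullback.snd L.hom ξ))
  haveI : IsReduced ((bcF Ω).obj L).left := AlgSpLib.isReduced_of_smooth ((bcF Ω).obj L).hom
  -- affineness over the extension
  haveI : IsAffine L.left := by
    haveI : LocallyOfFiniteType N.hom := inferInstance
    haveI : QuasiCompact N.hom := by rw [← Over.w i]; infer_instance
    haveI : QuasiCompact (i ≫ ΦK).left := by
      haveI : QuasiCompact ((i ≫ ΦK).left ≫ ((bcF Ω).obj G').hom) := by rw [Over.w (i ≫ ΦK)]; infer_instance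
      exact QuasiCompact.of_comp (i ≫ ΦK).left ((bcF Ω).obj G').hom
    obtain ⟨D, _, π, c, hπm, hcm, hπc, hπf, hπs, hπp, hcc⟩ :=
      Groth.Agent.GrpHom.exists_fppf_image (i ≫ ΦK) (Groth.Agent.GrpField.flat_field _)
    haveI := hπm; haveI := hcm; haveI := hπf; haveI := hπs; haveI := hcc
    haveI : LocallyOfFiniteType D.hom := by rw [← Over.w c]; infer_instance
    haveI : IsAffine D.left := AntiAffLib.isAffine_of_surjective_hom π
    obtain ⟨l, hl⟩ := AVAmpleLib.exists_lift_of_reduced c.left jK.left (by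
      rintro _ ⟨z, rfl⟩
      refine forall_mem_of_points (c.left.isClosedEmbedding.isClosed_range.preimage jK.left.continuous) (fun y => ?_) z
      obtain ⟨y', rfl⟩ := (AVAmpleLib.bcPt_bijective Ω).2 y
      obtain ⟨a, n, ha, hn⟩ := hpt y'
      refine ⟨(n ≫ π).left (IsLocalRing.closedPoint Ω), ?_⟩
      show AVAmpleLib.pt ((n ≫ π) ≫ c) = AVAmpleLib.pt (bcPt Ω y' ≫ jK)
      rw [Category.assoc, hπc, ← Category.assoc, hn]
      show AVAmpleLib.pt (bcPt Ω a ≫ (bcF Ω).map Φ) = AVAmpleLib.pt (bcPt Ω y' ≫ (bcF Ω).map j)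
      rw [← AVAmpleLib.bcPt_comp, ← AVAmpleLib.bcPt_comp, ha])
    haveI : IsClosedImmersion (l ≫ c.left) := by rw [hl]; infer_instance
    haveI : IsClosedImmersion l := IsClosedImmersion.of_comp l c.left
    haveI : IsAffine ((bcF Ω).obj L).left := isAffine_of_isAffineHom l
    haveI : IsAffineHom L.hom := MorphismProperty.of_isPullback_of_descendsAlong (P := @IsAffineHom)
      (Q := @Surjective ⊓ @Flat ⊓ @QuasiCompact) (IsPullback.of_hasPullback L.hom ξ).flip
      ⟨⟨hξs, hξf⟩, inferInstance⟩ (by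
        haveI : IsAffine (pullback L.hom ξ) := ‹IsAffine ((bcF Ω).obj L).left›
        exact isAffineHom_of_isAffine _)
    exact isAffine_of_isAffineHom L.hom
  -- the quotient
  haveI : Flat L.hom := inferInstance
  haveI : QuasiCompact j.left := inferInstance
  obtain ⟨Q, _, q, hqm, hqf, hqs, hqp, hker, hQsep, -, hQsm⟩ := Groth.Agent.S3030.result k L G' j hnormal
  haveI := hqm; haveI := hqf; haveI := hqs; haveI := hqp; haveI := hQsm inferInstance; haveI := hQsep
  haveI : CompactSpace G'.left := QuasiCompact.compactSpace_of_compactSpace G'.hom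
  haveI : CompactSpace Q.left := ⟨by rw [← q.left.surjective.range_eq]; exact isCompact_range q.left.continuous⟩
  haveI : QuasiCompact Q.hom := (quasiCompact_iff_compactSpace Q.hom).2 inferInstance
  let qK := (bcF Ω).map q
  haveI : IsMonHom qK := inferInstanceAs (IsMonHom ((bcF Ω).map q))
  haveI : Surjective qK.left := MorphismProperty.of_isPullback (AVAmpleLib.isPullback_bc Ω q) hqs
  haveI : IsSeparated ((bcF Ω).obj Q).hom := inferInstanceAs (IsSeparated (pullback.snd Q.hom ξ))
  have hkill : i ≫ ΦK ≫ qK = 1 := by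
    refine AVAmpleLib.hom_ext_of_points _ _ fun n => ?_
    obtain ⟨a, ha⟩ := e.surjective (n ≫ i)
    obtain ⟨c, hc⟩ := AVAmpleLib.exists_factor j (a ≫ Φ) ((hC a).2 ⟨n, ha.symm⟩)
    rw [← Category.assoc, ← ha, ← Category.assoc]
    show (bcPt Ω a ≫ (bcF Ω).map Φ) ≫ (bcF Ω).map q = _
    rw [← AVAmpleLib.bcPt_comp, ← hc, AVAmpleLib.bcPt_comp, Category.assoc, ← Functor.map_comp,
      AntiAffLib.kernel_comp hker, Functor.map_one, MonObj.comp_one, MonObj.comp_one]
  haveI := AntiAffLib.lfp_of_lft qc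
  obtain ⟨g, hg⟩ := Groth.Agent.MonoQuot.exists_desc_over qc (ΦK ≫ qK) (fun T a b hab => by
    obtain ⟨l, hl⟩ := AntiAffLib.exists_lift_kernel hqck (a * b⁻¹)
      (by rw [MonObj.mul_comp, GrpObj.inv_comp, hab, mul_inv_cancel])
    have h := congrArg (· ≫ (ΦK ≫ qK)) hl
    simp only [Category.assoc] at h
    rw [hkill, MonObj.comp_one, MonObj.mul_comp, GrpObj.inv_comp] at h
    exact mul_inv_eq_one.1 h.symm)
  haveI : Surjective g.left := by
    haveI : Surjective (qc.left ≫ g.left) := by rw [← Over.comp_left, hg, Over.comp_left]; infer_instance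
    exact Surjective.of_comp qc.left g.left
  haveI : UniversallyClosed ((bcF Ω).obj Q).hom := by
    haveI : UniversallyClosed (g.left ≫ ((bcF Ω).obj Q).hom) := by rw [Over.w g]; infer_instance
    exact UniversallyClosed.of_comp_surjective g.left ((bcF Ω).obj Q).hom
  haveI : UniversallyClosed Q.hom := MorphismProperty.of_isPullback_of_descendsAlong (P := @UniversallyClosed)
    (Q := @Surjective ⊓ @Flat ⊓ @QuasiCompact) (IsPullback.of_hasPullback Q.hom ξ).flip
    ⟨⟨hξs, hξf⟩, inferInstance⟩ (inferInstanceAs (UniversallyClosed ((bcF Ω).obj Q).hom))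
  haveI : IsProper Q.hom := ⟨⟩
  refine ⟨Q, inferInstance, Φ ≫ q, inferInstance, inferInstance, fun K iK hK hk => ?_⟩
  haveI := hK
  obtain ⟨l, hl⟩ := AntiAffLib.exists_lift_kernel hker (iK ≫ Φ) (by rw [Category.assoc, hk])
  haveI : IsAffineHom (l.left ≫ j.left) := by rw [← Over.comp_left, hl, Over.comp_left]; infer_instance
  haveI : IsAffineHom l.left := IsAffineHom.of_comp l.left j.left
  exact isAffine_of_isAffineHom l.left

/-- A smooth group over any field maps to a proper group with affine kernel. -/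
theorem exists_affineKer_map (G : Over (Spec (CommRingCat.of k))) [GrpObj G] [Smooth G.hom] [QuasiCompact G.hom] :
    ∃ (B : Over (Spec (CommRingCat.of k))) (_ : GrpObj B) (f : G ⟶ B), IsMonHom f ∧ IsProper B.hom ∧
      ∀ (K : Over (Spec (CommRingCat.of k))) (iK : K ⟶ G), IsClosedImmersion iK.left → iK ≫ f = 1 → IsAffine K.left := by
  haveI : IsSeparated G.hom := Groth.Agent.GrpField.isSeparated_grp (G := G)
  obtain ⟨N, _, i, hi, ⟨Qc, _, qc, hqm, hqf, hqs, hqk, hQp⟩, C, hC, -, key⟩ := exists_gal_closed G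
  haveI := hqm; haveI := hqf; haveI := hqs; haveI := hQp
  let I := Scheme.IdealSheafData.vanishingIdeal (⟨C, hC⟩ : Closeds G.left)
  haveI : IsReduced I.subscheme := DevissLib.isReduced_vanishingIdeal' _
  have hr : Set.range I.subschemeι = C := by
    rw [Scheme.IdealSheafData.range_subschemeι, Scheme.IdealSheafData.coe_support_vanishingIdeal]
    rfl
  haveI : LocallyOfFiniteType (I.subschemeι ≫ G.hom) := inferInstance
  haveI : QuasiCompact (I.subschemeι ≫ G.hom) := inferInstance
  by_cases hp : PerfectField k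
  · haveI := hp
    let L : Over (Spec (CommRingCat.of k)) := Over.mk (I.subschemeι ≫ G.hom)
    let j : L ⟶ G := Over.homMk I.subschemeι rfl
    haveI : IsClosedImmersion j.left := inferInstanceAs (IsClosedImmersion I.subschemeι)
    haveI : IsReduced L.left := inferInstanceAs (IsReduced I.subscheme)
    haveI : GeometricallyReduced L.hom := AVAmpleLib.gr_of_isReduced (I.subschemeι ≫ G.hom)
    haveI : IsAffineHom (𝟙 G : G ⟶ G).left := inferInstanceAs (IsAffineHom (𝟙 G.left))
    haveI : UniversallyInjective (𝟙 G : G ⟶ G).left := inferInstanceAs (UniversallyInjective (𝟙 G.left))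
    haveI : Surjective (𝟙 G : G ⟶ G).left := inferInstanceAs (Surjective (𝟙 G.left))
    refine exists_map_of_reduced (𝟙 G) j N i hi Qc qc hqk C key ?_
    show Set.range I.subschemeι = (fun x => x) '' C
    rw [hr, Set.image_id']
  · obtain ⟨p, hp', hch⟩ : ∃ p : ℕ, p.Prime ∧ CharP k p := by
      rcases CharP.exists' k with h0 | ⟨p, hp', hch⟩
      · haveI := h0
        exact absurd (PerfectField.ofCharZero (K := k)) hp
      · exact ⟨p, hp'.out, hch⟩
    haveI : Fact p.Prime := ⟨hp'⟩
    haveI := hch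
    haveI : ExpChar k p := ExpChar.prime hp'
    obtain ⟨r, Z, iZ, hiZ, hiZs, hZgr, hZred⟩ := exists_reduced_twist p (I.subschemeι ≫ G.hom)
    haveI := hiZ; haveI := hiZs; haveI := hZgr; haveI := hZred
    letI := twGrp (k := k) p r G
    haveI := isMonHom_relF p r G
    obtain ⟨h1, h2, h3⟩ := relF_props p r G
    haveI := h1; haveI := h2; haveI := h3
    let G' := (twF (k := k) p r).obj G
    haveI : Smooth G'.hom := inferInstanceAs (Smooth (pullback.snd G.hom _))
    haveI : QuasiCompact G'.hom := inferInstanceAs (QuasiCompact (pullback.snd G.hom _))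
    let X : Over (Spec (CommRingCat.of k)) := Over.mk (I.subschemeι ≫ G.hom)
    let jX : X ⟶ G := Over.homMk I.subschemeι rfl
    have sq : IsPullback (pullback.fst X.hom (frobS (k := k) p r)) ((twF (k := k) p r).map jX).left jX.left
        (pullback.fst G.hom (frobS (k := k) p r)) := by
      refine IsPullback.of_bot (v₂₁ := pullback.snd G.hom _) (v₂₂ := G.hom) (h₃₁ := frobS (k := k) p r) ?_ ?_
        (IsPullback.of_hasPullback _ _)
      · have h1 : ((twF (k := k) p r).map jX).left ≫ pullback.snd G.hom (frobS (k := k) p r) =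
            pullback.snd X.hom _ := Over.w ((twF (k := k) p r).map jX)
        rw [h1, Over.w jX]
        exact IsPullback.of_hasPullback _ _
      · exact (pullback.lift_fst _ _ _).symm
    haveI : IsClosedImmersion ((twF (k := k) p r).map jX).left :=
      MorphismProperty.of_isPullback sq (inferInstanceAs (IsClosedImmersion I.subschemeι))
    let L : Over (Spec (CommRingCat.of k)) := Over.mk (iZ ≫ pullback.snd (I.subschemeι ≫ G.hom) (frobS p r))
    let iL : L ⟶ (twF (k := k) p r).obj X := Over.homMk iZ rfl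
    let j : L ⟶ G' := iL ≫ (twF (k := k) p r).map jX
    haveI : IsClosedImmersion j.left := by
      rw [Over.comp_left]
      haveI : IsClosedImmersion iL.left := hiZ
      infer_instance
    haveI : IsReduced L.left := hZred
    haveI : GeometricallyReduced L.hom := hZgr
    refine exists_map_of_reduced (relF p r G) j N i hi Qc qc hqk C key ?_
    let π := pullback.fst G.hom (frobS (k := k) p r)
    haveI : UniversallyInjective π := MorphismProperty.pullback_fst _ _ (CurveFFLib.frobSpec_props k p r).2.1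
    have hπC : Set.range j.left = π ⁻¹' C := by
      rw [Over.comp_left, Scheme.Hom.comp_base, TopCat.coe_comp, Set.range_comp,
        show Set.range iL.left = Set.univ from iZ.surjective.range_eq, Set.image_univ, ← hr]
      ext y
      refine ⟨?_, fun ⟨x, hx⟩ => ?_⟩
      · rintro ⟨z, rfl⟩
        refine ⟨pullback.fst X.hom (frobS (k := k) p r) z, ?_⟩
        exact ((Scheme.Hom.comp_apply _ jX.left z).symm.trans congr($(sq.w) z)).trans (Scheme.Hom.comp_apply _ π z)
      · obtain ⟨z, -, hz⟩ := Scheme.exists_preimage_of_isPullback sq x y hx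
        exact ⟨z, hz⟩
    rw [hπC]
    ext y
    refine ⟨fun hy => ⟨π y, hy, π.injective (fst_relF_apply p r G _)⟩, ?_⟩
    rintro ⟨x, hx, rfl⟩
    show π ((relF p r G).left x) ∈ C
    rw [fst_relF_apply]
    exact hx

end ChevThmLib

end
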