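import Groth.Agent.ChevThmLib.Invariant

/-!
# The residue transcendence degree of the invariant valuation ring
-/

set_option autoImplicit false
set_option linter.style.haveILetI false
set_option maxHeartbeats 1000000

universe u

open TensorProduct IsLocalRing

noncomputable section

namespace ChevThmLib

variable {k : Type u} [Field k]

/-- A family in a valuation ring with residues algebraically independent over the ground field. -/
def ResIndep {K : Type u} [Field K] [Algebra k K] (R : ValuationSubring K) {ι : Type u} (r : ι → K) : Prop :=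
  (∀ i, r i ∈ R) ∧ ∀ p : MvPolynomial ι k, p ≠ 0 → R.valuation (MvPolynomial.aeval r p) = 1

section Extension

variable {K L : Type u} [Field K] [Field L] [Algebra K L] (W : ValuationSubring L)

/-- The inclusion of the trace of a valuation ring. -/
def traceHom : W.comap (algebraMap K L) →+* W :=
  RingHom.codRestrict ((algebraMap K L).comp (W.comap (algebraMap K L)).subtype) W.toSubring fun x => x.2

instance isLocalHom_traceHom : IsLocalHom (traceHom (K := K) W) := by
  refine ⟨fun x hx => ?_⟩
  obtain ⟨y, hy⟩ := hx.exists_right_inv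
  have hy' : algebraMap K L x * (y : L) = 1 := congrArg Subtype.val hy
  have hx0 : (x : K) ≠ 0 := fun h => by rw [h, map_zero, zero_mul] at hy'; exact zero_ne_one hy'
  refine isUnit_iff_exists_inv.2 ⟨⟨(x : K)⁻¹, ?_⟩, Subtype.ext (mul_inv_cancel₀ hx0)⟩
  show algebraMap K L (x : K)⁻¹ ∈ W
  rw [map_inv₀, inv_eq_of_mul_eq_one_right hy']
  exact y.2

/-- The residue extension. -/
@[reducible] def residueAlg : Algebra (ResidueField (W.comap (algebraMap K L))) (ResidueField W) :=
  (ResidueField.map (traceHom (K := K) W)).toAlgebra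

/-- Residue transcendence degree is at most the transcendence degree. -/
theorem trdeg_residue_le :
    letI := residueAlg (K := K) W
    Algebra.trdeg (ResidueField (W.comap (algebraMap K L))) (ResidueField W) ≤ Algebra.trdeg K L := by
  classical
  letI := residueAlg (K := K) W
  let R' := W.comap (algebraMap K L)
  refine ciSup_le' fun s => ?_
  choose y hy using fun x : s.1 => residue_surjective (R := W) x.1
  refine AlgebraicIndependent.cardinalMk_le_trdeg (x := fun x : s.1 => (y x : L)) ?_
  rw [algebraicIndependent_iff]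
  intro p hp
  by_contra hp0
  obtain ⟨m₀, hm₀, hmax⟩ := p.support.exists_max_image (fun m => R'.valuation (p.coeff m))
    (MvPolynomial.support_nonempty.2 hp0)
  have hc : p.coeff m₀ ≠ 0 := MvPolynomial.mem_support_iff.1 hm₀
  have hmem : ∀ m, p.coeff m / p.coeff m₀ ∈ R' := fun m => by
    rw [← ValuationSubring.valuation_le_one_iff, map_div₀, div_le_one₀]
    · by_cases hm : m ∈ p.support
      · exact hmax m hm
      · rw [MvPolynomial.notMem_support_iff.1 hm, map_zero]
        exact zero_le
    · exact zero_lt_iff.2 ((Valuation.ne_zero_iff _).2 hc)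
  let q : MvPolynomial s.1 R' := ∑ m ∈ p.support, MvPolynomial.monomial m ⟨_, hmem m⟩
  have hq : MvPolynomial.map (R'.subtype) q = MvPolynomial.C (p.coeff m₀)⁻¹ * p := by
    simp only [q, map_sum, MvPolynomial.map_monomial]
    have has := congrArg (fun t => MvPolynomial.C (p.coeff m₀)⁻¹ * t) p.as_sum
    rw [has, Finset.mul_sum]
    refine Finset.sum_congr rfl fun m _ => ?_
    rw [MvPolynomial.C_mul_monomial]
    exact congrArg _ (div_eq_inv_mul _ _)
  have h0 : MvPolynomial.eval₂ (traceHom (K := K) W) y q = 0 := by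
    apply Subtype.ext
    show W.subtype (MvPolynomial.eval₂ (traceHom (K := K) W) y q) = W.subtype 0
    rw [MvPolynomial.eval₂_comp_left, map_zero]
    have : MvPolynomial.aeval (fun x : s.1 => (y x : L)) (MvPolynomial.map R'.subtype q) = 0 := by
      rw [hq, map_mul, hp, mul_zero]
    rw [MvPolynomial.aeval_def, MvPolynomial.eval₂_map] at this
    exact this
  have h1 : MvPolynomial.aeval (Subtype.val : s.1 → ResidueField W) (MvPolynomial.map (residue R') q) = 0 := by
    have h := congrArg (residue W) h0
    rw [MvPolynomial.eval₂_comp_left, map_zero, show residue W ∘ y = Subtype.val from funext hy] at h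
    rw [MvPolynomial.aeval_def, MvPolynomial.eval₂_map]
    exact h
  have h2 := congrArg (MvPolynomial.coeff m₀) (algebraicIndependent_iff.1 s.2 _ h1)
  rw [MvPolynomial.coeff_map, MvPolynomial.coeff_zero] at h2
  have h3 : q.coeff m₀ = 1 := by
    simp only [q, MvPolynomial.coeff_sum, MvPolynomial.coeff_monomial]
    rw [Finset.sum_ite_eq' p.support m₀, if_pos hm₀]
    exact Subtype.ext (div_self hc)
  rw [h3, map_one] at h2
  exact one_ne_zero h2

end Extension

namespace Bir

variable {B K L Γ : Type u} [CommRing B] [IsDomain B] [Algebra k B] [Field K] [Algebra k K] [Field L]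
  [Algebra (B ⊗[k] K) L] [Algebra k L] [IsScalarTower k (B ⊗[k] K) L] [IsFractionRing (B ⊗[k] K) L] [Group Γ]
  (S : Bir k B K L Γ) [IsAlgClosed k] [Algebra.FiniteType k B] [IsDomain (B ⊗[k] K)]
  [Algebra B K] [IsScalarTower k B K] [IsFractionRing B K]
  (R : ValuationSubring K) (hR : ∀ a : k, algebraMap k K a ∈ R)

omit [Algebra.FiniteType k B] [IsAlgClosed k] [IsDomain (B ⊗[k] K)] in
include k B K in
theorem trdeg_le {ι : Type u} [Finite ι] {b : ι → B} (hb : IsTranscendenceBasis k b) :
    Algebra.trdeg k L ≤ Cardinal.mk (ι ⊕ ι) := by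
  classical
  let φ : B →ₐ[k] L := (IsScalarTower.toAlgHom k (B ⊗[k] K) L).comp Algebra.TensorProduct.includeLeft
  let ψ : K →ₐ[k] L := (IsScalarTower.toAlgHom k (B ⊗[k] K) L).comp Algebra.TensorProduct.includeRight
  let ψ' : B →ₐ[k] L := ψ.comp (IsScalarTower.toAlgHom k B K)
  have hφ : Function.Injective φ :=
    (IsFractionRing.injective (B ⊗[k] K) L).comp
      (Algebra.TensorProduct.includeLeft_injective (S := k) (algebraMap k K).injective)
  have hψ : Function.Injective ψ := RingHom.injective ψ.toRingHom
  have hψ' : Function.Injective ψ' := hψ.comp (IsFractionRing.injective B K)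
  let z : ι ⊕ ι → L := Sum.elim (φ ∘ b) (ψ' ∘ b)
  let E : IntermediateField k L := IntermediateField.adjoin k (Set.range z)
  have key : ∀ (χ : B →ₐ[k] L), Function.Injective χ → (∀ i, χ (b i) ∈ E) → ∀ x : B,
      χ x ∈ algebraicClosure E L := by
    intro χ hinj hχ x
    rw [mem_algebraicClosure_iff]
    let A := Algebra.adjoin k (Set.range b)
    obtain ⟨p, hp0, hp⟩ := hb.isAlgebraic.isAlgebraic x
    have hAE : ∀ a : A, χ (a : B) ∈ E := fun a => by
      have : A ≤ E.toSubalgebra.comap χ := Algebra.adjoin_le (by rintro _ ⟨i, rfl⟩; exact hχ i)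
      exact this a.2
    let f : A →+* E := RingHom.codRestrict (χ.toRingHom.comp A.val.toRingHom) E.toSubfield.toSubring hAE
    have hf : Function.Injective f := fun a a' h => Subtype.ext (hinj (congrArg Subtype.val h))
    refine ⟨p.map f, (Polynomial.map_ne_zero_iff hf).2 hp0, ?_⟩
    have h2 := congrArg χ hp
    rw [map_zero, Polynomial.aeval_def] at h2
    rw [← h2, Polynomial.aeval_def, Polynomial.eval₂_map]
    exact (Polynomial.hom_eval₂ p (algebraMap A B) χ.toRingHom x).symm
  have h1 : ∀ x, φ x ∈ algebraicClosure E L :=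
    key φ hφ fun i => IntermediateField.subset_adjoin _ _ ⟨Sum.inl i, rfl⟩
  have h2 : ∀ x, ψ' x ∈ algebraicClosure E L :=
    key ψ' hψ' fun i => IntermediateField.subset_adjoin _ _ ⟨Sum.inr i, rfl⟩
  have h3 : ∀ t : B ⊗[k] K, algebraMap _ L t ∈ algebraicClosure E L := by
    intro t
    induction t using TensorProduct.induction_on with
    | zero => rw [map_zero]; exact zero_mem _
    | tmul x c =>
      obtain ⟨u, v, -, rfl⟩ := IsFractionRing.div_surjective (A := B) c
      rw [show x ⊗ₜ[k] (algebraMap B K u / algebraMap B K v) =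
        x ⊗ₜ[k] 1 * 1 ⊗ₜ[k] (algebraMap B K u / algebraMap B K v) by
          rw [Algebra.TensorProduct.tmul_mul_tmul, mul_one, one_mul], map_mul]
      refine mul_mem (h1 x) ?_
      show ψ (algebraMap B K u / algebraMap B K v) ∈ _
      rw [map_div₀]
      exact div_mem (h2 u) (h2 v)
    | add a b ha hb' => rw [map_add]; exact add_mem ha hb'
  haveI : Algebra.IsAlgebraic E L := ⟨fun l => by
    obtain ⟨u, v, -, rfl⟩ := IsFractionRing.div_surjective (A := B ⊗[k] K) l
    exact mem_algebraicClosure_iff.1 (div_mem (h3 u) (h3 v))⟩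
  haveI : Algebra.IsAlgebraic (Algebra.adjoin k (Set.range z)) L :=
    IntermediateField.isAlgebraic_adjoin_iff_top.1 inferInstance
  exact (Algebra.IsAlgebraic.trdeg_le_cardinalMk k (Set.range z)).trans Cardinal.mk_range_le

omit [IsAlgClosed k] [Algebra.FiniteType k B] [IsDomain (B ⊗[k] K)] [IsFractionRing (B ⊗[k] K) L]
  [IsFractionRing B K] [Algebra B K] [IsScalarTower k B K] [IsDomain B] in
theorem ev_aeval {ι κ : Type u} (b : ι → B) (r : κ → K) (g : B →ₐ[k] k) (p : MvPolynomial (ι ⊕ κ) k) :
    ev g (MvPolynomial.aeval (Sum.elim (fun i => b i ⊗ₜ[k] (1 : K)) (fun j => (1 : B) ⊗ₜ[k] r j)) p) =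
      MvPolynomial.aeval r (MvPolynomial.map g.toRingHom
        (MvPolynomial.aeval (Sum.elim (fun i => MvPolynomial.C (b i)) MvPolynomial.X) p :
          MvPolynomial κ B)) := by
  induction p using MvPolynomial.induction_on with
  | C a => simp [MvPolynomial.algebraMap_apply, Algebra.smul_def]
  | add u v hu hv => simp only [map_add, hu, hv]
  | mul_X u x hu =>
    simp only [map_mul, hu, MvPolynomial.aeval_X]
    congr 1
    rcases x with i | j
    · simp [Algebra.smul_def]
    · simp

/-- The invariant ring has residue transcendence degree at least the one of the given ring. -/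
theorem card_le_trdeg_residue {ι κ : Type u} [Finite ι] {b : ι → B} (hb : IsTranscendenceBasis k b)
    {r : κ → K} (hr : ResIndep (k := k) R r) :
    letI : Algebra k (S.invRing R hR) :=
      (RingHom.codRestrict (algebraMap k K) (S.invRing R hR).toSubring (S.algebraMap_mem_invRing R hR)).toAlgebra
    letI : Algebra k (ResidueField (S.invRing R hR)) :=
      ((residue (S.invRing R hR)).comp (algebraMap k (S.invRing R hR))).toAlgebra
    Cardinal.mk κ ≤ Algebra.trdeg k (ResidueField (S.invRing R hR)) := by
  classical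
  letI : Algebra K L := S.μ.toRingHom.toAlgebra
  haveI : IsScalarTower k K L := IsScalarTower.of_algebraMap_eq fun a => (S.μ.commutes a).symm
  letI : Algebra k (S.invRing R hR) :=
    (RingHom.codRestrict (algebraMap k K) (S.invRing R hR).toSubring (S.algebraMap_mem_invRing R hR)).toAlgebra
  letI : Algebra k (ResidueField (S.invRing R hR)) :=
    ((residue (S.invRing R hR)).comp (algebraMap k (S.invRing R hR))).toAlgebra
  let W := genRing (L := L) k B R hR
  letI : Algebra (ResidueField (S.invRing R hR)) (ResidueField W) := residueAlg (K := K) W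
  letI : Algebra k (ResidueField W) :=
    ((algebraMap (ResidueField (S.invRing R hR)) (ResidueField W)).comp
      (algebraMap k (ResidueField (S.invRing R hR)))).toAlgebra
  haveI : IsScalarTower k (ResidueField (S.invRing R hR)) (ResidueField W) :=
    IsScalarTower.of_algebraMap_eq fun _ => rfl
  letI : Algebra k W := ((traceHom (K := K) W).comp (algebraMap k (S.invRing R hR))).toAlgebra
  have hWval : ∀ a : k, ((algebraMap k W a : W) : L) = algebraMap k L a := fun a => S.μ.commutes a
  -- the elements with independent residues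
  let z0 : ι ⊕ κ → B ⊗[k] K := Sum.elim (fun i => b i ⊗ₜ[k] (1 : K)) (fun j => (1 : B) ⊗ₜ[k] r j)
  let U : ι ⊕ κ → L := fun x => algebraMap _ L (z0 x)
  have hU : ∀ x, U x ∈ W := fun x =>
    show GenMem (L := L) k B R _ from ⟨z0 x, 1, 1, one_ne_zero, by simp [U], fun g _ => by
      refine ⟨by simp, ?_⟩
      rw [map_one, div_one]
      rcases x with i | j
      · show ev g (b i ⊗ₜ[k] (1 : K)) ∈ R
        rw [ev_tmul, Algebra.smul_def, mul_one]
        exact hR _
      · show ev g ((1 : B) ⊗ₜ[k] r j) ∈ R
        rw [ev_tmul, map_one, one_smul]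
        exact hr.1 j⟩
  have hind : AlgebraicIndependent k (fun x => residue W ⟨U x, hU x⟩) := by
    rw [algebraicIndependent_iff]
    intro p hp
    by_contra hp0
    have hQ0 : (MvPolynomial.aeval (Sum.elim (fun i => MvPolynomial.C (b i)) MvPolynomial.X) p :
        MvPolynomial κ B) ≠ 0 := fun h0 => hp0
      (algebraicIndependent_iff.1 ((hb.1.sumElim_comp (MvPolynomial.algebraicIndependent_X κ B)).comp Sum.swap Sum.swap_leftInverse.injective) p (by
        rw [← h0]
        refine congrArg (fun v => MvPolynomial.aeval v p) ?_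
        funext x
        rcases x with i | j <;> rfl))
    obtain ⟨m, hm⟩ := MvPolynomial.exists_coeff_ne_zero hQ0
    let P := MvPolynomial.aeval z0 p
    have hP : ∀ g : B →ₐ[k] k, g (MvPolynomial.coeff m
        (MvPolynomial.aeval (Sum.elim (fun i => MvPolynomial.C (b i)) MvPolynomial.X) p :
          MvPolynomial κ B)) ≠ 0 → R.valuation (ev g P) = 1 := by
      intro g hg
      rw [show ev g P = _ from ev_aeval b r g p]
      refine hr.2 _ fun h0 => hg ?_
      have h1 := congrArg (MvPolynomial.coeff m) h0
      rwa [MvPolynomial.coeff_map, MvPolynomial.coeff_zero] at h1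
    have hPne : ∀ g : B →ₐ[k] k, g (MvPolynomial.coeff m
        (MvPolynomial.aeval (Sum.elim (fun i => MvPolynomial.C (b i)) MvPolynomial.X) p :
          MvPolynomial κ B)) ≠ 0 → ev g P ≠ 0 := fun g hg h0 => by
      have := hP g hg
      rw [h0, map_zero] at this
      exact zero_ne_one this
    let y : W := MvPolynomial.aeval (fun x => (⟨U x, hU x⟩ : W)) p
    have hy : (y : L) = algebraMap _ L P := by
      let Wh : MvPolynomial (ι ⊕ κ) k →+* L := W.subtype.comp (MvPolynomial.aeval fun x => (⟨U x, hU x⟩ : W)).toRingHom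
      refine RingHom.congr_fun (f := Wh) (g := (algebraMap (B ⊗[k] K) L).comp (MvPolynomial.aeval z0).toRingHom) ?_ p
      refine MvPolynomial.ringHom_ext (fun a => ?_) (fun x => ?_)
      · simp only [Wh, RingHom.comp_apply, AlgHom.toRingHom_eq_coe, RingHom.coe_coe, MvPolynomial.aeval_C]
        exact (hWval a).trans (IsScalarTower.algebraMap_apply k (B ⊗[k] K) L a)
      · simp [Wh, U]
    have hP0 : algebraMap (B ⊗[k] K) L P ≠ 0 := by
      intro h0
      obtain ⟨g, hg⟩ := exists_point (k := k) hm
      refine hPne g hg ?_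
      rw [IsFractionRing.injective (B ⊗[k] K) L (h0.trans (map_zero _).symm), map_zero]
    have hu : IsUnit y := by
      refine isUnit_iff_exists_inv.2 ⟨⟨(y : L)⁻¹, show GenMem (L := L) k B R _ from
        ⟨1, P, _, hm, by rw [hy, inv_mul_cancel₀ hP0, map_one], fun g hg => ⟨hPne g hg, ?_⟩⟩⟩,
        Subtype.ext (mul_inv_cancel₀ (by rw [hy]; exact hP0))⟩
      rw [map_one, ← ValuationSubring.valuation_le_one_iff, map_div₀, hP g hg, map_one, div_one]
    refine (hu.map (residue W)).ne_zero ?_
    rw [← hp]
    let ρ : MvPolynomial (ι ⊕ κ) k →+* ResidueField W :=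
      (residue W).comp (MvPolynomial.aeval fun x => (⟨U x, hU x⟩ : W)).toRingHom
    refine RingHom.congr_fun (f := ρ) (g := (MvPolynomial.aeval fun x => residue W ⟨U x, hU x⟩).toRingHom) ?_ p
    refine MvPolynomial.ringHom_ext (fun a => ?_) (fun x => ?_)
    · simp only [ρ, RingHom.comp_apply, AlgHom.toRingHom_eq_coe, RingHom.coe_coe, MvPolynomial.aeval_C]
      rfl
    · simp [ρ]
  have h1 := hind.cardinalMk_le_trdeg
  have h2 := trdeg_residue_le (K := K) W
  have h3 := trdeg_add_eq k K (A := L)
  have h4 := trdeg_le (L := L) (K := K) hb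
  haveI : Algebra.IsAlgebraic B K := IsLocalization.isAlgebraic K (nonZeroDivisors B)
  have h5 : Algebra.trdeg k K = Cardinal.mk ι :=
    (IsTranscendenceBasis.algebraMap_comp (A := K) hb).cardinalMk_eq_trdeg.symm
  have h6 := trdeg_add_eq k (ResidueField (S.invRing R hR)) (A := ResidueField W)
  have hfin : Cardinal.mk ι < Cardinal.aleph0 := Cardinal.lt_aleph0_of_finite ι
  rw [h5] at h3
  rw [← h3, Cardinal.mk_sum, Cardinal.lift_id, add_comm (Cardinal.mk ι) (Algebra.trdeg K L), Cardinal.add_le_add_iff_of_lt_aleph0 hfin] at h4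
  rw [← h6, Cardinal.mk_sum, Cardinal.lift_id, Cardinal.lift_id] at h1
  have h7 : Cardinal.mk ι + Cardinal.mk κ ≤ Cardinal.mk ι + Algebra.trdeg k (ResidueField (S.invRing R hR)) :=
    h1.trans ((add_le_add le_rfl (h2.trans h4)).trans_eq (add_comm _ _))
  exact (Cardinal.add_le_add_iff_of_lt_aleph0 hfin).1 (by rwa [add_comm (Cardinal.mk κ), add_comm (Algebra.trdeg k _)])

end Bir

end ChevThmLib

end
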