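import Groth.Agent.ChevThmLib.Geom
import Groth.Agent.ChevThmLib.Residue
import Groth.Agent.NagataCompLib.Nagata
import Groth.Agent.FibDimLib.Formula
import Groth.Agent.WeilLib.Dim
import Groth.Prelude

/-!
# A valuation of maximal residue transcendence degree without centre
-/

set_option autoImplicit false
set_option linter.style.haveILetI false
set_option backward.isDefEq.respectTransparency false
set_option maxHeartbeats 1600000

universe u

open CategoryTheory CategoryTheory.Limits MonoidalCategory CartesianMonoidalCategory AlgebraicGeometry CoactBr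
open scoped MonObj TensorProduct

noncomputable section

namespace ChevThmLib

variable {k : Type u} [Field k]

/-- The algebra structure of a valuation ring containing the ground field. -/
@[reducible] def valAlg {K : Type u} [Field K] [Algebra k K] (R : ValuationSubring K)
    (hR : ∀ a : k, algebraMap k K a ∈ R) : Algebra k R :=
  (RingHom.codRestrict (algebraMap k K) R.toSubring hR).toAlgebra

variable {G : Over (Spec (CommRingCat.of k))} {B : Type u} [CommRing B] [Algebra k B] [IsDomain B]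
  [Algebra.FiniteType k B] (j : Chart G B)
variable (K : Type u) [Field K] [Algebra k K] [Algebra B K] [IsScalarTower k B K] [IsFractionRing B K]

/-- On a variety which is not proper some divisorial valuation has no centre. -/
theorem exists_divisorial [IsAlgClosed k] [GrpObj G] [IrreducibleSpace G.left] [IsSeparated G.hom] [LocallyOfFiniteType G.hom]
    [QuasiCompact G.hom] (hG : ¬ IsProper G.hom) {d : ℕ} (hd : Algebra.trdeg k K = d) :
    ∃ (R : ValuationSubring K) (hR : ∀ a : k, algebraMap k K a ∈ R) (J : Type u) (r : J → K),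
      Cardinal.mk J = (d - 1 : ℕ) ∧ ResIndep (k := k) R r ∧
      (letI := valAlg R hR
       ∀ (f : sp k R ⟶ G) (incl₀ : R →ₐ[k] K), (∀ x : R, incl₀ x = (x : K)) → pt incl₀ ≫ f ≠ gen j K) := by
  classical
  obtain ⟨Y, jY, gY, hjY, -, hgY, hjg⟩ := NagataCompLib.exists_compactification G.hom
  let Gb : Over (Spec (CommRingCat.of k)) := Over.mk gY
  let jO : G ⟶ Gb := Over.homMk jY hjg
  haveI : IsOpenImmersion jO.left := hjY
  haveI : IsProper Gb.hom := hgY
  obtain ⟨z, hz, hzn⟩ : ∃ z, z ∈ closure (Set.range jO.left) ∧ z ∉ Set.range jO.left := by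
    by_contra hne
    push Not at hne
    have hcl : IsClosed (Set.range jO.left) := isClosed_of_closure_subset hne
    haveI : IsClosedImmersion jO.left := IsClosedImmersion.of_isPreimmersion jO.left hcl
    exact hG (by rw [← Over.w jO]; infer_instance)
  -- the generic point
  let η₀ : G.left := (gen j K).left (⊥ : PrimeSpectrum K)
  have hη : jO.left η₀ ⤳ z := by
    have hgen : ∀ x : G.left, η₀ ⤳ x := fun x => specializes_iff_forall_open.2 fun U hU hx =>
      gen_mem j K _ (U := ⟨U, hU⟩) ⟨x, hx⟩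
    rw [specializes_iff_mem_closure]
    refine closure_minimal ?_ isClosed_closure hz
    rintro _ ⟨x, rfl⟩
    exact specializes_iff_mem_closure.1 ((hgen x).map jO.left.continuous)
  obtain ⟨W, hW, hzW, -⟩ := exists_isAffineOpen_mem_and_subset (X := Gb.left) (x := z) (U := ⊤) trivial
  let A₀ : Type u := Γ(Gb.left, W)
  obtain ⟨c, hc⟩ := Spec.map_surjective (hW.fromSpec ≫ Gb.hom)
  letI : Algebra k A₀ := c.hom.toAlgebra
  let jW₀ : sp k A₀ ⟶ Gb := Over.homMk hW.fromSpec (by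
    show hW.fromSpec ≫ Gb.hom = Spec.map (CommRingCat.ofHom c.hom)
    rw [← hc]
    rfl)
  let jW : Chart Gb A₀ := ⟨jW₀, inferInstanceAs (IsOpenImmersion hW.fromSpec)⟩
  haveI : Algebra.FiniteType k A₀ := by
    haveI : LocallyOfFiniteType (Spec.map c) := by rw [hc]; infer_instance
    exact (HasRingHomProperty.Spec_iff (P := @LocallyOfFiniteType)).1 this
  have hopens : jW.opens = W := TopologicalSpace.Opens.ext (hW.range_fromSpec)
  haveI : IsOpenImmersion jW.j.left := jW.open_j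
  obtain ⟨φ₀, hφ₀⟩ := jW.exists_lift (gen j K ≫ jO) (by
    rintro _ ⟨p, rfl⟩
    rw [hopens]
    have : (gen j K).left p = η₀ := congrArg _ (@Subsingleton.elim (PrimeSpectrum K) _ _ _)
    rw [Over.comp_left, Scheme.Hom.comp_apply, this]
    exact hη.mem_open W.2 hzW)
  obtain ⟨P₀, hP₀⟩ : z ∈ Set.range jW.j.left :=
    (hW.range_fromSpec.symm ▸ hzW : z ∈ Set.range hW.fromSpec)
  let P₀' : PrimeSpectrum A₀ := P₀
  let Q₀ : PrimeSpectrum A₀ := (pt φ₀).left (⊥ : PrimeSpectrum K)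
  have hQ₀ : jW.j.left Q₀ = jO.left η₀ := by
    have e := congrArg (fun f => f.left (⊥ : PrimeSpectrum K)) hφ₀
    simp only [Over.comp_left, Scheme.Hom.comp_apply] at e
    exact e.symm
  have hker : ∀ a : A₀, φ₀ a = 0 → a ∈ Q₀.asIdeal := fun a ha =>
    show φ₀ a ∈ (⊥ : Ideal K) from ha ▸ zero_mem _
  have hQP : Q₀.asIdeal ≤ P₀'.asIdeal := by
    rw [show Q₀.asIdeal ≤ P₀'.asIdeal ↔ Q₀ ≤ P₀' from Iff.rfl, PrimeSpectrum.le_iff_specializes]
    refine (jW.j.left.isOpenEmbedding.isEmbedding.isInducing.specializes_iff).1 ?_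
    show jW.j.left Q₀ ⤳ jW.j.left P₀
    rw [hQ₀, hP₀]
    exact hη
  -- the boundary
  let T : Set (PrimeSpectrum A₀) := jW.j.left ⁻¹' (Set.range jO.left)ᶜ
  have hTc : IsClosed T := (jO.left.isOpenEmbedding.isOpen_range.isClosed_compl).preimage jW.j.left.continuous
  let I : Ideal A₀ := PrimeSpectrum.vanishingIdeal T
  have hIT : PrimeSpectrum.zeroLocus (I : Set A₀) = T := by
    rw [PrimeSpectrum.zeroLocus_vanishingIdeal_eq_closure, hTc.closure_eq]
  have hIP : I ≤ P₀'.asIdeal := fun a ha => by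
    have : P₀' ∈ T := show jW.j.left P₀ ∈ (Set.range jO.left)ᶜ from hP₀.symm ▸ hzn
    rw [← hIT] at this
    exact this ha
  obtain ⟨s₀, hs₀, hs₀'⟩ : ∃ s ∈ I, φ₀ s ≠ 0 := by
    by_contra hne
    push Not at hne
    have : Q₀ ∈ T := hIT ▸ fun a ha => hker a (hne a ha)
    exact this ⟨η₀, hQ₀.symm⟩
  -- the fractions
  have hfracB : ∀ b : B, ∃ a s : A₀, φ₀ s ≠ 0 ∧ algebraMap B K b * φ₀ s = φ₀ a := by
    let jB' : Chart Gb B := ⟨j.j ≫ jO, by
      rw [Over.comp_left]
      haveI := j.open_j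
      infer_instance⟩
    have hmem : jW.j.left Q₀ ∈ jB'.opens := by
      rw [hQ₀]
      refine ⟨(pt (IsScalarTower.toAlgHom k B K)).left (⊥ : PrimeSpectrum K), ?_⟩
      show (j.j ≫ jO).left _ = _
      rw [Over.comp_left, Scheme.Hom.comp_apply]
      rfl
    obtain ⟨s, ψ, hs, hψ⟩ := exists_away jB' jW.j Q₀ hmem
    have hs0 : φ₀ s ≠ 0 := fun h => hs (hker s h)
    let e : Localization.Away s →ₐ[k] K :=
      IsLocalization.liftAlgHom (M := Submonoid.powers s) (f := φ₀) fun y => by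
        obtain ⟨_, n, rfl⟩ := y
        rw [map_pow]
        exact (isUnit_iff_ne_zero.2 hs0).pow n
    have he : e.comp ψ = IsScalarTower.toAlgHom k B K := by
      apply pt_injective
      haveI : IsOpenImmersion jB'.j.left := jB'.open_j
      haveI : Mono jB'.j := Over.mono_of_mono_left _
      rw [← cancel_mono jB'.j, pt_comp, Category.assoc, ← hψ, ← Category.assoc, ← pt_comp,
        show e.comp (IsScalarTower.toAlgHom k A₀ (Localization.Away s)) = φ₀ from
          AlgHom.ext fun x => IsLocalization.lift_eq _ _, ← hφ₀, gen, Category.assoc]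
    intro b
    obtain ⟨a, ⟨_, n, rfl⟩, ha⟩ := IsLocalization.exists_mk'_eq (Submonoid.powers s) (ψ b)
    refine ⟨a, s ^ n, by rw [map_pow]; exact pow_ne_zero n hs0, ?_⟩
    rw [show algebraMap B K b = e (ψ b) from (AlgHom.congr_fun he b).symm, ← ha]
    exact ((congrArg (e _ * ·) (IsLocalization.lift_eq _ _).symm).trans (map_mul e _ _).symm).trans
      ((congrArg e (IsLocalization.mk'_spec _ a (⟨s ^ n, ⟨n, rfl⟩⟩ : Submonoid.powers s))).trans (IsLocalization.lift_eq _ _))
  -- a valuation centred at the boundary point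
  let C₀ : Subring K := φ₀.toRingHom.range
  let zI : Ideal C₀ := P₀'.asIdeal.map φ₀.toRingHom.rangeRestrict
  have hzI : zI ≠ ⊤ := by
    intro h
    have h2 := congrArg (Ideal.comap φ₀.toRingHom.rangeRestrict) h
    rw [Ideal.comap_map_of_surjective _ φ₀.toRingHom.rangeRestrict_surjective, Ideal.comap_top,
      sup_eq_left.2 (fun a ha => hQP (hker a (congrArg Subtype.val (show φ₀.toRingHom.rangeRestrict a = 0 from ha))))] at h2
    exact P₀'.2.ne_top h2
  obtain ⟨V₁, hV₁, hV₁n⟩ := Ideal.image_subset_nonunits_valuationSubring zI hzI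
  have hAV : ∀ a : A₀, φ₀ a ∈ V₁ := fun a => hV₁ ⟨a, rfl⟩
  have hIV : ∀ a ∈ I, V₁.valuation (φ₀ a) < 1 := fun a ha =>
    hV₁n ⟨φ₀.toRingHom.rangeRestrict a, Ideal.mem_map_of_mem _ (hIP ha), rfl⟩
  haveI : IsNoetherianRing A₀ := Algebra.FiniteType.isNoetherianRing k A₀
  obtain ⟨T₀, hT₀⟩ := IsNoetherian.noetherian I
  obtain ⟨t₁, ht₁, ht₁'⟩ : ∃ t ∈ T₀, φ₀ t ≠ 0 := by
    by_contra hne
    push Not at hne
    refine hs₀' ?_
    have : I ≤ RingHom.ker φ₀ := by
      rw [← hT₀, Submodule.span_le]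
      exact fun t ht => hne t ht
    exact this hs₀
  obtain ⟨b₀, hb₀, hmax⟩ := T₀.exists_max_image (fun t => V₁.valuation (φ₀ t)) ⟨t₁, ht₁⟩
  have hb₀' : φ₀ b₀ ≠ 0 := fun h => by
    have := hmax t₁ ht₁
    rw [h, map_zero, le_zero_iff, Valuation.zero_iff] at this
    exact ht₁' this
  have hb₀I : b₀ ∈ I := hT₀ ▸ Submodule.subset_span hb₀
  obtain ⟨GA, hGA⟩ := (inferInstance : Algebra.FiniteType k A₀).out
  let gens : Finset K := GA.image φ₀ ∪ T₀.image fun t => φ₀ t / φ₀ b₀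
  let A₁ := Algebra.adjoin k (gens : Set K)
  have hA₀₁ : ∀ a : A₀, φ₀ a ∈ A₁ := fun a => by
    have : Algebra.adjoin k (GA : Set A₀) ≤ A₁.comap φ₀ := Algebra.adjoin_le fun x hx =>
      Algebra.subset_adjoin (Finset.mem_union_left _ (Finset.mem_image_of_mem φ₀ hx))
    exact this (hGA ▸ Algebra.mem_top)
  have hkV : ∀ a : k, algebraMap k K a ∈ V₁ := fun a => φ₀.commutes a ▸ hAV _
  have hA₁V : ∀ x ∈ A₁, x ∈ V₁ := fun x hx => by
    refine Algebra.adjoin_le (S := ({ V₁.toSubring with algebraMap_mem' := hkV } : Subalgebra k K)) ?_ hx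
    intro y hy
    rcases Finset.mem_union.1 hy with h | h <;> obtain ⟨t, ht, rfl⟩ := Finset.mem_image.1 h
    · exact hAV t
    · show φ₀ t / φ₀ b₀ ∈ V₁
      rw [← ValuationSubring.valuation_le_one_iff, map_div₀,
        div_le_one₀ (zero_lt_iff.2 ((Valuation.ne_zero_iff _).2 hb₀'))]
      exact hmax t ht
  haveI : Algebra.FiniteType k A₁ := ⟨(Subalgebra.fg_top A₁).2 (Subalgebra.fg_adjoin_finset gens)⟩
  haveI : IsFractionRing A₁ K := IsFractionRing.of_field A₁ K fun w => by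
    obtain ⟨a, c, hc', rfl⟩ := IsFractionRing.div_surjective (A := B) w
    obtain ⟨a₁, s₁, hs₁, e₁⟩ := hfracB a
    obtain ⟨a₂, s₂, hs₂, e₂⟩ := hfracB c
    refine ⟨⟨φ₀ a₁, hA₀₁ _⟩ * ⟨φ₀ s₂, hA₀₁ _⟩, ⟨φ₀ s₁, hA₀₁ _⟩ * ⟨φ₀ a₂, hA₀₁ _⟩, ?_⟩
    show _ = φ₀ a₁ * φ₀ s₂ / (φ₀ s₁ * φ₀ a₂)
    rw [← e₁, ← e₂]
    field_simp
  let β : A₁ := ⟨φ₀ b₀, hA₀₁ _⟩
  have hβ0 : β ≠ 0 := fun h => hb₀' (congrArg Subtype.val h)
  have hβu : ¬ IsUnit β := by
    intro hu
    obtain ⟨w, hw⟩ := hu.exists_right_inv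
    have h1 : V₁.valuation (φ₀ b₀) * V₁.valuation (w : K) = 1 := by
      rw [← map_mul, show φ₀ b₀ * (w : K) = 1 from congrArg Subtype.val hw, map_one]
    have h2 : V₁.valuation (φ₀ b₀) * V₁.valuation (w : K) < 1 :=
      mul_lt_one_of_lt_of_le (hIV b₀ hb₀I) ((V₁.valuation_le_one_iff _).2 (hA₁V _ w.2))
    exact h2.ne h1
  obtain ⟨P, hP⟩ := (Ideal.span {β}).nonempty_minimalPrimes (by rwa [Ne, Ideal.span_singleton_eq_top])
  haveI : P.IsPrime := hP.isPrime
  haveI : IsNoetherianRing A₁ := Algebra.FiniteType.isNoetherianRing k A₁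
  have hβP : β ∈ P := hP.le (Ideal.mem_span_singleton_self β)
  have hIP₁ : ∀ a ∈ I, (⟨φ₀ a, hA₀₁ a⟩ : A₁) ∈ P := by
    let φ₁ : A₀ →+* A₁ := RingHom.codRestrict φ₀.toRingHom A₁.toSubring hA₀₁
    have : I ≤ P.comap φ₁ := by
      rw [← hT₀, Ideal.span_le]
      intro t ht
      show (⟨φ₀ t, hA₀₁ t⟩ : A₁) ∈ P
      let q : A₁ := ⟨φ₀ t / φ₀ b₀, Algebra.subset_adjoin (Finset.mem_union_right _ (Finset.mem_image.2 ⟨t, ht, rfl⟩))⟩
      rw [show (⟨φ₀ t, hA₀₁ t⟩ : A₁) = β * q from Subtype.ext (mul_div_cancel₀ _ hb₀').symm]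
      exact P.mul_mem_right _ hβP
    exact fun a ha => this ha
  obtain ⟨n, hn, hn'⟩ := WeilLib.dim_eq_trdeg k A₁ K
  have hnd : n = d := Nat.cast_inj.1 (hn'.symm.trans hd)
  obtain ⟨m, hm, hm'⟩ := WeilLib.dim_eq_trdeg k (A₁ ⧸ P) (FractionRing (A₁ ⧸ P))
  have hm1 : d - 1 ≤ m := by
    have hsum := FibDimLib.ringKrullDim_quotient_add_height_affine k A₁ P
    have hht := Ideal.height_le_one_of_isPrincipal_of_mem_minimalPrimes (Ideal.span {β}) P hP
    rw [hn, hm] at hsum
    obtain ⟨q, hq⟩ := ENat.ne_top_iff_exists.1 (Ideal.height_ne_top (Ideal.IsPrime.ne_top ‹P.IsPrime›))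
    rw [← hq] at hsum hht
    have h2 : m + q = n := by exact_mod_cast hsum
    have h3 : q ≤ 1 := by exact_mod_cast hht
    omega
  -- residues
  obtain ⟨S, hS⟩ := exists_isTranscendenceBasis k (A₁ ⧸ P)
  haveI : Algebra.IsAlgebraic (A₁ ⧸ P) (FractionRing (A₁ ⧸ P)) :=
    IsLocalization.isAlgebraic _ (nonZeroDivisors (A₁ ⧸ P))
  have hScard : Cardinal.mk S = m :=
    (IsTranscendenceBasis.algebraMap_comp (A := FractionRing (A₁ ⧸ P)) hS).cardinalMk_eq_trdeg.trans hm'
  obtain ⟨S', hS'⟩ : ∃ S' : Set S, Cardinal.mk S' = (d - 1 : ℕ) := by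
    obtain ⟨S', -, h⟩ := Cardinal.le_mk_iff_exists_subset.1 (show ((d - 1 : ℕ) : Cardinal) ≤ Cardinal.mk (Set.univ : Set S) by
      rw [Cardinal.mk_univ, hScard]; exact_mod_cast hm1)
    exact ⟨S', h⟩
  choose r hr using fun x : S' => Ideal.Quotient.mk_surjective (I := P) (x.1.1)
  let Ps : Ideal A₁.toSubring := P
  haveI : Ps.IsPrime := ‹P.IsPrime›
  obtain ⟨V, hV⟩ := (LocalSubring.ofPrime A₁.toSubring Ps).exists_le_valuationSubring
  have hA₁V' : ∀ x : A₁, (x : K) ∈ V := fun x => hV.1 (LocalSubring.le_ofPrime _ _ x.2)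
  have hunit : ∀ x : A₁, x ∉ P → V.valuation (x : K) = 1 := by
    intro x hx
    refine (V.valuation_eq_one_iff ⟨_, hA₁V' x⟩).1 ?_
    have h1 : IsUnit (algebraMap A₁.toSubring (LocalSubring.ofPrime A₁.toSubring Ps).toSubring x) :=
      IsLocalization.map_units (M := Ps.primeCompl) _ ⟨x, hx⟩
    exact h1.map (Subring.inclusion hV.1)
  have hPV : ∀ x : A₁, x ∈ P → V.valuation (x : K) < 1 := by
    intro x hx
    refine (V.valuation_lt_one_iff ⟨_, hA₁V' x⟩).1 ?_
    intro hu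
    haveI : IsLocalHom (Subring.inclusion hV.1) := hV.2
    have h1 := isUnit_of_map_unit (Subring.inclusion hV.1)
      (algebraMap A₁.toSubring (LocalSubring.ofPrime A₁.toSubring Ps).toSubring x) hu
    exact ((IsLocalization.AtPrime.isUnit_to_map_iff _ Ps x).1 h1) hx
  have hR : ∀ a : k, algebraMap k K a ∈ V := fun a => hA₁V' (algebraMap k A₁ a)
  refine ⟨V, hR, S', fun x => (r x : K), hS', ⟨fun x => hA₁V' _, fun p hp => ?_⟩, ?_⟩
  · rw [show MvPolynomial.aeval (fun x => (r x : K)) p = A₁.val (MvPolynomial.aeval r p) from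
      (AlgHom.congr_fun (MvPolynomial.comp_aeval r A₁.val) p).symm]
    refine hunit _ fun hmem => hp ?_
    have hi : AlgebraicIndependent k (fun x : S' => (x.1.1 : A₁ ⧸ P)) := hS.1.comp _ Subtype.val_injective
    refine algebraicIndependent_iff.1 hi p ?_
    rw [show (fun x : S' => (x.1.1 : A₁ ⧸ P)) = fun x => Ideal.Quotient.mkₐ k P (r x) from funext fun x => (hr x).symm]
    exact ((AlgHom.congr_fun (MvPolynomial.comp_aeval r (Ideal.Quotient.mkₐ k P)) p).symm).trans
      (Ideal.Quotient.eq_zero_iff_mem.2 hmem)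
  · -- no centre
    letI := valAlg V hR
    intro f incl₀ hincl₀ hf
    let φV : A₀ →ₐ[k] V :=
      { RingHom.codRestrict φ₀.toRingHom V.toSubring (fun a => hA₁V' ⟨φ₀ a, hA₀₁ a⟩) with
        commutes' := fun a => Subtype.ext (φ₀.commutes a) }
    have hφV : incl₀.comp φV = φ₀ := AlgHom.ext fun a => hincl₀ (φV a)
    have e : pt incl₀ ≫ (f ≫ jO) = pt incl₀ ≫ (pt φV ≫ jW.j) := by
      rw [← Category.assoc, hf, ← Category.assoc, ← pt_comp, hφV, ← hφ₀]
    haveI : IsDominant (pt incl₀).left := by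
      refine ⟨?_⟩
      rw [DenseRange, dense_iff_closure_eq]
      refine Set.eq_univ_of_forall fun p => ?_
      refine closure_mono (Set.singleton_subset_iff.2 (Set.mem_range_self (⊥ : PrimeSpectrum K)))
        (specializes_iff_mem_closure.1 ?_)
      show (show PrimeSpectrum V from (pt incl₀).left (⊥ : PrimeSpectrum K)) ⤳ (show PrimeSpectrum V from p)
      rw [← PrimeSpectrum.le_iff_specializes]
      intro x hx
      have h0 : (x : K) = 0 := (hincl₀ x) ▸ (Ideal.mem_bot.1 hx)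
      rw [show x = 0 from Subtype.ext h0]
      exact zero_mem _
    haveI : IsReduced (sp k V).left := inferInstanceAs (IsReduced (Spec (CommRingCat.of V)))
    have e2 : (f ≫ jO).left = (pt φV ≫ jW.j).left :=
      ext_of_isDominant_of_isSeparated Gb.hom (by rw [Over.w, Over.w]) (pt incl₀).left
        (by rw [← Over.comp_left, ← Over.comp_left, e])
    let p : PrimeSpectrum V := IsLocalRing.closedPoint V
    have e3 := congrArg (fun h => h p) e2
    simp only [Over.comp_left, Scheme.Hom.comp_apply] at e3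
    have hmem : (pt φV).left p ∈ PrimeSpectrum.zeroLocus (I : Set A₀) := fun a ha => by
      show φV a ∈ IsLocalRing.maximalIdeal V
      exact (V.valuation_lt_one_iff (φV a)).2 (hPV _ (hIP₁ a ha))
    rw [hIT] at hmem
    exact hmem ⟨f.left p, e3⟩

end ChevThmLib

end
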