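import Groth.Agent.ChevThmLib.Residue
import Groth.Agent.NormFin.Field
import Groth.Agent.FibDimLib.Formula
import Groth.Agent.WeilLib.Dim

/-!
# An affine model of a valuation ring of maximal residue transcendence degree
-/

set_option autoImplicit false
set_option linter.style.haveILetI false
set_option maxHeartbeats 1000000

universe u

open IsLocalRing

noncomputable section

namespace ChevThmLib

variable (k : Type u) [Field k] {K : Type u} [Field K] [Algebra k K]

/-- Such a valuation ring is a localisation of a finitely generated algebra at a height one prime. -/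
theorem exists_model (R' : ValuationSubring K) (hR : ∀ a : k, algebraMap k K a ∈ R') (hne : R' ≠ ⊤)
    {B : Type u} [CommRing B] [IsDomain B] [Algebra k B] [Algebra.FiniteType k B] [Algebra B K]
    [IsScalarTower k B K] [IsFractionRing B K] {d : ℕ} (hd : Algebra.trdeg k K = d)
    (hres : letI : Algebra k R' := (RingHom.codRestrict (algebraMap k K) R'.toSubring hR).toAlgebra
      letI : Algebra k (ResidueField R') := ((residue R').comp (algebraMap k R')).toAlgebra
      ((d - 1 : ℕ) : Cardinal) ≤ Algebra.trdeg k (ResidueField R')) :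
    ∃ A : Subalgebra k K, Algebra.FiniteType k A ∧ IsFractionRing A K ∧ (∀ a ∈ A, a ∈ R') ∧
      ∀ f ∈ R', ∃ a ∈ A, ∃ s ∈ A, R'.valuation s = 1 ∧ f * s = a := by
  classical
  letI : Algebra k R' := (RingHom.codRestrict (algebraMap k K) R'.toSubring hR).toAlgebra
  letI : Algebra k (ResidueField R') := ((residue R').comp (algebraMap k R')).toAlgebra
  obtain ⟨T, hT⟩ := (inferInstance : Algebra.FiniteType k B).out
  obtain ⟨t, ht⟩ := exists_isTranscendenceBasis k (ResidueField R')
  have hcard : ((d - 1 : ℕ) : Cardinal) ≤ Cardinal.mk t := by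
    rw [ht.cardinalMk_eq_trdeg]
    exact hres
  obtain ⟨s, hst, hs⟩ := Cardinal.le_mk_iff_exists_subset.1 hcard
  have hsfin : s.Finite := by
    rw [← Set.finite_coe_iff, ← Cardinal.lt_aleph0_iff_finite, hs]
    exact Cardinal.natCast_lt_aleph0
  choose r hr using fun x : ResidueField R' => residue_surjective (R := R') x
  let nrm : B → K := fun b => if algebraMap B K b ∈ R' then algebraMap B K b else (algebraMap B K b)⁻¹
  let gen : Finset K := T.image nrm ∪ hsfin.toFinset.image (fun x => (r x : K))
  have hgen : ∀ x ∈ gen, x ∈ R' := by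
    intro x hx
    rcases Finset.mem_union.1 hx with h | h <;> obtain ⟨y, -, rfl⟩ := Finset.mem_image.1 h
    · by_cases hy : algebraMap B K y ∈ R'
      · simp only [nrm, if_pos hy]; exact hy
      · simp only [nrm, if_neg hy]; exact (R'.mem_or_inv_mem _).resolve_left hy
    · exact (r y).2
  let R'a : Subalgebra k K := { R'.toSubring with algebraMap_mem' := hR }
  let A₀ := Algebra.adjoin k (gen : Set K)
  have hA₀ : ∀ a ∈ A₀, a ∈ R' := fun a ha => Algebra.adjoin_le (S := R'a) hgen ha
  haveI : Algebra.FiniteType k A₀ := ⟨(Subalgebra.fg_top A₀).2 (Subalgebra.fg_adjoin_finset gen)⟩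
  -- the fractions
  have hfrac : ∀ b : B, ∃ u v : A₀, v ≠ 0 ∧ algebraMap B K b * (v : K) = (u : K) := by
    let F : IntermediateField k K := IntermediateField.adjoin k (A₀ : Set K)
    intro b
    have hb : algebraMap B K b ∈ F := by
      have : b ∈ (F.toSubalgebra.comap (IsScalarTower.toAlgHom k B K)) := by
        refine Algebra.adjoin_le (s := (T : Set B)) ?_ (hT ▸ Algebra.mem_top)
        intro y hy
        have h1 : nrm y ∈ F := IntermediateField.subset_adjoin _ _
          (Algebra.subset_adjoin (Finset.mem_union_left _ (Finset.mem_image_of_mem nrm hy)))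
        show algebraMap B K y ∈ F
        by_cases hy' : algebraMap B K y ∈ R'
        · simpa only [nrm, if_pos hy'] using h1
        · simp only [nrm, if_neg hy'] at h1
          simpa using inv_mem h1
      exact this
    rw [IntermediateField.mem_adjoin_iff_div] at hb
    obtain ⟨u, hu, v, hv, e⟩ := hb
    rw [Algebra.adjoin_eq] at hu hv
    by_cases h0 : v = 0
    · refine ⟨0, 1, one_ne_zero, ?_⟩
      rw [e, h0, div_zero, zero_mul]
      rfl
    · exact ⟨⟨u, hu⟩, ⟨v, hv⟩, fun h => h0 (congrArg Subtype.val h),
        by rw [e, div_mul_cancel₀ _ h0]⟩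
  haveI hF₀ : IsFractionRing A₀ K := IsFractionRing.of_field A₀ K fun z => by
    obtain ⟨b, c, -, rfl⟩ := IsFractionRing.div_surjective (A := B) z
    obtain ⟨u, v, hv, h1⟩ := hfrac b
    obtain ⟨u', v', hv', h2⟩ := hfrac c
    have hv0 : (v : K) ≠ 0 := fun h => hv (Subtype.ext h)
    have hv0' : (v' : K) ≠ 0 := fun h => hv' (Subtype.ext h)
    refine ⟨u * v', v * u', ?_⟩
    show _ = ((u : K) * v') / (v * u')
    rw [← h1, ← h2]
    field_simp
  haveI : Algebra.IsIntegral A₀ (integralClosure A₀ K) := inferInstance
  haveI := NormFinLib.finite_integralClosure_of_finiteType_field k A₀ K K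
  let C := integralClosure A₀ K
  let A : Subalgebra k K := C.restrictScalars k
  have hA : ∀ a ∈ A, a ∈ R' := by
    intro a ha
    have hint : IsIntegral A₀ a := ha
    have hint' : IsIntegral R' a := by
      letI : Algebra A₀ R' := (RingHom.codRestrict A₀.val.toRingHom R'.toSubring fun x => hA₀ x x.2).toAlgebra
      haveI : IsScalarTower A₀ R' K := IsScalarTower.of_algebraMap_eq fun _ => rfl
      exact hint.tower_top
    obtain ⟨y, hy⟩ := (IsIntegrallyClosed.isIntegral_iff (R := R') (K := K)).1 hint'
    exact hy ▸ y.2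
  haveI hft : Algebra.FiniteType k A :=
    (Algebra.FiniteType.trans (inferInstance : Algebra.FiniteType k A₀) inferInstance : Algebra.FiniteType k C)
  haveI : IsFractionRing A K := inferInstanceAs (IsFractionRing C K)
  refine ⟨A, hft, inferInstance, hA, ?_⟩
  let ι : A →+* R' := RingHom.codRestrict A.val.toRingHom R'.toSubring fun x => hA x x.2
  let π : A →+* ResidueField R' := (residue R').comp ι
  let p : Ideal A := RingHom.ker π
  haveI : p.IsPrime := RingHom.ker_isPrime π
  have hval : ∀ a : A, a ∉ p → R'.valuation (a : K) = 1 := fun a ha =>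
    (R'.valuation_eq_one_iff (ι a)).1 (by
      by_contra hnu
      exact ha ((residue_eq_zero_iff (ι a)).2 hnu))
  have hp : p ≠ ⊥ := by
    intro h0
    apply hne
    refine eq_top_iff.2 fun z _ => ?_
    obtain ⟨a, b, hb, rfl⟩ := IsFractionRing.div_surjective (A := A) z
    rw [← ValuationSubring.valuation_le_one_iff, map_div₀]
    rw [show R'.valuation (algebraMap A K b) = 1 from hval b (by
      rw [h0]; exact fun h => nonZeroDivisors.ne_zero hb h), div_one]
    exact (R'.valuation_le_one_iff _).2 (hA _ a.2)
  -- the dimension of the quotient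
  letI : Algebra k (A ⧸ p) := inferInstance
  haveI : IsNoetherianRing A := Algebra.FiniteType.isNoetherianRing k A
  obtain ⟨m, hm, hm'⟩ := WeilLib.dim_eq_trdeg k (A ⧸ p) (FractionRing (A ⧸ p))
  have hm1 : d - 1 ≤ m := by
    let πa : A →ₐ[k] ResidueField R' := { π with commutes' := fun a => rfl }
    let e : A ⧸ p →ₐ[k] ResidueField R' := Ideal.Quotient.liftₐ p πa fun a ha => ha
    let w : s → A ⧸ p := fun x => Ideal.Quotient.mk p ⟨r x.1,
      (integralClosure A₀ K).algebraMap_mem (⟨r x.1, Algebra.subset_adjoin
        (Finset.mem_union_right _ (Finset.mem_image_of_mem _ (hsfin.mem_toFinset.2 x.2)))⟩ : A₀)⟩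
    have hew : (e : A ⧸ p → ResidueField R') ∘ w = fun x : s => (x.1 : ResidueField R') := by
      funext x
      exact hr x.1
    have hw : AlgebraicIndependent k w := AlgebraicIndependent.of_comp e (by
      rw [hew]
      exact ht.1.mono hst)
    have h2 := (hw.map' (f := IsScalarTower.toAlgHom k (A ⧸ p) (FractionRing (A ⧸ p)))
      (IsFractionRing.injective _ _)).cardinalMk_le_trdeg
    rw [hs, hm', Nat.cast_le] at h2
    exact h2
  obtain ⟨n, hn, hn'⟩ := WeilLib.dim_eq_trdeg k A K
  have hnd : n = d := Nat.cast_inj.1 (hn'.symm.trans hd)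
  have hht : p.height ≤ 1 := by
    have hsum := FibDimLib.ringKrullDim_quotient_add_height_affine k A p
    rw [hn, hm] at hsum
    haveI : p.FiniteHeight := inferInstance
    obtain ⟨q, hq⟩ := ENat.ne_top_iff_exists.1 (Ideal.height_ne_top (Ideal.IsPrime.ne_top ‹p.IsPrime›))
    rw [← hq] at hsum ⊢
    have h2 : m + q = n := by exact_mod_cast hsum
    exact_mod_cast (show q ≤ 1 by omega)
  -- the localisation
  let L := Localization.AtPrime p
  haveI : IsDomain L := IsLocalization.isDomain_localization p.primeCompl_le_nonZeroDivisors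
  haveI : IsNoetherianRing L := IsLocalization.isNoetherianRing p.primeCompl _ inferInstance
  haveI : IsIntegrallyClosed A := (integralClosure.isIntegrallyClosedOfFiniteExtension K : IsIntegrallyClosed C)
  haveI : IsIntegrallyClosed L := isIntegrallyClosed_of_isLocalization L p.primeCompl p.primeCompl_le_nonZeroDivisors
  have hLf : maximalIdeal L ≠ ⊥ := by
    intro h0
    obtain ⟨a, ha, ha0⟩ := Submodule.exists_mem_ne_zero_of_ne_bot hp
    have : algebraMap A L a ∈ maximalIdeal L := (IsLocalization.AtPrime.to_map_mem_maximal_iff L p a).2 ha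
    rw [h0, Ideal.mem_bot] at this
    exact ha0 ((injective_iff_map_eq_zero _).1 (IsLocalization.injective L p.primeCompl_le_nonZeroDivisors) a this)
  have huniq : ∃! P : Ideal L, P ≠ ⊥ ∧ P.IsPrime := by
    refine ⟨maximalIdeal L, ⟨hLf, inferInstance⟩, ?_⟩
    rintro P ⟨hP, hP'⟩
    haveI := hP'
    by_contra hne'
    have h1 : P.height + 1 ≤ (maximalIdeal L).height :=
      Ideal.height_add_one_le_of_lt_of_isPrime (lt_of_le_of_ne (le_maximalIdeal hP'.ne_top) hne')
    have h2 : (maximalIdeal L).height = p.height := by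
      rw [← IsLocalization.height_under p.primeCompl (maximalIdeal L), Localization.AtPrime.comap_maximalIdeal]
    have h3 : (⊥ : Ideal L).height + 1 ≤ P.height := Ideal.height_add_one_le_of_lt_of_isPrime hP.bot_lt
    have h4 : (1 : ℕ∞) + 1 ≤ p.height :=
      (add_le_add_left ((le_add_self).trans h3) 1).trans (h2 ▸ h1)
    exact absurd (h4.trans hht) (by decide)
  have hnf : ¬ IsField L := fun hf => hLf (IsLocalRing.isField_iff_maximalIdeal_eq.1 hf)
  have htfae : (IsIntegrallyClosed L ∧ ∃! P : Ideal L, P ≠ ⊥ ∧ P.IsPrime) ↔ ValuationRing L :=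
    (IsDiscreteValuationRing.TFAE L hnf).out 3 1
  haveI : ValuationRing L := htfae.1 ⟨inferInstance, huniq⟩
  let φ : L →+* K := IsLocalization.lift (M := p.primeCompl) (g := algebraMap A K) fun y =>
    isUnit_iff_ne_zero.2 fun h => y.2 (by
      rw [(injective_iff_map_eq_zero _).1 (IsFractionRing.injective A K) y.1 h]
      exact zero_mem p)
  have hφ : ∀ (a : A) (b : p.primeCompl), φ (IsLocalization.mk' L a b) * (b.1 : K) = (a : K) := fun a b => by
    have := congrArg φ (IsLocalization.mk'_spec L a b)
    rwa [map_mul, IsLocalization.lift_eq, IsLocalization.lift_eq] at this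
  intro f hf
  obtain ⟨a, b, hb, rfl⟩ := IsFractionRing.div_surjective (A := A) f
  have hb0 : (b : K) ≠ 0 := fun h => nonZeroDivisors.ne_zero hb (Subtype.ext h)
  obtain ⟨x, hx | hx⟩ := ValuationRing.cond (algebraMap A L a) (algebraMap A L b)
  · -- the numerator divides
    obtain ⟨c, s', rfl⟩ := IsLocalization.exists_mk'_eq p.primeCompl x
    have e := congrArg φ hx
    rw [map_mul, IsLocalization.lift_eq, IsLocalization.lift_eq] at e
    have e2 := hφ c s'
    by_cases hc : c ∈ p
    · exfalso
      have hvc : R'.valuation (c : K) < 1 := (R'.valuation_lt_one_iff (ι c)).1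
        (by rw [← residue_eq_zero_iff]; exact hc)
      have hvs := hval s'.1 s'.2
      have h5 := congrArg R'.valuation e2
      rw [map_mul, hvs, mul_one] at h5
      have h6 : R'.valuation (algebraMap A K a / algebraMap A K b) ≤ 1 := (R'.valuation_le_one_iff _).2 hf
      have h7 := congrArg R'.valuation e
      rw [map_mul, h5] at h7
      rw [map_div₀] at h6
      by_cases ha0 : R'.valuation (algebraMap A K a) = 0
      · rw [ha0, zero_mul] at h7
        exact hb0 ((Valuation.zero_iff _).1 h7.symm)
      · have hb1 : 0 < R'.valuation (algebraMap A K b) := zero_lt_iff.2 ((Valuation.ne_zero_iff _).2 hb0)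
        rw [div_le_one₀ hb1, ← h7] at h6
        exact (mul_lt_of_lt_one_right (zero_lt_iff.2 ha0) hvc).not_ge h6
    · refine ⟨_, s'.1.2, _, c.2, hval c hc, ?_⟩
      show ((a : K) / b) * c = s'.1
      rw [div_mul_eq_mul_div, div_eq_iff hb0, ← e2, ← mul_assoc]
      rw [show (a : K) * φ (IsLocalization.mk' L c s') = (b : K) from e]
      ring
  · obtain ⟨c, s', rfl⟩ := IsLocalization.exists_mk'_eq p.primeCompl x
    have e := congrArg φ hx
    rw [map_mul, IsLocalization.lift_eq, IsLocalization.lift_eq] at e
    refine ⟨_, c.2, _, s'.1.2, hval s'.1 s'.2, ?_⟩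
    show ((a : K) / b) * s'.1 = c
    have hab : (a : K) / b = φ (IsLocalization.mk' L c s') := by
      rw [div_eq_iff hb0, mul_comm]
      exact e.symm
    rw [hab]
    exact hφ c s'

end ChevThmLib

end
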