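import Groth.Agent.ChevThmLib.Affine
import Groth.Agent.ChevThmLib.Divisorial
import Groth.Agent.ChevThmLib.Model
import Groth.Agent.GrpFieldLib.Identity
import Groth.Prelude

/-!
# An affine subgroup of positive dimension in a group which is not proper
-/

set_option autoImplicit false
set_option linter.style.haveILetI false
set_option backward.isDefEq.respectTransparency false
set_option maxHeartbeats 1600000

universe u

open CategoryTheory CategoryTheory.Limits MonoidalCategory CartesianMonoidalCategory AlgebraicGeometry CoactBr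
open scoped MonObj TensorProduct

noncomputable section

namespace ChevThmLib

attribute [-instance] CategoryTheory.Hom.commGroup

variable {k : Type u} [Field k] [IsAlgClosed k]

/-- The connected case. -/
theorem exists_affine_of_integral (G : Over (Spec (CommRingCat.of k))) [GrpObj G] [Smooth G.hom] [QuasiCompact G.hom]
    [IsIntegral G.left] (hG : ¬ IsProper G.hom) :
    ∃ (H : Over (Spec (CommRingCat.of k))) (_ : GrpObj H) (i : H ⟶ G), IsMonHom i ∧ IsClosedImmersion i.left ∧
      Smooth H.hom ∧ IsAffine H.left ∧ 0 < topologicalKrullDim ↥H.left := by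
  classical
  haveI : IsSeparated G.hom := Groth.Agent.GrpField.isSeparated_grp (G := G)
  obtain ⟨B, _, _, _, _, j, inv, -, hinv⟩ := exists_chart G
  let K := FractionRing B
  haveI : IsScalarTower k B K := inferInstance
  haveI : IsDomain (B ⊗[k] K) := by
    haveI := SweepSix.isDomain_tensor (k := k) K B
    exact (Algebra.TensorProduct.comm k B K).toRingEquiv.toMulEquiv.isDomain _
  let L := FractionRing (B ⊗[k] K)
  haveI : IsScalarTower k (B ⊗[k] K) L := inferInstance
  obtain ⟨S, hι, hact⟩ := exists_bir j K L inv hinv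
  obtain ⟨d, -, hd⟩ := WeilLib.dim_eq_trdeg k B K
  obtain ⟨R, hR, J, r, hJ, hr, hnc⟩ := exists_divisorial j K hG hd
  -- the invariant ring is proper
  have hnc' : ∀ gam, ∃ β : B, S.act gam ((IsScalarTower.toAlgHom k B K) β) ∉ R := by
    intro gam
    by_contra hne
    push Not at hne
    letI := valAlg R hR
    let incl₀ : R →ₐ[k] K := { R.subtype with commutes' := fun _ => rfl }
    let β₀ : B →ₐ[k] R :=
      { RingHom.codRestrict ((S.act gam).comp (IsScalarTower.toAlgHom k B K)).toRingHom R.toSubring hne with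
        commutes' := fun a => Subtype.ext (((S.act gam).comp (IsScalarTower.toAlgHom k B K)).commutes a) }
    refine hnc ((toUnit (sp k R) ≫ gam⁻¹) * (pt β₀ ≫ j.j)) incl₀ (fun _ => rfl) ?_
    rw [MonObj.comp_mul, ← Category.assoc, ← Category.assoc, ← pt_comp,
      toUnit_unique (pt incl₀ ≫ toUnit _) (toUnit (sp k K)),
      show incl₀.comp β₀ = (S.act gam).comp (IsScalarTower.toAlgHom k B K) from rfl, pt_comp, Category.assoc, hact]
    show (toUnit (sp k K) ≫ gam⁻¹) * (pt (act j K gam) ≫ gen j K) = gen j K
    rw [act_spec, ← _root_.mul_assoc, ← MonObj.comp_mul, inv_mul_cancel, MonObj.comp_one, _root_.one_mul]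
  obtain ⟨b₀, hb₀⟩ := S.invRing_ne_top R hR (IsScalarTower.toAlgHom k B K) hnc'
  have hne : S.invRing R hR ≠ ⊤ := fun h => hb₀ (by rw [h]; trivial)
  obtain ⟨Tb, hTb⟩ := exists_isTranscendenceBasis k B
  haveI : Algebra.IsAlgebraic B K := IsLocalization.isAlgebraic K (nonZeroDivisors B)
  have hTcard : Cardinal.mk Tb = d :=
    (IsTranscendenceBasis.algebraMap_comp (A := K) hTb).cardinalMk_eq_trdeg.trans hd
  haveI : Finite Tb := Cardinal.lt_aleph0_iff_finite.1 (hTcard ▸ Cardinal.natCast_lt_aleph0)
  have hres := S.card_le_trdeg_residue R hR hTb hr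
  rw [hJ] at hres
  obtain ⟨A, hA1, hA2, hA3, hA4⟩ :=
    exists_model k (S.invRing R hR) (S.algebraMap_mem_invRing R hR) hne (B := B) hd hres
  haveI := hA1; haveI := hA2
  exact exists_affine_stab j S hι (S.invRing R hR) (S.algebraMap_mem_invRing R hR) hne
    (fun gam f hf => S.act_mem_invRing R hR gam hf) A hA3 hA4

/-- A group which is not proper has a non-proper identity component. -/
theorem exists_component (G : Over (Spec (CommRingCat.of k))) [GrpObj G] [Smooth G.hom] [QuasiCompact G.hom]
    (hG : ¬ IsProper G.hom) :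
    ∃ (G₀ : Over (Spec (CommRingCat.of k))) (_ : GrpObj G₀) (i : G₀ ⟶ G), IsMonHom i ∧ IsClosedImmersion i.left ∧
      Smooth G₀.hom ∧ QuasiCompact G₀.hom ∧ IsIntegral G₀.left ∧ ¬ IsProper G₀.hom := by
  obtain ⟨G₀, _, i, hi, hci, hfl, hr, hgi, hc⟩ := Groth.Agent.GrpField.exists_identity_component (G := G)
  haveI : LocallyOfFinitePresentation G.hom := inferInstance
  haveI : LocallyOfFinitePresentation i.left := by
    haveI : LocallyOfFiniteType G₀.hom := by rw [← Over.w i]; infer_instance
    exact AntiAffLib.lfp_of_lft i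
  haveI : IsOpenImmersion i.left := IsOpenImmersion.of_flat_of_mono _
  haveI hsm : Smooth G₀.hom := by rw [← Over.w i]; infer_instance
  haveI hqc : QuasiCompact G₀.hom := by rw [← Over.w i]; infer_instance
  haveI : IsReduced G₀.left := AlgSpLib.isReduced_of_smooth G₀.hom
  haveI : IrreducibleSpace G₀.left := GeometricallyIrreducible.irreducibleSpace_of_subsingleton G₀.hom
  haveI hint : IsIntegral G₀.left := isIntegral_of_irreducibleSpace_of_isReduced _
  refine ⟨G₀, inferInstance, i, hi, hci, hsm, hqc, hint, fun hp => hG ?_⟩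
  haveI := hp
  haveI : IsSeparated G.hom := Groth.Agent.GrpField.isSeparated_grp (G := G)
  haveI : UniversallyClosed G.hom := by
    rw [UniversallyClosed.eq_valuativeCriterion]
    refine ⟨fun S => ?_, inferInstance⟩
    obtain ⟨R, K, g₁, g₂, w⟩ := S
    -- a translate of the component containing the point
    obtain ⟨x, hx⟩ : ∃ x, x = g₁ (IsLocalRing.closedPoint K) := ⟨_, rfl⟩
    haveI : JacobsonSpace G.left := LocallyOfFiniteType.jacobsonSpace G.hom
    obtain ⟨y, hy, hyc⟩ := nonempty_inter_closedPoints
      (show (closure ({x} : Set G.left)).Nonempty from ⟨x, subset_closure rfl⟩) isClosed_closure.isLocallyClosed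
    obtain ⟨a, rfl⟩ := AVAmpleLib.exists_pt_eq y hyc
    let t : G₀ ⟶ G := i ≫ AVAmpleLib.tL a
    haveI : IsIso (AVAmpleLib.tL a).left := inferInstanceAs (IsIso ((Over.forget _).map (AVAmpleLib.tL a)))
    haveI : IsOpenImmersion t.left := by rw [Over.comp_left]; infer_instance
    have hpa : AVAmpleLib.pt a ∈ Set.range t.left := by
      refine ⟨(1 : 𝟙_ (Over (Spec (CommRingCat.of k))) ⟶ G₀).left (IsLocalRing.closedPoint k), ?_⟩
      have e : (1 : 𝟙_ (Over (Spec (CommRingCat.of k))) ⟶ G₀) ≫ t = a := by
        rw [← Category.assoc, MonObj.one_comp, AVAmpleLib.point_tL, _root_.mul_one]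
      conv_rhs => rw [← e]
      rfl
    have hxr : x ∈ Set.range t.left :=
      (specializes_iff_mem_closure.2 hy).mem_open t.left.isOpenEmbedding.isOpen_range hpa
    let l := IsOpenImmersion.lift t.left g₁ (by
      rintro _ ⟨p, rfl⟩
      rwa [@Subsingleton.elim (PrimeSpectrum K) _ p (IsLocalRing.closedPoint K), ← hx])
    have hl : l ≫ t.left = g₁ := IsOpenImmersion.lift_fac _ _ _
    haveI : UniversallyClosed G₀.hom := inferInstance
    have hex : ValuativeCriterion.Existence G₀.hom := by
      have h := (inferInstance : UniversallyClosed G₀.hom)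
      rw [UniversallyClosed.eq_valuativeCriterion] at h
      exact h.1
    have hsq : CommSq l (Spec.map (CommRingCat.ofHom (algebraMap R K))) G₀.hom g₂ := ⟨by
      rw [← w.w, ← hl, Category.assoc, Over.w t]⟩
    obtain ⟨⟨m, hm1, hm2⟩⟩ := (hex ⟨R, K, l, g₂, hsq⟩).exists_lift
    exact ⟨⟨m ≫ t.left, by rw [← Category.assoc, hm1, hl], by rw [Category.assoc, Over.w t, hm2]⟩⟩
  exact ⟨⟩

end ChevThmLib

end
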