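import Groth.Agent.ChevThmLib.KillMap
import Groth.Agent.ChevThmLib.Main
import Groth.Agent.AVAmpleLib.MulFinite
import Groth.Agent.GrpHomLib.Image
import Groth.Agent.GrpFieldLib.ClosedImage
import Groth.Agent.DenseSubLib.Basic
import Groth.Prelude

/-!
# Quasi-complements of abelian subvarieties
-/

set_option autoImplicit false
set_option linter.style.haveILetI false
set_option backward.isDefEq.respectTransparency false
set_option maxHeartbeats 1600000

universe u

open CategoryTheory CategoryTheory.Limits MonoidalCategory CartesianMonoidalCategory AlgebraicGeometry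
open scoped MonObj
open AVAmpleLib (tR)

noncomputable section

namespace ChevThmLib

attribute [-instance] CategoryTheory.Hom.commGroup

variable {k : Type u} [Field k] [IsAlgClosed k]

/-- Rational points of a separated scheme are closed. -/
theorem isClosed_pt {G : Over (Spec (CommRingCat.of k))} [GrpObj G] [LocallyOfFiniteType G.hom] [IsSeparated G.hom]
    (g : 𝟙_ (Over (Spec (CommRingCat.of k))) ⟶ G) : IsClosed ({AVAmpleLib.pt g} : Set G.left) := by
  haveI : IsClosedImmersion (g.left ≫ G.hom) := by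
    rw [Over.w g]; exact inferInstanceAs (IsClosedImmersion (𝟙 (Spec (CommRingCat.of k))))
  haveI : IsClosedImmersion g.left := IsClosedImmersion.of_comp g.left G.hom
  exact (AVAmpleLib.range_pt g) ▸ g.left.isClosedEmbedding.isClosed_range

/-- A closed point in the image of a closed immersion lifts to a point. -/
theorem exists_point_lift {B G : Over (Spec (CommRingCat.of k))} [GrpObj B] [GrpObj G] [LocallyOfFiniteType G.hom] [IsSeparated G.hom] (j : B ⟶ G)
    [IsClosedImmersion j.left] (g : 𝟙_ (Over (Spec (CommRingCat.of k))) ⟶ G)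
    (h : AVAmpleLib.pt g ∈ Set.range j.left) : ∃ b, b ≫ j = g := by
  haveI : LocallyOfFiniteType B.hom := by rw [← Over.w j]; infer_instance
  obtain ⟨x, hx⟩ := h
  have hxc : IsClosed ({x} : Set B.left) := by
    rw [j.left.isClosedEmbedding.isClosed_iff_image_isClosed, Set.image_singleton, hx]
    exact isClosed_pt g
  obtain ⟨b, hb⟩ := AVAmpleLib.exists_pt_eq x hxc
  exact ⟨b, point_ext ((congrArg j.left hb).trans hx)⟩

/-- An abelian subvariety of a connected group has a quasi-complement. -/
theorem exists_quasiCompl (G A : Over (Spec (CommRingCat.of k))) [GrpObj G] [Smooth G.hom] [QuasiCompact G.hom]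
    [IsIntegral G.left] [GrpObj A] [IsProper A.hom] [Smooth A.hom] [ConnectedSpace A.left]
    (i : A ⟶ G) [IsMonHom i] [IsClosedImmersion i.left] :
    ∃ (H : Over (Spec (CommRingCat.of k))) (_ : GrpObj H) (h : H ⟶ G), IsMonHom h ∧ IsClosedImmersion h.left ∧
      Smooth H.hom ∧ ConnectedSpace H.left ∧ AlgGrp.IsNormalHom h ∧ Surjective ((i ⊗ₘ h) ≫ μ[G]).left ∧
      IsFinite (pullback.fst i.left h.left ≫ A.hom) := by
  classical
  haveI : IsSeparated G.hom := Groth.Agent.GrpField.isSeparated_grp (G := G)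
  haveI : GeometricallyIntegral A.hom := AlbLib.geometricallyIntegral_grp A
  haveI : JacobsonSpace G.left := LocallyOfFiniteType.jacobsonSpace G.hom
  obtain ⟨R, n, hR, hn, hiR⟩ := exists_killing G A i
  haveI := hR
  -- the reduced kernel
  let S : Subgroup (𝟙_ (Over (Spec (CommRingCat.of k))) ⟶ G) :=
    { carrier := {g | g ≫ R = 1}
      one_mem' := MonObj.one_comp R
      mul_mem' := fun {a b} ha hb => by
        show (a * b) ≫ R = 1
        rw [MonObj.mul_comp, show a ≫ R = 1 from ha, show b ≫ R = 1 from hb, _root_.mul_one]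
      inv_mem' := fun {a} ha => by
        show a⁻¹ ≫ R = 1
        rw [GrpObj.inv_comp, show a ≫ R = 1 from ha, inv_one] }
  obtain ⟨B, _, j, hj, hjc, hBsm, hjr⟩ := DenseSubLib.exists_smooth_subgroup S
  haveI := hj; haveI := hjc; haveI := hBsm
  haveI : QuasiCompact B.hom := by rw [← Over.w j]; infer_instance
  haveI : IsReduced B.left := AlgSpLib.isReduced_of_smooth B.hom
  haveI : IsSeparated B.hom := Groth.Agent.GrpField.isSeparated_grp (G := B)
  let Z : Set G.left := R.left ⁻¹' {AVAmpleLib.pt (1 : 𝟙_ (Over (Spec (CommRingCat.of k))) ⟶ A)}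
  have hZc : IsClosed Z := by
    refine IsClosed.preimage R.left.continuous ?_
    exact isClosed_pt _
  have hZS : ∀ g, AVAmpleLib.pt g ∈ Z ↔ g ∈ S := fun g => by
    refine ⟨fun h => point_ext h, fun h => ?_⟩
    show (g ≫ R).left _ = _
    rw [show g ≫ R = 1 from h]
    rfl
  have hjR : j ≫ R = 1 := by
    refine AVAmpleLib.hom_ext_of_points _ _ fun b => ?_
    rw [← Category.assoc, MonObj.comp_one]
    refine (hZS (b ≫ j)).1 ?_
    have : Set.range j.left ⊆ Z := hjr ▸ hZc.closure_subset_iff.2 (by rintro _ ⟨g, hg, rfl⟩; exact (hZS g).2 hg)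
    exact this ⟨b.left (IsLocalRing.closedPoint k), rfl⟩
  have hlift : ∀ g, g ∈ S → ∃ b, b ≫ j = g := fun g hg =>
    exists_point_lift j g (hjr ▸ subset_closure ⟨g, hg, rfl⟩)
  have hZj : Z ⊆ Set.range j.left := by
    rw [← hZc.closure_eq, ← JacobsonSpace.closure_inter_closedPoints_eq_closure hZc.isLocallyClosed]
    refine closure_minimal ?_ (j.left.isClosedEmbedding.isClosed_range)
    rintro x ⟨hx, hxc⟩
    obtain ⟨g, rfl⟩ := AVAmpleLib.exists_pt_eq x hxc
    exact hjr ▸ subset_closure ⟨g, (hZS g).1 hx, rfl⟩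
  -- its identity component
  obtain ⟨H, _, i₀, hi, hci, hfl, hr, hgi, hc⟩ := Groth.Agent.GrpField.exists_identity_component (G := B)
  haveI := hi; haveI := hci
  haveI : LocallyOfFinitePresentation i₀.left := by
    haveI : LocallyOfFiniteType H.hom := by rw [← Over.w i₀]; infer_instance
    exact AntiAffLib.lfp_of_lft i₀
  haveI : IsOpenImmersion i₀.left := IsOpenImmersion.of_flat_of_mono _
  haveI hHsm : Smooth H.hom := by rw [← Over.w i₀]; infer_instance
  haveI : IrreducibleSpace H.left := GeometricallyIrreducible.irreducibleSpace_of_subsingleton H.hom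
  haveI hHconn : ConnectedSpace H.left := inferInstance
  haveI : IsReduced H.left := AlgSpLib.isReduced_of_smooth H.hom
  haveI : IsIntegral H.left := isIntegral_of_irreducibleSpace_of_isReduced _
  haveI : QuasiCompact H.hom := by rw [← Over.w i₀]; infer_instance
  let h := i₀ ≫ j
  haveI hh : IsClosedImmersion h.left := by rw [Over.comp_left]; infer_instance
  haveI : Mono i.left := inferInstance
  have hhR : h ≫ R = 1 := by rw [Category.assoc, hjR, MonObj.comp_one]
  -- normality
  have hnormal : AlgGrp.IsNormalHom h := by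
    haveI : IsIntegral (G ⊗ H).left := AlbLib.isIntegral_tensor G H
    haveI : LocallyOfFiniteType (G ⊗ H).hom := inferInstanceAs (LocallyOfFiniteType (pullback.fst G.hom H.hom ≫ G.hom))
    let c : G ⊗ H ⟶ G := fst G H * (snd G H ≫ h) * (fst G H)⁻¹
    have hcR : c ≫ R = 1 := by
      rw [MonObj.mul_comp, MonObj.mul_comp, GrpObj.inv_comp, Category.assoc, hhR, MonObj.comp_one, _root_.mul_one,
        mul_inv_cancel]
    obtain ⟨l₀, hl₀⟩ := AVAmpleLib.exists_lift_of_reduced j.left c.left (by
      rintro _ ⟨x, rfl⟩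
      refine hZj ?_
      show R.left (c.left x) = _
      rw [← Scheme.Hom.comp_apply, ← Over.comp_left, hcR, Hom.one_def, Over.comp_left, Scheme.Hom.comp_apply,
        show (toUnit (G ⊗ H)).left x = IsLocalRing.closedPoint k from @Subsingleton.elim (PrimeSpectrum k) _ _ _,
        Hom.one_def, toUnit_unique (toUnit (𝟙_ (Over (Spec (CommRingCat.of k))))) (𝟙 _), Category.id_comp]
      rfl)
    let l : G ⊗ H ⟶ B := Over.homMk l₀ (by rw [← Over.w c, ← hl₀, Category.assoc, Over.w j])
    have hl : l ≫ j = c := Over.OverMorphism.ext hl₀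
    haveI : Mono j.left := inferInstance
    haveI : Mono j := Over.mono_of_mono_left j
    let o : 𝟙_ (Over (Spec (CommRingCat.of k))) ⟶ G ⊗ H := lift η[G] η[H]
    have ho : o ≫ l = 1 := by
      rw [← cancel_mono j, Category.assoc, hl, MonObj.one_comp, MonObj.comp_mul, MonObj.comp_mul, GrpObj.comp_inv,
        lift_fst, lift_snd_assoc, show (η[H] : 𝟙_ (Over (Spec (CommRingCat.of k))) ⟶ H) = 1 by
          rw [Hom.one_def, toUnit_unique (toUnit _) (𝟙 _), Category.id_comp], MonObj.one_comp, _root_.mul_one,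
        mul_inv_cancel]
    have hrange : Set.range l.left ⊆ Set.range i₀.left := by
      rw [hr, ← Groth.Agent.GrpField.connectedComponent_unit]
      refine (isPreconnected_range l.left.continuous).subset_connectedComponent ⟨o.left (IsLocalRing.closedPoint k), ?_⟩
      rw [← Scheme.Hom.comp_apply, ← Over.comp_left, ho, Hom.one_def,
        toUnit_unique (toUnit (𝟙_ (Over (Spec (CommRingCat.of k))))) (𝟙 _), Category.id_comp]
      rfl
    let l' : G ⊗ H ⟶ H := Over.homMk (IsOpenImmersion.lift i₀.left l.left hrange) (by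
      rw [← Over.w i₀, ← Category.assoc, IsOpenImmersion.lift_fac]
      exact Over.w l)
    have hl' : l' ≫ h = c := by
      rw [← Category.assoc, show l' ≫ i₀ = l from Over.OverMorphism.ext (IsOpenImmersion.lift_fac _ _ _), hl]
    intro T g m
    refine ⟨lift g m ≫ l', ?_⟩
    rw [Category.assoc, hl', MonObj.comp_mul, MonObj.comp_mul, GrpObj.comp_inv, lift_fst, lift_snd_assoc]
  -- surjectivity
  have hsurj : Surjective ((i ⊗ₘ h) ≫ μ[G]).left := by
    let m : A ⊗ H ⟶ G := (fst A H ≫ i) * (snd A H ≫ h)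
    have hm : (i ⊗ₘ h) ≫ μ[G] = m := by
      rw [show m = lift (fst A H ≫ i) (snd A H ≫ h) ≫ μ[G] from rfl]
      congr 1
    haveI : IsMonHom m := by
      have hone : (η[A ⊗ H] : 𝟙_ (Over (Spec (CommRingCat.of k))) ⟶ A ⊗ H) = 1 := by
        rw [Hom.one_def, toUnit_unique (toUnit _) (𝟙 _), Category.id_comp]
      refine ⟨by rw [hone, MonObj.comp_mul, ← Category.assoc, ← Category.assoc, MonObj.one_comp, MonObj.one_comp,
        MonObj.one_comp, MonObj.one_comp, _root_.mul_one, Hom.one_def,
        toUnit_unique (toUnit _) (𝟙 _), Category.id_comp], ?_⟩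
      have e : (μ[A ⊗ H] : (A ⊗ H) ⊗ (A ⊗ H) ⟶ A ⊗ H) = fst _ _ * snd _ _ := by
        rw [Hom.mul_def, lift_fst_snd, Category.id_comp]
      rw [e, show (m ⊗ₘ m) ≫ μ[G] = (fst _ _ ≫ m) * (snd _ _ ≫ m) by
        rw [Hom.mul_def]; congr 1]
      simp only [m, MonObj.comp_mul, ← Category.assoc, MonObj.mul_comp]
      have hcc := comm_of_proper (G := G) i _ (snd (A ⊗ H) (A ⊗ H) ≫ fst A H) ((fst (A ⊗ H) (A ⊗ H) ≫ snd A H) ≫ h)
      simp only [_root_.mul_assoc]
      congr 1
      rw [← _root_.mul_assoc, hcc, _root_.mul_assoc]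
    haveI : LocallyOfFiniteType (A ⊗ H).hom := inferInstanceAs (LocallyOfFiniteType (pullback.fst A.hom H.hom ≫ A.hom))
    haveI : QuasiCompact (A ⊗ H).hom := inferInstanceAs (QuasiCompact (pullback.fst A.hom H.hom ≫ A.hom))
    haveI : QuasiCompact (m.left ≫ G.hom) := by rw [Over.w m]; infer_instance
    haveI : QuasiCompact m.left := QuasiCompact.of_comp m.left G.hom
    have hmc : IsClosed (Set.range m.left) := Groth.Agent.GrpHom.isClosed_range m
    rw [hm]
    refine ⟨Set.range_eq_univ.1 ?_⟩
    -- finitely many translates of the identity component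
    haveI : CompactSpace B.left := QuasiCompact.compactSpace_of_compactSpace B.hom
    haveI : JacobsonSpace B.left := LocallyOfFiniteType.jacobsonSpace B.hom
    have hopen : ∀ b : 𝟙_ (Over (Spec (CommRingCat.of k))) ⟶ B, IsOpen (Set.range (i₀ ≫ tR b).left) := fun b => by
      haveI : IsIso (tR b).left := inferInstanceAs (IsIso ((Over.forget _).map (tR b)))
      haveI : IsOpenImmersion (i₀ ≫ tR b).left := by rw [Over.comp_left]; infer_instance
      exact (i₀ ≫ tR b).left.isOpenEmbedding.isOpen_range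
    have hcov : (Set.univ : Set B.left) ⊆ ⋃ b, Set.range (i₀ ≫ tR b).left := by
      intro x _
      by_contra hx
      obtain ⟨y, hy, hyc⟩ := nonempty_inter_closedPoints
        (show ((⋃ b, Set.range (i₀ ≫ tR b).left)ᶜ).Nonempty from ⟨x, hx⟩)
        (isOpen_iUnion hopen).isClosed_compl.isLocallyClosed
      obtain ⟨b, rfl⟩ := AVAmpleLib.exists_pt_eq y hyc
      refine hy (Set.mem_iUnion.2 ⟨b, (1 : 𝟙_ (Over (Spec (CommRingCat.of k))) ⟶ H).left (IsLocalRing.closedPoint k), ?_⟩)
      rw [← Scheme.Hom.comp_apply, ← Over.comp_left, ← Category.assoc, MonObj.one_comp, AVAmpleLib.point_tR,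
        _root_.one_mul]
      rfl
    obtain ⟨t, ht⟩ := isCompact_univ.elim_finite_subcover _ hopen hcov
    let T : (𝟙_ (Over (Spec (CommRingCat.of k))) ⟶ B) → Set G.left := fun b => Set.range (m ≫ tR (b ≫ j)).left
    have hTc : ∀ b, IsClosed (T b) := fun b => by
      haveI : IsIso (tR (b ≫ j)).left := inferInstanceAs (IsIso ((Over.forget _).map (tR (b ≫ j))))
      show IsClosed (Set.range (m ≫ tR (b ≫ j)).left)
      rw [Over.comp_left, Scheme.Hom.comp_base, TopCat.coe_comp, Set.range_comp]
      exact (tR (b ≫ j)).left.homeomorph.isClosed_image.2 hmc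
    have hU : (Set.univ : Set G.left) ⊆ ⋃ b ∈ t, T b := by
      intro x _
      by_contra hx
      obtain ⟨y, hy, hyc⟩ := nonempty_inter_closedPoints
        (show ((⋃ b ∈ t, T b)ᶜ).Nonempty from ⟨x, hx⟩)
        (t.finite_toSet.isClosed_biUnion fun b _ => hTc b).isOpen_compl.isLocallyClosed
      obtain ⟨g, rfl⟩ := AVAmpleLib.exists_pt_eq y hyc
      -- divide by n
      haveI := AVAmpleLib.surjective_zpow A (n := (n : ℤ)) (by omega)
      haveI : JacobsonSpace A.left := LocallyOfFiniteType.jacobsonSpace A.hom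
      let W : Set A.left := (𝟙 A ^ (n : ℤ)).left ⁻¹' {AVAmpleLib.pt (g ≫ R)}
      have hWc : IsClosed W := by
        refine IsClosed.preimage (Scheme.Hom.continuous _) ?_
        exact isClosed_pt _
      obtain ⟨z, hz⟩ := (𝟙 A ^ (n : ℤ)).left.surjective (AVAmpleLib.pt (g ≫ R))
      obtain ⟨w, hw, hwc⟩ := nonempty_inter_closedPoints (show W.Nonempty from ⟨z, hz⟩) hWc.isLocallyClosed
      obtain ⟨a, rfl⟩ := AVAmpleLib.exists_pt_eq w hwc
      have ha : a ≫ i ≫ R = g ≫ R := by
        rw [hiR, ← zpow_natCast]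
        exact point_ext hw
      obtain ⟨b, hb⟩ := hlift ((a ≫ i)⁻¹ * g) (by
        show ((a ≫ i)⁻¹ * g) ≫ R = 1
        rw [MonObj.mul_comp, GrpObj.inv_comp, Category.assoc, ha, inv_mul_cancel])
      obtain ⟨b', hb't, hb'⟩ := Set.mem_iUnion₂.1 (ht (Set.mem_univ (AVAmpleLib.pt b)))
      obtain ⟨z', hz'⟩ := hb'
      obtain ⟨e₀, he₀⟩ : ∃ e₀, e₀ ≫ i₀ ≫ tR b' = b := by
        haveI : IsIso (tR b').left := inferInstanceAs (IsIso ((Over.forget _).map (tR b')))
        haveI : IsClosedImmersion (i₀ ≫ tR b').left := by rw [Over.comp_left]; infer_instance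
        exact exists_point_lift (i₀ ≫ tR b') b ⟨z', hz'⟩
      refine hy (Set.mem_iUnion₂.2 ⟨b', hb't, (lift a e₀).left (IsLocalRing.closedPoint k), ?_⟩)
      rw [← Scheme.Hom.comp_apply, ← Over.comp_left]
      refine congrArg AVAmpleLib.pt (?_ : lift a e₀ ≫ m ≫ tR (b' ≫ j) = g)
      rw [← Category.assoc, AVAmpleLib.point_tR, MonObj.comp_mul, lift_fst_assoc, lift_snd_assoc, _root_.mul_assoc]
      have : (e₀ ≫ h) * (b' ≫ j) = b ≫ j := by
        rw [← Category.assoc, ← he₀, ← Category.assoc e₀, AVAmpleLib.point_tR, MonObj.mul_comp]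
      rw [this, hb, mul_inv_cancel_left]
    obtain ⟨_, hzmem, hb⟩ := isIrreducible_iff_sUnion_isClosed.1 (IrreducibleSpace.isIrreducible_univ G.left)
      (t.image T) (fun z hz => by
        obtain ⟨b, -, rfl⟩ := Finset.mem_image.1 hz
        exact hTc b) (fun x hx => by
        obtain ⟨b, hb, hxb⟩ := Set.mem_iUnion₂.1 (hU hx)
        exact Set.mem_sUnion.2 ⟨T b, Finset.mem_coe.2 (Finset.mem_image.2 ⟨b, hb, rfl⟩), hxb⟩)
    obtain ⟨b, -, rfl⟩ := Finset.mem_image.1 hzmem
    haveI : IsIso (tR (b ≫ j)).left := inferInstanceAs (IsIso ((Over.forget _).map (tR (b ≫ j))))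
    refine Set.eq_univ_of_forall fun x => ?_
    obtain ⟨z, hz⟩ := hb (Set.mem_univ ((tR (b ≫ j)).left x))
    rw [Over.comp_left, Scheme.Hom.comp_apply] at hz
    exact ⟨z, (tR (b ≫ j)).left.homeomorph.injective hz⟩
  -- finiteness of the intersection
  have hfin : IsFinite (pullback.fst i.left h.left ≫ A.hom) := by
    haveI := AVAmpleLib.isFinite_zpow A (n := (n : ℤ)) (by omega)
    let N : A ⟶ A := 𝟙 A ^ (n : ℤ)
    let p := pullback.fst i.left h.left
    let e := (η[A] : 𝟙_ (Over (Spec (CommRingCat.of k))) ⟶ A)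
    have hN : p ≫ N.left = (p ≫ A.hom) ≫ e.left := by
      have eN : N.left = i.left ≫ R.left := by
        rw [← Over.comp_left, hiR]
        exact congrArg CommaMorphism.left (zpow_natCast (𝟙 A) n)
      have hh' : h.left ≫ R.left = H.hom ≫ e.left := by
        refine (congrArg CommaMorphism.left hhR).trans ?_
        rw [Hom.one_def]
        rfl
      rw [eN, ← Category.assoc, pullback.condition, Category.assoc, hh', ← Category.assoc]
      congr 1
      show pullback.snd i.left h.left ≫ H.hom = p ≫ A.hom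
      rw [← Over.w h, ← Category.assoc, ← pullback.condition, Category.assoc, Over.w i]
    let l : pullback i.left h.left ⟶ pullback N.left e.left := pullback.lift p (p ≫ A.hom) hN
    haveI : IsClosedImmersion (l ≫ pullback.fst N.left e.left) := by rw [pullback.lift_fst]; infer_instance
    haveI : IsClosedImmersion l := IsClosedImmersion.of_comp l (pullback.fst N.left e.left)
    rw [show p ≫ A.hom = l ≫ pullback.snd N.left e.left from (pullback.lift_snd _ _ _).symm]
    haveI : IsFinite N.left := ‹_›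
    infer_instance
  exact ⟨H, inferInstance, h, inferInstance, hh, hHsm, hHconn, hnormal, hsurj, hfin⟩

end ChevThmLib

end
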