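import Groth.Agent.ChevThmLib.Chevalley
import Groth.Prelude

/-!
# Chevalley's theorem for groups which need not be connected
-/

set_option autoImplicit false
set_option linter.style.haveILetI false
set_option backward.isDefEq.respectTransparency false
set_option maxHeartbeats 1600000

universe u

open CategoryTheory CategoryTheory.Limits MonoidalCategory CartesianMonoidalCategory AlgebraicGeometry
open scoped MonObj

noncomputable section

namespace ChevThmLib

attribute [-instance] CategoryTheory.Hom.commGroup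

variable {k : Type u} [Field k] [IsAlgClosed k]

/-- The subgroup of rational points of a homomorphism. -/
def ptsRange {N G : Over (Spec (CommRingCat.of k))} [GrpObj N] [GrpObj G] (i : N ⟶ G) [IsMonHom i] :
    Subgroup (𝟙_ (Over (Spec (CommRingCat.of k))) ⟶ G) where
  carrier := {x | ∃ n, n ≫ i = x}
  one_mem' := ⟨1, MonObj.one_comp _⟩
  mul_mem' := by
    rintro _ _ ⟨a, rfl⟩ ⟨b, rfl⟩
    exact ⟨a * b, MonObj.mul_comp _ _ _⟩
  inv_mem' := by
    rintro _ ⟨a, rfl⟩
    exact ⟨a⁻¹, GrpObj.inv_comp _ _⟩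

theorem ptsRange_normal {N G : Over (Spec (CommRingCat.of k))} [GrpObj N] [GrpObj G] (i : N ⟶ G) [IsMonHom i]
    (hn : AlgGrp.IsNormalHom i) : (ptsRange i).Normal :=
  ⟨by
    rintro _ ⟨a, rfl⟩ g
    obtain ⟨b, hb⟩ := hn _ g a
    exact ⟨b, hb.symm⟩⟩

/-- The closure of the rational points of a reduced closed subgroup is the subgroup. -/
theorem ptSub_self {N G : Over (Spec (CommRingCat.of k))} [GrpObj N] [GrpObj G] [LocallyOfFiniteType G.hom]
    (i : N ⟶ G) [IsMonHom i] [IsClosedImmersion i.left] : PtSub (ptsRange i) i := by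
  haveI : LocallyOfFiniteType N.hom := by rw [← Over.w i]; infer_instance
  refine ⟨subset_antisymm ?_ (closure_minimal ?_ i.left.isClosedEmbedding.isClosed_range)⟩
  · rintro _ ⟨x, rfl⟩
    refine forall_mem_of_points (isClosed_closure.preimage i.left.continuous) (fun a => ?_) x
    exact subset_closure ⟨a ≫ i, ⟨a, rfl⟩, rfl⟩
  · rintro _ ⟨g, ⟨a, rfl⟩, rfl⟩
    exact ⟨a.left (IsLocalRing.closedPoint k), rfl⟩

/-- The quotient by the largest connected affine normal subgroup is proper, also for a disconnected group. -/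
theorem exists_chevalley_any (G : Over (Spec (CommRingCat.of k))) [GrpObj G] [Smooth G.hom] [QuasiCompact G.hom] :
    ∃ (N : Over (Spec (CommRingCat.of k))) (_ : GrpObj N) (i : N ⟶ G), IsAffNormal i ∧
      (∀ (N' : Over (Spec (CommRingCat.of k))) [GrpObj N'] (i' : N' ⟶ G), IsAffNormal i' → ∃ f : N' ⟶ N, f ≫ i = i') ∧
      ∃ (Q : Over (Spec (CommRingCat.of k))) (_ : GrpObj Q) (q : G ⟶ Q), IsMonHom q ∧ Flat q.left ∧ Surjective q.left ∧
        AlgGrp.IsKernel i q ∧ IsProper Q.hom := by
  obtain ⟨N, _, i, hi, hmax⟩ := exists_gAff G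
  haveI := hi.hom; haveI := hi.closed; haveI := hi.smooth; haveI := hi.conn; haveI := hi.affine
  haveI : Flat N.hom := inferInstance
  haveI : Mono i.left := inferInstance
  haveI : Mono i := Over.mono_of_mono_left i
  haveI : QuasiCompact i.left := inferInstance
  obtain ⟨Q, _, q, hqm, hqf, hqs, hqp, hker, hQsep, -, hQsm⟩ := Groth.Agent.S3030.result k N G i hi.normal
  haveI := hqm; haveI := hqf; haveI := hqs; haveI := hqp; haveI := hQsm inferInstance
  haveI : CompactSpace G.left := QuasiCompact.compactSpace_of_compactSpace G.hom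
  haveI : CompactSpace Q.left := ⟨by rw [← q.left.surjective.range_eq]; exact isCompact_range q.left.continuous⟩
  haveI : QuasiCompact Q.hom := (quasiCompact_iff_compactSpace Q.hom).2 inferInstance
  haveI : IsSeparated Q.hom := Groth.Agent.GrpField.isSeparated_grp (G := Q)
  refine ⟨N, inferInstance, i, hi, hmax, Q, inferInstance, q, hqm, hqf, hqs, hker, ?_⟩
  obtain ⟨Q₀, _, i₀, hm₀, hc₀, ho₀, hs₀, hq₀, hint, hconn, hlift, -⟩ := exists_component' Q
  haveI := hm₀; haveI := hc₀; haveI := hs₀; haveI := hq₀; haveI := hconn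
  haveI : Mono i₀.left := inferInstance
  haveI : Mono i₀ := Over.mono_of_mono_left i₀
  haveI hQ₀ : IsProper Q₀.hom := by
    obtain ⟨M, _, j, hj, hjmax⟩ := exists_gAff Q₀
    haveI := hj.hom; haveI := hj.closed; haveI := hj.smooth; haveI := hj.conn; haveI := hj.affine
    haveI : IsReduced M.left := AlgSpLib.isReduced_of_smooth M.hom
    haveI : GeometricallyIntegral M.hom := AlbLib.geometricallyIntegral_grp M
    haveI : IsIntegral M.left := GeometricallyIntegral.isIntegral_of_subsingleton M.hom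
    haveI : IsClosedImmersion (j ≫ i₀).left := by rw [Over.comp_left]; infer_instance
    haveI : (ptsRange (j ≫ i₀)).Normal := ⟨by
      rintro _ ⟨a, rfl⟩ g
      -- conjugation by `g` on the component
      let cg : Q₀ ⟶ Q := (toUnit Q₀ ≫ g) * i₀ * (toUnit Q₀ ≫ g)⁻¹
      have hcg : ∀ (x : 𝟙_ (Over (Spec (CommRingCat.of k))) ⟶ Q₀), x ≫ cg = g * (x ≫ i₀) * g⁻¹ := fun x => by
        rw [MonObj.comp_mul, MonObj.comp_mul, GrpObj.comp_inv, ← Category.assoc,
          toUnit_unique (x ≫ toUnit Q₀) (𝟙 _), Category.id_comp]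
      obtain ⟨θ, hθ⟩ := hlift cg 1 (by rw [hcg, MonObj.one_comp, _root_.mul_one, mul_inv_cancel])
      let cg' : Q₀ ⟶ Q := (toUnit Q₀ ≫ g⁻¹) * i₀ * (toUnit Q₀ ≫ g⁻¹)⁻¹
      have hcg' : ∀ (x : 𝟙_ (Over (Spec (CommRingCat.of k))) ⟶ Q₀), x ≫ cg' = g⁻¹ * (x ≫ i₀) * g := fun x => by
        simp only [cg', MonObj.comp_mul, GrpObj.comp_inv, ← Category.assoc]
        rw [toUnit_unique (x ≫ toUnit Q₀) (𝟙 _), Category.id_comp, inv_inv]
      obtain ⟨θ', hθ'⟩ := hlift cg' 1 (by rw [hcg', MonObj.one_comp, _root_.mul_one, inv_mul_cancel])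
      haveI : IsReduced Q₀.left := AlgSpLib.isReduced_of_smooth Q₀.hom
      haveI : IsSeparated Q₀.hom := Groth.Agent.GrpField.isSeparated_grp (G := Q₀)
      have hθθ' : θ ≫ θ' = 𝟙 Q₀ ∧ θ' ≫ θ = 𝟙 Q₀ := by
        refine ⟨AVAmpleLib.hom_ext_of_points _ _ fun x => ?_, AVAmpleLib.hom_ext_of_points _ _ fun x => ?_⟩
        · rw [Category.comp_id, ← cancel_mono i₀, ← Category.assoc, Category.assoc _ θ', hθ', hcg', Category.assoc,
            hθ, hcg]
          group
        · rw [Category.comp_id, ← cancel_mono i₀, ← Category.assoc, Category.assoc _ θ, hθ, hcg, Category.assoc,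
            hθ', hcg']
          group
      haveI : IsIso θ := ⟨θ', hθθ'.1, hθθ'.2⟩
      haveI : IsIso θ.left := inferInstanceAs (IsIso ((Over.forget _).map θ))
      haveI : IsMonHom θ := by
        refine ⟨?_, ?_⟩
        · rw [eta_eq_one, ← cancel_mono i₀, Category.assoc, hθ, hcg, MonObj.one_comp, _root_.mul_one, mul_inv_cancel]
        · have e : (μ[Q₀] : Q₀ ⊗ Q₀ ⟶ Q₀) = fst _ _ * snd _ _ := by
            rw [Hom.mul_def, lift_fst_snd, Category.id_comp]
          have e' : (θ ⊗ₘ θ) ≫ μ[Q₀] = (fst _ _ ≫ θ) * (snd _ _ ≫ θ) := by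
            rw [Hom.mul_def]; congr 1
          rw [← cancel_mono i₀, e', e, Category.assoc, hθ, MonObj.mul_comp (fst Q₀ Q₀ ≫ θ), Category.assoc, Category.assoc,
            hθ]
          simp only [cg, MonObj.comp_mul, GrpObj.comp_inv, ← Category.assoc, MonObj.mul_comp]
          rw [toUnit_unique ((fst Q₀ Q₀ ≫ toUnit Q₀) * (snd Q₀ Q₀ ≫ toUnit Q₀)) (toUnit _),
            toUnit_unique (fst Q₀ Q₀ ≫ toUnit Q₀) (toUnit _), toUnit_unique (snd Q₀ Q₀ ≫ toUnit Q₀) (toUnit _)]
          group
      haveI : (ptsRange j).Normal := ptsRange_normal j hj.normal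
      haveI : IsClosedImmersion (j ≫ θ).left := by rw [Over.comp_left]; infer_instance
      haveI : (ptsRange (j ≫ θ)).Normal := ⟨by
        rintro _ ⟨m, rfl⟩ y
        obtain ⟨m', hm'⟩ := hj.normal _ (y ≫ θ') m
        refine ⟨m', ?_⟩
        rw [← Category.assoc, ← hm', MonObj.mul_comp, MonObj.mul_comp, GrpObj.inv_comp, Category.assoc, Category.assoc,
          hθθ'.2, Category.comp_id]⟩
      obtain ⟨f, hf⟩ := hjmax M (j ≫ θ) ⟨inferInstance, inferInstance, hj.smooth, hj.conn, hj.affine,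
        (ptSub_self (j ≫ θ)).isNormalHom⟩
      refine ⟨a ≫ f, ?_⟩
      rw [← Category.assoc, Category.assoc a f, hf]
      simp only [Category.assoc, hθ]
      rw [← Category.assoc, hcg]
      rfl⟩
    refine isProper_of_trivial Q₀ fun M' _ j' hj' => ?_
    have hM : IsIso M.hom := affNormal_quotient_trivial i hi hmax q hker (j ≫ i₀)
      ⟨inferInstance, inferInstance, hj.smooth, hj.conn, hj.affine, (ptSub_self (j ≫ i₀)).isNormalHom⟩
    obtain ⟨f, hf⟩ := hjmax M' j' hj'
    haveI := hj'.closed; haveI := hj'.smooth; haveI := hj'.conn; haveI := hj'.hom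
    haveI : Mono j'.left := inferInstance
    haveI : Mono j' := Over.mono_of_mono_left j'
    refine isIso_of_finite_points ((Set.finite_singleton 1).subset fun m _ => ?_)
    have e : m ≫ f = 1 := by
      apply Over.OverMorphism.ext
      rw [← cancel_mono M.hom]
      exact (Over.w (m ≫ f)).trans (Over.w (1 : 𝟙_ (Over (Spec (CommRingCat.of k))) ⟶ M)).symm
    show m = 1
    rw [← cancel_mono j', MonObj.one_comp, ← hf, ← Category.assoc, e, MonObj.one_comp]
  by_contra hQ
  obtain ⟨H, _, h, hhm, hhc, hhs, hhq, hhi, hhp⟩ := exists_component Q hQ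
  haveI := hhm; haveI := hhc; haveI := hhi
  obtain ⟨l, hl⟩ := hlift h 1 (MonObj.one_comp _)
  haveI : IsClosedImmersion (l.left ≫ i₀.left) := by rw [← Over.comp_left, hl]; infer_instance
  haveI : IsClosedImmersion l.left := IsClosedImmersion.of_comp l.left i₀.left
  apply hhp
  rw [← Over.w l]
  infer_instance

end ChevThmLib

end
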