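import Groth.Agent.ChevThmLib.Chevalley
import Groth.Agent.AVAmpleLib.TorsClosure
import Groth.Agent.AVAmpleLib.BcDeg
import Groth.Agent.AlbLib.AVClass
import Groth.Prelude
import Mathlib.AlgebraicGeometry.Morphisms.FlatDescent
import Mathlib.AlgebraicGeometry.Morphisms.Integral

/-!
# Descent of the affine part to a perfect field
-/

set_option autoImplicit false
set_option linter.style.haveILetI false
set_option backward.isDefEq.respectTransparency false
set_option maxHeartbeats 1600000

universe u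

open CategoryTheory CategoryTheory.Limits MonoidalCategory CartesianMonoidalCategory AlgebraicGeometry TopologicalSpace
open scoped MonObj
open AVAmpleLib (bcF bcPt imgPt)

noncomputable section

namespace ChevThmLib

attribute [-instance] CategoryTheory.Hom.commGroup

variable {k : Type u} [Field k]

local instance grpBcD (Ω : Type u) [Field Ω] [Algebra k Ω] (Z : Over (Spec (CommRingCat.of k))) [GrpObj Z] :
    GrpObj ((bcF Ω).obj Z) := Functor.grpObjObj

/-- A homomorphism between fields extends to algebraically closed algebraic extensions. -/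
theorem exists_ext_alg {K Ω Ω' : Type u} [Field K] [Field Ω] [Field Ω'] [Algebra K Ω] [Algebra.IsAlgebraic K Ω]
    [IsAlgClosed Ω'] (f : K →+* Ω') : ∃ τ : Ω →+* Ω', τ.comp (algebraMap K Ω) = f := by
  letI := f.toAlgebra
  exact ⟨(IsAlgClosed.lift : Ω →ₐ[K] Ω').toRingHom, RingHom.ext (IsAlgClosed.lift : Ω →ₐ[K] Ω').commutes⟩

/-- An automorphism of the extension as an endomorphism of its spectrum over the ground field. -/
def galPt {Ω : Type u} [Field Ω] [Algebra k Ω] (σ : Ω ≃ₐ[k] Ω) : SGA7.pt (K := k) Ω ⟶ SGA7.pt (K := k) Ω :=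
  Over.homMk (Spec.map (CommRingCat.ofHom (σ : Ω →+* Ω))) (by
    show Spec.map _ ≫ Spec.map (CommRingCat.ofHom (algebraMap k Ω)) = Spec.map (CommRingCat.ofHom (algebraMap k Ω))
    rw [← Spec.map_comp]
    exact congrArg Spec.map (CommRingCat.hom_ext (RingHom.ext σ.commutes)))

/-- Geometric points with the same image are conjugate. -/
theorem exists_galPt {Ω : Type u} [Field Ω] [Algebra k Ω] [Algebra.IsAlgebraic k Ω] [IsAlgClosed Ω]
    {X : Over (Spec (CommRingCat.of k))} (a b : SGA7.pt (K := k) Ω ⟶ X) (h : imgPt a = imgPt b) :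
    ∃ σ : Ω ≃ₐ[k] Ω, galPt σ ≫ a = b := by
  obtain ⟨⟨x, φ⟩, hφ⟩ := (Scheme.SpecToEquivOfField Ω X.left).symm.surjective a.left
  replace hφ : Spec.map φ ≫ X.left.fromSpecResidueField x = a.left := hφ
  obtain ⟨⟨y, ψ⟩, hψ⟩ := (Scheme.SpecToEquivOfField Ω X.left).symm.surjective b.left
  replace hψ : Spec.map ψ ≫ X.left.fromSpecResidueField y = b.left := hψ
  obtain rfl : x = y := by
    have hx : imgPt a = x := by
      show a.left (IsLocalRing.closedPoint Ω) = x
      rw [← hφ, Scheme.Hom.comp_apply]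
      exact Scheme.fromSpecResidueField_apply _ _
    have hy : imgPt b = y := by
      show b.left (IsLocalRing.closedPoint Ω) = y
      rw [← hψ, Scheme.Hom.comp_apply]
      exact Scheme.fromSpecResidueField_apply _ _
    rw [← hx, h, hy]
  -- both restrict to the structure map
  obtain ⟨ρ, hρ⟩ := Spec.map_surjective (X.left.fromSpecResidueField x ≫ X.hom)
  have hcomm : ∀ {c : SGA7.pt (K := k) Ω ⟶ X} {χ : X.left.residueField x ⟶ CommRingCat.of Ω},
      Spec.map χ ≫ X.left.fromSpecResidueField x = c.left → ρ ≫ χ = CommRingCat.ofHom (algebraMap k Ω) := by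
    intro c χ hc
    apply Spec.map_injective
    rw [Spec.map_comp, hρ, ← Category.assoc, hc]
    exact Over.w c
  letI : Algebra (X.left.residueField x) Ω := φ.hom.toAlgebra
  letI : Algebra k (X.left.residueField x) := ρ.hom.toAlgebra
  haveI : IsScalarTower k (X.left.residueField x) Ω :=
    IsScalarTower.of_algebraMap_eq fun t => congr($(hcomm hφ).hom t).symm
  haveI : Algebra.IsAlgebraic (X.left.residueField x) Ω := Algebra.IsAlgebraic.tower_top (K := k) _
  obtain ⟨τ, hτ⟩ := exists_ext_alg (K := (X.left.residueField x : Type u)) (Ω := Ω) ψ.hom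
  let τ' : Ω →ₐ[k] Ω :=
    { τ with
      commutes' := fun t => by
        show τ (algebraMap k Ω t) = _
        conv_lhs => rw [IsScalarTower.algebraMap_apply k (X.left.residueField x) Ω, ← RingHom.comp_apply τ, hτ]
        exact congr($(hcomm hψ).hom t) }
  refine ⟨AlgEquiv.ofBijective τ' (Algebra.IsAlgebraic.algHom_bijective τ'), Over.OverMorphism.ext ?_⟩
  show Spec.map _ ≫ a.left = b.left
  rw [← hφ, ← hψ, ← Category.assoc, ← Spec.map_comp]
  exact congrArg (fun χ => Spec.map χ ≫ X.left.fromSpecResidueField x) (CommRingCat.hom_ext hτ)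

/-- Chevalley's theorem over a perfect field. -/
theorem exists_chevalley_perfect [PerfectField k] (G : Over (Spec (CommRingCat.of k))) [GrpObj G] [Smooth G.hom]
    [QuasiCompact G.hom] [GeometricallyIntegral G.hom] :
    ∃ (L : Over (Spec (CommRingCat.of k))) (_ : GrpObj L) (l : L ⟶ G) (Q : Over (Spec (CommRingCat.of k))) (_ : GrpObj Q)
      (q : G ⟶ Q), IsMonHom l ∧ IsClosedImmersion l.left ∧ IsAffine L.left ∧ Smooth L.hom ∧ ConnectedSpace L.left ∧
      AlgGrp.IsNormalHom l ∧ IsMonHom q ∧ Surjective q.left ∧ Flat q.left ∧ AlgGrp.IsKernel l q ∧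
      IsProper Q.hom ∧ Smooth Q.hom ∧ ConnectedSpace Q.left := by
  classical
  let Ω := AlgebraicClosure k
  let ξ := Spec.map (CommRingCat.ofHom (algebraMap k Ω))
  let GK := (bcF Ω).obj G
  let p : GK.left ⟶ G.left := pullback.fst G.hom ξ
  haveI : IsSeparated G.hom := Groth.Agent.GrpField.isSeparated_grp (G := G)
  haveI : Smooth GK.hom := inferInstanceAs (Smooth (pullback.snd G.hom ξ))
  haveI : QuasiCompact GK.hom := inferInstanceAs (QuasiCompact (pullback.snd G.hom ξ))
  haveI : GeometricallyIntegral GK.hom := inferInstanceAs (GeometricallyIntegral (pullback.snd G.hom ξ))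
  haveI : IsIntegral GK.left := GeometricallyIntegral.isIntegral_of_subsingleton GK.hom
  haveI : IsSeparated GK.hom := Groth.Agent.GrpField.isSeparated_grp (G := GK)
  obtain ⟨N, _, i, hi, hmax⟩ := exists_gAff GK
  obtain ⟨Qc, _, qc, hqcm, hqcf, hqcs, hqck, hQcp, hQcsm, hQcc⟩ := exists_chevalley i hi hmax
  haveI := hi.hom; haveI := hi.closed; haveI := hi.smooth; haveI := hi.conn; haveI := hi.affine
  haveI := hqcm; haveI := hqcf; haveI := hqcs; haveI := hQcp
  haveI : IsReduced N.left := AlgSpLib.isReduced_of_smooth N.hom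
  haveI : GeometricallyIntegral N.hom := AlbLib.geometricallyIntegral_grp N
  haveI : IsIntegral N.left := GeometricallyIntegral.isIntegral_of_subsingleton N.hom
  haveI : Mono i.left := inferInstance
  haveI : Mono i := Over.mono_of_mono_left i
  let e : (SGA7.pt (K := k) Ω ⟶ G) ≃* (𝟙_ (Over (Spec (CommRingCat.of Ω))) ⟶ GK) :=
    MulEquiv.mk' (Equiv.ofBijective _ (AVAmpleLib.bcPt_bijective Ω)) (AVAmpleLib.bcPt_mul Ω)
  have himg : ∀ a, imgPt a = p (AVAmpleLib.pt (e a)) := fun a => (AVAmpleLib.fst_bcPt a).symm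
  -- invariance
  have hinv : ∀ (σ : Ω ≃ₐ[k] Ω) (n : 𝟙_ (Over (Spec (CommRingCat.of Ω))) ⟶ N),
      ∃ n', n' ≫ i = e (galPt σ ≫ e.symm (n ≫ i)) := by
    intro σ
    let g : (SGA7.pt (K := k) Ω ⟶ G) →* (SGA7.pt (K := k) Ω ⟶ G) :=
      MonoidHom.mk' (fun a => galPt σ ≫ a) (fun a b => MonObj.comp_mul _ a b)
    have hgsurj : Function.Surjective g := fun a => ⟨galPt σ.symm ≫ a, by
      show galPt σ ≫ galPt σ.symm ≫ a = a
      rw [← Category.assoc, show galPt σ ≫ galPt σ.symm = 𝟙 (SGA7.pt (K := k) Ω) from ?_, Category.id_comp]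
      apply Over.OverMorphism.ext
      show Spec.map _ ≫ Spec.map _ = 𝟙 _
      rw [← Spec.map_comp, ← Spec.map_id]
      exact congrArg Spec.map (CommRingCat.hom_ext (RingHom.ext σ.apply_symm_apply))⟩
    let Φ := e.toMonoidHom.comp (g.comp e.symm.toMonoidHom)
    have hΦ : Function.Surjective Φ := e.surjective.comp (hgsurj.comp e.symm.surjective)
    let SN : Subgroup (𝟙_ (Over (Spec (CommRingCat.of Ω))) ⟶ GK) :=
      { carrier := {x | ∃ n : _ ⟶ N, n ≫ i = x}
        one_mem' := ⟨1, MonObj.one_comp _⟩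
        mul_mem' := by
          rintro _ _ ⟨a, rfl⟩ ⟨b, rfl⟩
          exact ⟨a * b, MonObj.mul_comp _ _ _⟩
        inv_mem' := by
          rintro _ ⟨a, rfl⟩
          exact ⟨a⁻¹, GrpObj.inv_comp _ _⟩ }
    haveI : SN.Normal := ⟨by
      rintro _ ⟨a, rfl⟩ g
      obtain ⟨b, hb⟩ := hi.normal _ g a
      exact ⟨b, hb.symm⟩⟩
    haveI : (SN.map Φ).Normal := Subgroup.Normal.map ‹_› Φ hΦ
    obtain ⟨B, _, j, hjm, hjc, hBs, hjr⟩ := DenseSubLib.exists_smooth_subgroup (SN.map Φ)
    haveI := hjm; haveI := hjc; haveI := hBs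
    have hB : PtSub (SN.map Φ) j := ⟨hjr⟩
    haveI : IsReduced B.left := AlgSpLib.isReduced_of_smooth B.hom
    -- the semilinear automorphism
    let s := Spec.map (CommRingCat.ofHom (σ.symm : Ω →+* Ω))
    haveI : IsIso s := by
      refine ⟨Spec.map (CommRingCat.ofHom (σ : Ω →+* Ω)), ?_, ?_⟩
      · rw [← Spec.map_comp, ← Spec.map_id]
        exact congrArg Spec.map (CommRingCat.hom_ext (RingHom.ext σ.symm_apply_apply))
      · rw [← Spec.map_comp, ← Spec.map_id]
        exact congrArg Spec.map (CommRingCat.hom_ext (RingHom.ext σ.apply_symm_apply))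
    have hsξ : s ≫ ξ = ξ := by
      show Spec.map _ ≫ Spec.map (CommRingCat.ofHom (algebraMap k Ω)) = Spec.map (CommRingCat.ofHom (algebraMap k Ω))
      rw [← Spec.map_comp]
      exact congrArg Spec.map (CommRingCat.hom_ext (RingHom.ext σ.symm.commutes))
    let θ : GK.left ⟶ GK.left :=
      pullback.map G.hom ξ G.hom ξ (𝟙 _) s (𝟙 _) (by simp) (by rw [hsξ, Category.comp_id])
    haveI : IsIso θ := by dsimp only [θ]; infer_instance
    have hθ : ∀ a : SGA7.pt (K := k) Ω ⟶ G, AVAmpleLib.pt (e (galPt σ ≫ a)) = θ (AVAmpleLib.pt (e a)) := by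
      intro a
      have h1 : Spec.map (CommRingCat.ofHom (σ : Ω →+* Ω)) ≫ (e a).left ≫ θ = (e (galPt σ ≫ a)).left := by
        show _ ≫ (bcPt Ω a).left ≫ θ = (bcPt Ω (galPt σ ≫ a)).left
        rw [AVAmpleLib.bcPt_left, AVAmpleLib.bcPt_left]
        apply pullback.hom_ext
        · rw [pullback.lift_fst, Category.assoc, Category.assoc, pullback.lift_fst, pullback.lift_fst_assoc,
            Category.comp_id]
          rfl
        · rw [pullback.lift_snd, Category.assoc, Category.assoc, pullback.lift_snd, pullback.lift_snd_assoc]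
          refine (congrArg (Spec.map (CommRingCat.ofHom (σ : Ω →+* Ω)) ≫ ·) (Category.id_comp s)).trans
            ((Spec.map_comp _ _).symm.trans ?_)
          exact (congrArg Spec.map (CommRingCat.hom_ext (RingHom.ext σ.apply_symm_apply))).trans (Spec.map_id _)
      show (e (galPt σ ≫ a)).left _ = _
      rw [← h1, Scheme.Hom.comp_apply, Scheme.Hom.comp_apply]
      refine congrArg (fun z => θ ((e a).left z)) ?_
      exact @Subsingleton.elim (PrimeSpectrum Ω) _ _ _
    have hrange : Set.range j.left = θ '' Set.range i.left := by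
      rw [hjr]
      refine subset_antisymm (closure_minimal ?_ (θ.homeomorph.isClosed_image.2 i.left.isClosedEmbedding.isClosed_range)) ?_
      · rintro _ ⟨x, hx, rfl⟩
        obtain ⟨_, ⟨n, rfl⟩, rfl⟩ := Subgroup.mem_map.1 hx
        refine ⟨_, ⟨n.left (IsLocalRing.closedPoint Ω), rfl⟩, ?_⟩
        show θ (AVAmpleLib.pt (n ≫ i)) = AVAmpleLib.pt (e (galPt σ ≫ e.symm (n ≫ i)))
        rw [hθ, e.apply_symm_apply]
      · rintro _ ⟨_, ⟨z, rfl⟩, rfl⟩
        refine forall_mem_of_points (isClosed_closure.preimage (i.left ≫ θ).continuous) (fun n => ?_) z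
        rw [Set.mem_preimage, Scheme.Hom.comp_apply]
        refine subset_closure ⟨Φ (n ≫ i), Subgroup.mem_map.2 ⟨_, ⟨n, rfl⟩, rfl⟩, ?_⟩
        show AVAmpleLib.pt (e (galPt σ ≫ e.symm (n ≫ i))) = _
        rw [hθ, e.apply_symm_apply]
        rfl
    haveI : IsClosedImmersion (i.left ≫ θ) := inferInstance
    obtain ⟨l, hl⟩ := AVAmpleLib.exists_lift_of_reduced (i.left ≫ θ) j.left (by
      rw [hrange, Scheme.Hom.comp_base, TopCat.coe_comp, Set.range_comp])
    haveI : IsClosedImmersion (l ≫ i.left ≫ θ) := by rw [hl]; infer_instance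
    haveI : IsClosedImmersion l := IsClosedImmersion.of_comp l (i.left ≫ θ)
    haveI : IsAffine B.left := isAffine_of_isAffineHom l
    haveI : IrreducibleSpace B.left := by
      have h1 : IsIrreducible (Set.range j.left) := by
        rw [hrange, ← Set.range_comp, ← Set.image_univ]
        exact (IrreducibleSpace.isIrreducible_univ _).image _ (θ.continuous.comp i.left.continuous).continuousOn
      haveI : IrreducibleSpace (Set.range j.left) := Subtype.irreducibleSpace h1
      exact j.left.isClosedEmbedding.isEmbedding.toHomeomorph.symm.surjective.irreducibleSpace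
        j.left.isClosedEmbedding.isEmbedding.toHomeomorph.symm.continuous
    obtain ⟨f, hf⟩ := hmax B j ⟨hjm, hjc, hBs, inferInstance, inferInstance, hB.isNormalHom⟩
    intro n
    obtain ⟨b, hb⟩ := hB.exists_lift (g := Φ (n ≫ i)) (Subgroup.mem_map.2 ⟨_, ⟨n, rfl⟩, rfl⟩)
    exact ⟨b ≫ f, by rw [Category.assoc, hf, hb]; rfl⟩
  -- the image
  let C : Set G.left := p '' Set.range i.left
  haveI : IsIntegralHom ξ := by
    rw [IsIntegralHom.SpecMap_iff]
    exact fun x => (Algebra.IsIntegral.isIntegral (R := k) x)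
  haveI : IsIntegralHom p := MorphismProperty.pullback_fst _ _ inferInstance
  have hC : IsClosed C := p.isClosedMap _ i.left.isClosedEmbedding.isClosed_range
  haveI : JacobsonSpace GK.left := LocallyOfFiniteType.jacobsonSpace GK.hom
  have key : ∀ a : SGA7.pt (K := k) Ω ⟶ G, imgPt a ∈ C ↔ ∃ n, n ≫ i = e a := by
    intro a
    refine ⟨fun h => ?_, fun ⟨n, hn⟩ => ⟨AVAmpleLib.pt (n ≫ i), ⟨n.left (IsLocalRing.closedPoint Ω), rfl⟩, by rw [hn, himg]⟩⟩
    obtain ⟨z, hz, hza⟩ := h
    have hac : IsClosed ({imgPt a} : Set G.left) := by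
      rw [himg, ← Set.image_singleton]
      exact p.isClosedMap _ (isClosed_pt _)
    have hW : IsClosed (Set.range i.left ∩ p ⁻¹' {imgPt a}) :=
      i.left.isClosedEmbedding.isClosed_range.inter (hac.preimage p.continuous)
    obtain ⟨w, ⟨hwi, hwp⟩, hwc⟩ := nonempty_inter_closedPoints
      (show (Set.range i.left ∩ p ⁻¹' {imgPt a}).Nonempty from ⟨z, hz, hza⟩) hW.isLocallyClosed
    obtain ⟨w', rfl⟩ := AVAmpleLib.exists_pt_eq w hwc
    obtain ⟨n, hn⟩ := exists_point_lift i w' hwi
    obtain ⟨σ, hσ⟩ := exists_galPt (e.symm w') a (by rw [himg, e.apply_symm_apply]; exact hwp)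
    obtain ⟨n', hn'⟩ := hinv σ n
    exact ⟨n', by rw [hn', hn, hσ]⟩
  -- the subgroup over the ground field
  let I := Scheme.IdealSheafData.vanishingIdeal (⟨C, hC⟩ : Closeds G.left)
  haveI : IsReduced I.subscheme := DevissLib.isReduced_vanishingIdeal' _
  let L : Over (Spec (CommRingCat.of k)) := Over.mk (I.subschemeι ≫ G.hom)
  let j : L ⟶ G := Over.homMk I.subschemeι rfl
  haveI hjc : IsClosedImmersion j.left := inferInstanceAs (IsClosedImmersion I.subschemeι)
  haveI hLred : IsReduced L.left := inferInstanceAs (IsReduced I.subscheme)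
  haveI hLlft : LocallyOfFiniteType L.hom := inferInstanceAs (LocallyOfFiniteType (I.subschemeι ≫ G.hom))
  haveI : QuasiCompact L.hom := inferInstanceAs (QuasiCompact (I.subschemeι ≫ G.hom))
  haveI : GeometricallyReduced L.hom := AVAmpleLib.gr_of_isReduced L.hom
  have hr : Set.range j.left = C := by
    show Set.range I.subschemeι = C
    rw [Scheme.IdealSheafData.range_subschemeι, Scheme.IdealSheafData.coe_support_vanishingIdeal]
    rfl
  have hjC : ∀ z : SGA7.pt (K := k) Ω ⟶ L, imgPt (z ≫ j) ∈ C := fun z => hr ▸ ⟨_, rfl⟩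
  have hfac : ∀ (Z : Over (Spec (CommRingCat.of k))) (h : Z ⟶ G), IsReduced Z.left → LocallyOfFiniteType Z.hom →
      (∀ z : SGA7.pt (K := k) Ω ⟶ Z, ∃ n, n ≫ i = e (z ≫ h)) → ∃ l : Z ⟶ L, l ≫ j = h := by
    intro Z h _ _ hz
    obtain ⟨l, hl⟩ := AVAmpleLib.exists_lift_of_reduced j.left h.left
      (hr ▸ AVAmpleLib.range_subset_of_imgPts h hC fun z => (key _).2 (hz z))
    refine ⟨Over.homMk l ?_, Over.OverMorphism.ext hl⟩
    rw [← Over.w h, ← hl, Category.assoc, Over.w j]
  haveI : Mono j.left := inferInstance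
  haveI : Mono j := Over.mono_of_mono_left j
  haveI : IsReduced (L ⊗ L).left := by
    haveI : IsLocallyNoetherian L.left := LocallyOfFiniteType.isLocallyNoetherian L.hom
    exact inferInstanceAs (IsReduced (pullback L.hom L.hom))
  haveI : LocallyOfFiniteType (L ⊗ L).hom :=
    inferInstanceAs (LocallyOfFiniteType (pullback.fst L.hom L.hom ≫ L.hom))
  obtain ⟨_, hjm⟩ := Groth.Agent.SubDesc.exists_grpObj_of_mono j
    (hfac (L ⊗ L) _ inferInstance inferInstance fun z => by
      obtain ⟨a, ha⟩ := (key _).1 (hjC (z ≫ fst L L))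
      obtain ⟨b, hb⟩ := (key _).1 (hjC (z ≫ snd L L))
      exact ⟨a * b, by rw [MonObj.mul_comp, ha, hb, ← map_mul, MonObj.comp_mul, Category.assoc, Category.assoc]⟩)
    (hfac _ _ (inferInstanceAs (IsReduced (Spec (CommRingCat.of k))))
      (inferInstanceAs (LocallyOfFiniteType (𝟙 (Spec (CommRingCat.of k))))) fun z =>
      ⟨1, by rw [MonObj.one_comp, MonObj.comp_one, map_one]⟩)
    (hfac L _ inferInstance inferInstance fun z => by
      obtain ⟨a, ha⟩ := (key _).1 (hjC z)
      exact ⟨a⁻¹, by rw [GrpObj.inv_comp, ha, ← map_inv, GrpObj.comp_inv]⟩)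
  haveI := hjm
  haveI hLsm : Smooth L.hom := AlbLib.smooth_grp L
  have hnormal : AlgGrp.IsNormalHom j := by
    haveI : Smooth (G ⊗ L).hom := inferInstanceAs (Smooth (pullback.fst G.hom L.hom ≫ G.hom))
    haveI : IsReduced (G ⊗ L).left := AlgSpLib.isReduced_of_smooth (G ⊗ L).hom
    obtain ⟨c, hc⟩ := hfac (G ⊗ L) (fst G L * (snd G L ≫ j) * (fst G L)⁻¹) inferInstance inferInstance fun z => by
      obtain ⟨a, ha⟩ := (key _).1 (hjC (z ≫ snd G L))
      obtain ⟨b, hb⟩ := hi.normal _ (e (z ≫ fst G L)) a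
      refine ⟨b, ?_⟩
      rw [← hb, ha, ← map_inv, ← map_mul, ← map_mul, MonObj.comp_mul, MonObj.comp_mul, GrpObj.comp_inv,
        Category.assoc]
    intro T g n
    refine ⟨lift g n ≫ c, ?_⟩
    rw [Category.assoc, hc, MonObj.comp_mul, MonObj.comp_mul, GrpObj.comp_inv, lift_fst, lift_snd_assoc]
  haveI hLconn : ConnectedSpace L.left := by
    have h1 : _root_.IsConnected (Set.range j.left) := by
      rw [hr]
      exact (isConnected_range i.left.continuous).image _ p.continuous.continuousOn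
    haveI : ConnectedSpace (Set.range j.left) := Subtype.connectedSpace h1
    exact j.left.isClosedEmbedding.isEmbedding.toHomeomorph.symm.surjective.connectedSpace
      j.left.isClosedEmbedding.isEmbedding.toHomeomorph.symm.continuous
  -- comparison over the extension
  obtain ⟨hξs, hξf⟩ := AVAmpleLib.surjective_flat_qc_bc (k := k) Ω
  let jK := (bcF Ω).map j
  haveI : IsClosedImmersion jK.left := MorphismProperty.of_isPullback (AVAmpleLib.isPullback_bc Ω j) hjc
  haveI : Smooth ((bcF Ω).obj L).hom := inferInstanceAs (Smooth (pullback.snd L.hom ξ))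
  haveI : IsReduced ((bcF Ω).obj L).left := AlgSpLib.isReduced_of_smooth ((bcF Ω).obj L).hom
  haveI : IsAffine L.left := by
    obtain ⟨l, hl⟩ := AVAmpleLib.exists_lift_of_reduced i.left jK.left (by
      rintro _ ⟨z, rfl⟩
      refine forall_mem_of_points (i.left.isClosedEmbedding.isClosed_range.preimage jK.left.continuous) (fun c => ?_) z
      obtain ⟨a, rfl⟩ := (AVAmpleLib.bcPt_bijective Ω).2 c
      obtain ⟨n, hn⟩ := (key _).1 (hjC a)
      refine ⟨n.left (IsLocalRing.closedPoint Ω), ?_⟩
      show AVAmpleLib.pt (n ≫ i) = AVAmpleLib.pt (bcPt Ω a ≫ jK)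
      rw [hn, ← AVAmpleLib.bcPt_comp]
      rfl)
    haveI : IsClosedImmersion (l ≫ i.left) := by rw [hl]; infer_instance
    haveI : IsClosedImmersion l := IsClosedImmersion.of_comp l i.left
    haveI : IsAffine ((bcF Ω).obj L).left := isAffine_of_isAffineHom l
    haveI : IsAffineHom L.hom := MorphismProperty.of_isPullback_of_descendsAlong (P := @IsAffineHom)
      (Q := @Surjective ⊓ @Flat ⊓ @QuasiCompact) (IsPullback.of_hasPullback L.hom ξ).flip
      ⟨⟨hξs, hξf⟩, inferInstance⟩ (by
        haveI : IsAffine (pullback L.hom ξ) := ‹IsAffine ((bcF Ω).obj L).left›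
        exact isAffineHom_of_isAffine _)
    exact isAffine_of_isAffineHom L.hom
  -- the quotient
  haveI : Flat L.hom := inferInstance
  haveI : QuasiCompact j.left := inferInstance
  obtain ⟨Q, _, q, hqm, hqf, hqs, hqp, hker, hQsep, -, hQsm⟩ := Groth.Agent.S3030.result k L G j hnormal
  haveI := hqm; haveI := hqf; haveI := hqs; haveI := hqp; haveI := hQsm inferInstance; haveI := hQsep
  haveI : IsIntegral G.left := GeometricallyIntegral.isIntegral_of_subsingleton G.hom
  haveI : CompactSpace G.left := QuasiCompact.compactSpace_of_compactSpace G.hom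
  haveI : CompactSpace Q.left := ⟨by rw [← q.left.surjective.range_eq]; exact isCompact_range q.left.continuous⟩
  haveI : QuasiCompact Q.hom := (quasiCompact_iff_compactSpace Q.hom).2 inferInstance
  haveI : ConnectedSpace Q.left := q.left.surjective.connectedSpace q.left.continuous
  let qK := (bcF Ω).map q
  haveI : IsMonHom qK := inferInstanceAs (IsMonHom ((bcF Ω).map q))
  haveI : Surjective qK.left := MorphismProperty.of_isPullback (AVAmpleLib.isPullback_bc Ω q) hqs
  haveI : IsSeparated ((bcF Ω).obj Q).hom := inferInstanceAs (IsSeparated (pullback.snd Q.hom ξ))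
  have hkill : i ≫ qK = 1 := by
    refine AVAmpleLib.hom_ext_of_points _ _ fun n => ?_
    obtain ⟨a, ha⟩ := (AVAmpleLib.bcPt_bijective Ω).2 (n ≫ i)
    obtain ⟨c, hc⟩ := AVAmpleLib.exists_factor j a (hr ▸ (key a).2 ⟨n, ha.symm⟩)
    rw [← Category.assoc, ← ha, ← hc, AVAmpleLib.bcPt_comp, Category.assoc, ← Functor.map_comp,
      AntiAffLib.kernel_comp hker, Functor.map_one, MonObj.comp_one, MonObj.comp_one]
  haveI := AntiAffLib.lfp_of_lft qc
  obtain ⟨g, hg⟩ := Groth.Agent.MonoQuot.exists_desc_over qc qK (fun T a b hab => by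
    obtain ⟨l, hl⟩ := AntiAffLib.exists_lift_kernel hqck (a * b⁻¹)
      (by rw [MonObj.mul_comp, GrpObj.inv_comp, hab, mul_inv_cancel])
    have h := congrArg (· ≫ qK) hl
    simp only [Category.assoc] at h
    rw [hkill, MonObj.comp_one, MonObj.mul_comp, GrpObj.inv_comp] at h
    exact mul_inv_eq_one.1 h.symm)
  haveI : Surjective g.left := by
    haveI : Surjective (qc.left ≫ g.left) := by rw [← Over.comp_left, hg]; infer_instance
    exact Surjective.of_comp qc.left g.left
  haveI : UniversallyClosed ((bcF Ω).obj Q).hom := by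
    haveI : UniversallyClosed (g.left ≫ ((bcF Ω).obj Q).hom) := by rw [Over.w g]; infer_instance
    exact UniversallyClosed.of_comp_surjective g.left ((bcF Ω).obj Q).hom
  haveI : UniversallyClosed Q.hom := MorphismProperty.of_isPullback_of_descendsAlong (P := @UniversallyClosed)
    (Q := @Surjective ⊓ @Flat ⊓ @QuasiCompact) (IsPullback.of_hasPullback Q.hom ξ).flip
    ⟨⟨hξs, hξf⟩, inferInstance⟩ (inferInstanceAs (UniversallyClosed ((bcF Ω).obj Q).hom))
  haveI : IsProper Q.hom := ⟨⟩
  exact ⟨L, inferInstance, j, Q, inferInstance, q, inferInstance, hjc, inferInstance, hLsm, hLconn, hnormal, hqm, hqs,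
    hqf, hker, inferInstance, inferInstance, inferInstance⟩

end ChevThmLib

end
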