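import Groth.Agent.ChevThmLib.GAffQuot
import Groth.Agent.AntiAffLib.Centre
import Groth.Agent.AntiAffLib.KerSub
import Groth.Agent.S10428
import Groth.Prelude

/-!
# A connected group without affine normal subgroups is proper
-/

set_option autoImplicit false
set_option linter.style.haveILetI false
set_option backward.isDefEq.respectTransparency false
set_option maxHeartbeats 1600000

universe u

open CategoryTheory CategoryTheory.Limits MonoidalCategory CartesianMonoidalCategory AlgebraicGeometry
open scoped MonObj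
open AVAmpleLib (tR tL)

noncomputable section

namespace ChevThmLib

attribute [-instance] CategoryTheory.Hom.commGroup

variable {k : Type u} [Field k]

/-- A homomorphism with affine kernel is affine onto its image. -/
theorem isAffineHom_of_kernel {G H Q : Over (Spec (CommRingCat.of k))} [GrpObj G] [QuasiCompact G.hom] [GrpObj H]
    [IsAffine H.left] (h : H ⟶ G) [GrpObj Q] [LocallyOfFiniteType Q.hom]
    (q : G ⟶ Q) [IsMonHom q] [Surjective q.left] [Flat q.left] (hk : AlgGrp.IsKernel h q) :
    IsAffineHom q.left := by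
  haveI : IsSeparated Q.hom := Groth.Agent.GrpField.isSeparated_grp (G := Q)
  haveI : QuasiCompact q.left := by
    haveI : QuasiCompact (q.left ≫ Q.hom) := by rw [Over.w q]; infer_instance
    exact QuasiCompact.of_comp q.left Q.hom
  haveI hHa : IsAffineHom H.hom := isAffineHom_of_isAffine _
  have sq : IsPullback ((fst H G ≫ h) * snd H G) (snd H G) q q := by
    have hh : h ≫ q = 1 := by rw [hk.w, Hom.one_def]
    refine IsPullback.of_isLimit' ⟨by rw [MonObj.mul_comp, Category.assoc, hh, MonObj.comp_one, _root_.one_mul]⟩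
      (Limits.PullbackCone.IsLimit.mk _ (fun c =>
      lift (hk.lift (c.fst * c.snd⁻¹) (toUnit _) (by
        rw [MonObj.mul_comp, GrpObj.inv_comp, c.condition, mul_inv_cancel, Hom.one_def])) c.snd)
      (fun c => ?_) (fun c => ?_) (fun c m hm₁ hm₂ => ?_))
    · simp [MonObj.comp_mul]
    · simp
    · refine CartesianMonoidalCategory.hom_ext _ _ ?_ (by simpa using hm₂)
      rw [lift_fst]
      refine hk.hom_ext ?_ (toUnit_unique _ _)
      rw [hk.lift_fst, ← hm₁, ← hm₂]
      simp [MonObj.comp_mul]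
  haveI hsnd : IsAffineHom (snd H G).left := MorphismProperty.pullback_snd (P := @IsAffineHom) H.hom G.hom hHa
  exact MorphismProperty.of_isPullback_of_descendsAlong (P := @IsAffineHom)
    (Q := @Surjective ⊓ @Flat ⊓ @QuasiCompact) (sq.map (Over.forget _)).flip
    ⟨⟨‹Surjective q.left›, ‹Flat q.left›⟩, ‹QuasiCompact q.left›⟩ hsnd

variable [IsAlgClosed k]

/-- A scheme of finite type with finitely many rational points is affine. -/
theorem isAffine_of_finite_points {X : Over (Spec (CommRingCat.of k))} [GrpObj X] [LocallyOfFiniteType X.hom]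
    (h : Set.Finite (Set.univ : Set (𝟙_ (Over (Spec (CommRingCat.of k))) ⟶ X))) : IsAffine X.left := by
  haveI : IsSeparated X.hom := Groth.Agent.GrpField.isSeparated_grp (G := X)
  have hcl : ∀ x : X.left, x ∈ ⋃ a ∈ (Set.univ : Set (𝟙_ (Over (Spec (CommRingCat.of k))) ⟶ X)), {AVAmpleLib.pt a} :=
    forall_mem_of_points (h.isClosed_biUnion fun a _ => isClosed_pt a) fun a => Set.mem_biUnion trivial rfl
  haveI : T1Space X.left := ⟨fun x => by
    obtain ⟨a, -, ha⟩ := Set.mem_iUnion₂.1 (hcl x)
    rw [Set.mem_singleton_iff.1 ha]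
    exact isClosed_pt a⟩
  haveI : Finite X.left := Set.finite_univ_iff.1 ((h.image AVAmpleLib.pt).subset fun x _ => by
    obtain ⟨a, ha, hxa⟩ := Set.mem_iUnion₂.1 (hcl x)
    exact ⟨a, ha, (Set.mem_singleton_iff.1 hxa).symm⟩)
  infer_instance

/-- A smooth group with finite identity component has dimension at most zero. -/
theorem dim_le_zero_of_finite_points {X : Over (Spec (CommRingCat.of k))} [GrpObj X] [LocallyOfFiniteType X.hom]
    (h : Set.Finite (Set.univ : Set (𝟙_ (Over (Spec (CommRingCat.of k))) ⟶ X))) : topologicalKrullDim X.left ≤ 0 := by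
  haveI : IsSeparated X.hom := Groth.Agent.GrpField.isSeparated_grp (G := X)
  have hcl : ∀ x : X.left, x ∈ ⋃ a ∈ (Set.univ : Set (𝟙_ (Over (Spec (CommRingCat.of k))) ⟶ X)), {AVAmpleLib.pt a} :=
    forall_mem_of_points (h.isClosed_biUnion fun a _ => isClosed_pt a) fun a => Set.mem_biUnion trivial rfl
  haveI : T1Space X.left := ⟨fun x => by
    obtain ⟨a, -, ha⟩ := Set.mem_iUnion₂.1 (hcl x)
    rw [Set.mem_singleton_iff.1 ha]
    exact isClosed_pt a⟩
  haveI : Finite X.left := Set.finite_univ_iff.1 ((h.image AVAmpleLib.pt).subset fun x _ => by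
    obtain ⟨a, ha, hxa⟩ := Set.mem_iUnion₂.1 (hcl x)
    exact ⟨a, ha, (Set.mem_singleton_iff.1 hxa).symm⟩)
  exact topologicalKrullDim_zero_of_discreteTopology X.left

/-- A connected group whose connected affine normal subgroups are trivial is proper. -/
theorem isProper_of_trivial (G : Over (Spec (CommRingCat.of k))) [GrpObj G] [Smooth G.hom] [QuasiCompact G.hom]
    [ConnectedSpace G.left]
    (htriv : ∀ (N : Over (Spec (CommRingCat.of k))) [GrpObj N] (i : N ⟶ G), IsAffNormal i → IsIso N.hom) :
    IsProper G.hom := by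
  classical
  haveI : IsSeparated G.hom := Groth.Agent.GrpField.isSeparated_grp (G := G)
  haveI : GeometricallyIntegral G.hom := AlbLib.geometricallyIntegral_grp G
  haveI : IsIntegral G.left := GeometricallyIntegral.isIntegral_of_subsingleton G.hom
  have hpts : ∀ {N : Over (Spec (CommRingCat.of k))}, IsIso N.hom →
      ∀ a b : 𝟙_ (Over (Spec (CommRingCat.of k))) ⟶ N, a = b := fun {N} hN a b => by
    apply Over.OverMorphism.ext
    rw [← cancel_mono N.hom]
    exact (Over.w a).trans (Over.w b).symm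
  obtain ⟨Z, _, iZ, hZm, hZc, hiff, Qz, _, qz, hqm, hQa, hQl, hqf, hqs, hqk⟩ := AntiAffLib.exists_centre G
  haveI := hZm; haveI := hZc; haveI := hqm; haveI := hQa; haveI := hQl; haveI := hqf; haveI := hqs
  -- the reduced connected centre
  let S : Subgroup (𝟙_ (Over (Spec (CommRingCat.of k))) ⟶ G) :=
    { carrier := {g | ∃ z, z ≫ iZ = g}
      one_mem' := ⟨1, MonObj.one_comp _⟩
      mul_mem' := by
        rintro _ _ ⟨a, rfl⟩ ⟨b, rfl⟩
        exact ⟨a * b, MonObj.mul_comp _ _ _⟩
      inv_mem' := by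
        rintro _ ⟨a, rfl⟩
        exact ⟨a⁻¹, GrpObj.inv_comp _ _⟩ }
  obtain ⟨B, _, j, hjm, hjc, hBs, hjr⟩ := DenseSubLib.exists_smooth_subgroup S
  haveI := hjm; haveI := hjc; haveI := hBs
  have hB : PtSub S j := ⟨hjr⟩
  haveI : IsReduced B.left := AlgSpLib.isReduced_of_smooth B.hom
  haveI : QuasiCompact B.hom := by rw [← Over.w j]; infer_instance
  obtain ⟨A, _, a₀, hm₀, hc₀, ho₀, hs₀, hq₀, hint, hconn, -, t, ht⟩ := exists_component' B
  haveI := hm₀; haveI := hc₀; haveI := hs₀; haveI := hq₀; haveI := hint; haveI := hconn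
  obtain ⟨lZ, hlZ⟩ := hB.exists_factor iZ (𝟙 G) (fun g hg => by
    obtain ⟨z, hz⟩ := hg
    exact ⟨z, by rw [hz, Category.comp_id]⟩)
  rw [Category.comp_id] at hlZ
  let iA : A ⟶ G := a₀ ≫ j
  haveI : IsClosedImmersion iA.left := by rw [Over.comp_left]; infer_instance
  have hcentral : ∀ (T : Over (Spec (CommRingCat.of k))) (a : T ⟶ A) (g : T ⟶ G), (a ≫ iA) * g = g * (a ≫ iA) := by
    intro T a g
    have := (hiff T (a ≫ iA)).1 ⟨a ≫ a₀ ≫ lZ, by simp only [iA, Category.assoc, hlZ]⟩ T (𝟙 T) g
    simpa using this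
  -- it is proper
  haveI hAp : IsProper A.hom := by
    by_contra hA
    obtain ⟨V, _, iV, hVm, hVc, hVs, hVa, hVd⟩ := exists_affine_of_integral A hA
    haveI := hVm; haveI := hVc; haveI := hVs; haveI := hVa
    haveI : QuasiCompact V.hom := by rw [← Over.w iV]; infer_instance
    obtain ⟨W, _, w₀, hwm, hwc, hwo, hws, hwq, hwi, hwconn, -, tW, htW⟩ := exists_component' V
    haveI := hwm; haveI := hwc; haveI := hws; haveI := hwconn
    haveI : IsAffine W.left := isAffine_of_isAffineHom w₀.left
    haveI : IsClosedImmersion ((w₀ ≫ iV) ≫ iA).left := by rw [Over.comp_left, Over.comp_left]; infer_instance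
    have hW := htriv W ((w₀ ≫ iV) ≫ iA) ⟨inferInstance, inferInstance, hws, hwconn, inferInstance, fun T g n => ⟨n, by
      rw [← Category.assoc n, ← hcentral, _root_.mul_assoc, mul_inv_cancel, _root_.mul_one]⟩⟩
    refine absurd hVd (not_lt.2 (dim_le_zero_of_finite_points (tW.finite_toSet.subset fun v _ => ?_)))
    obtain ⟨c, hc, e, he⟩ := htW v
    rw [← he, hpts hW e 1, MonObj.one_comp, _root_.one_mul]
    exact hc
  -- a quasi-complement
  obtain ⟨H, _, h, hhm, hhc, hhs, hhconn, hhn, hsurj, hfin⟩ := exists_quasiCompl G A iA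
  haveI := hhm; haveI := hhc; haveI := hhs; haveI := hhconn
  haveI : QuasiCompact H.hom := by rw [← Over.w h]; infer_instance
  haveI : IsSeparated Qz.hom := Groth.Agent.GrpField.isSeparated_grp (G := Qz)
  let f : H ⟶ Qz := h ≫ qz
  haveI : QuasiCompact f.left := by
    haveI : QuasiCompact (f.left ≫ Qz.hom) := by rw [Over.w f]; infer_instance
    exact QuasiCompact.of_comp f.left Qz.hom
  obtain ⟨C, _, p, c, hpm, hcm, hpc, hpf, hps, hpp, hcc⟩ :=
    Groth.Agent.GrpHom.exists_fppf_image f (Groth.Agent.GrpField.flat_field _)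
  haveI := hpm; haveI := hcm; haveI := hpf; haveI := hps; haveI := hcc
  haveI : LocallyOfFiniteType C.hom := by rw [← Over.w c]; infer_instance
  haveI : IsAffine C.left := isAffine_of_isAffineHom c.left
  obtain ⟨Kp, _, ip, hipm, hipc, hipk, -⟩ := AntiAffLib.exists_kernel p
  haveI := hipm; haveI := hipc
  haveI : LocallyOfFiniteType Kp.hom := by rw [← Over.w ip]; infer_instance
  haveI : Mono ip.left := inferInstance
  haveI : Mono ip := Over.mono_of_mono_left ip
  haveI : Mono h.left := inferInstance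
  haveI : Mono h := Over.mono_of_mono_left h
  haveI : Mono j.left := inferInstance
  haveI : Mono j := Over.mono_of_mono_left j
  haveI : Mono iA.left := inferInstance
  haveI : Mono iA := Over.mono_of_mono_left iA
  -- finitely many points in the intersection
  let P := pullback iA.left h.left
  haveI := hfin
  haveI : Finite ↥P := Groth.Agent.S10428.finite_of_isFinite (pullback.fst iA.left h.left ≫ A.hom)
  have hPfin : Set.Finite {x : 𝟙_ (Over (Spec (CommRingCat.of k))) ⟶ H | ∃ a, a ≫ iA = x ≫ h} := by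
    refine Set.Finite.of_finite_image (f := AVAmpleLib.pt) ((Set.finite_range (pullback.snd iA.left h.left)).subset ?_) ?_
    · rintro _ ⟨x, ⟨a, ha⟩, rfl⟩
      refine ⟨(pullback.lift a.left x.left (congrArg CommaMorphism.left ha)) (IsLocalRing.closedPoint k), ?_⟩
      rw [← Scheme.Hom.comp_apply, pullback.lift_snd]
      rfl
    · exact fun x _ y _ e => point_ext e
  -- the kernel is finite
  have hKfin : Set.Finite (Set.univ : Set (𝟙_ (Over (Spec (CommRingCat.of k))) ⟶ Kp)) := by
    have hcfin : ∀ c : 𝟙_ (Over (Spec (CommRingCat.of k))) ⟶ B, Set.Finite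
        {x : 𝟙_ (Over (Spec (CommRingCat.of k))) ⟶ Kp | ∃ e, ((e ≫ a₀) * c) ≫ j = x ≫ ip ≫ h} := by
      intro c
      by_cases hne : ∃ (x : 𝟙_ (Over (Spec (CommRingCat.of k))) ⟶ Kp) (e : _),
          ((e ≫ a₀) * c) ≫ j = x ≫ ip ≫ h
      · obtain ⟨x₀, e₀, he₀⟩ := hne
        refine Set.Finite.of_finite_image (f := fun x => (x * x₀⁻¹) ≫ ip) (hPfin.subset ?_) ?_
        · rintro _ ⟨x, ⟨e, he⟩, rfl⟩
          refine ⟨e * e₀⁻¹, ?_⟩
          show (e * e₀⁻¹) ≫ a₀ ≫ j = ((x * x₀⁻¹) ≫ ip) ≫ h
          rw [Category.assoc, MonObj.mul_comp (x) x₀⁻¹, GrpObj.inv_comp, ← he, ← he₀, MonObj.mul_comp, MonObj.mul_comp,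
            MonObj.mul_comp, GrpObj.inv_comp, Category.assoc, Category.assoc]
          group
        · intro x _ y _ hxy
          exact mul_right_cancel ((cancel_mono ip).1 hxy)
      · exact (Set.finite_empty).subset fun x hx => hne ⟨x, hx⟩
    refine (t.finite_toSet.biUnion fun c _ => hcfin c).subset ?_
    · intro x _
      have hx : ∃ z, z ≫ iZ = x ≫ ip ≫ h := AntiAffLib.exists_lift_kernel hqk _ (by
        rw [Category.assoc, Category.assoc, show h ≫ qz = p ≫ c from hpc.symm, ← Category.assoc ip,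
          AntiAffLib.kernel_comp hipk, MonObj.one_comp, MonObj.comp_one])
      obtain ⟨b, hb⟩ := hB.exists_lift (g := x ≫ ip ≫ h) hx
      obtain ⟨c, hc, e, he⟩ := ht b
      exact Set.mem_biUnion hc ⟨e, by rw [he, hb]⟩
  haveI : IsAffine Kp.left := isAffine_of_finite_points hKfin
  haveI : IsAffineHom p.left := isAffineHom_of_kernel ip p hipk
  haveI : IsAffine H.left := isAffine_of_isAffineHom p.left
  have hH := htriv H h ⟨hhm, hhc, hhs, hhconn, inferInstance, hhn⟩
  -- so the centre is everything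
  have hh1 : h = 1 := by
    haveI : IsIso H.hom := hH
    haveI : IsReduced H.left := AlgSpLib.isReduced_of_smooth H.hom
    refine AVAmpleLib.hom_ext_of_points _ _ fun a => ?_
    rw [hpts hH a 1, MonObj.one_comp h, MonObj.comp_one]
  haveI : Surjective iA.left := by
    have e : (iA ⊗ₘ h) ≫ μ[G] = fst A H ≫ iA := by
      rw [show (iA ⊗ₘ h) ≫ μ[G] = (fst A H ≫ iA) * (snd A H ≫ h) by
        rw [Hom.mul_def]; congr 1,
        show snd A H ≫ h = 1 from (congrArg (snd A H ≫ ·) hh1).trans (MonObj.comp_one _), _root_.mul_one]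
    rw [e, Over.comp_left] at hsurj
    haveI := hsurj
    exact Surjective.of_comp (fst A H).left iA.left
  haveI : IsIso iA.left := isIso_of_isClosedImmersion_of_surjective iA.left
  rw [← MorphismProperty.cancel_left_of_respectsIso @IsProper iA.left G.hom, Over.w iA]
  exact hAp

end ChevThmLib

end
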