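import Groth.Agent.ChevThmLib.Eval
import Mathlib

/-!
# A morphism to a variety of smaller dimension has an infinite fibre
-/

set_option autoImplicit false
set_option linter.style.haveILetI false

universe u

noncomputable section

namespace ChevThmLib

variable {k : Type u} [Field k] [IsAlgClosed k]

/-- The image of an injective map of finitely generated algebras contains the points of a basic open. -/
theorem exists_extension {C E : Type u} [CommRing C] [IsDomain C] [Algebra k C] [Algebra.FiniteType k C]
    [CommRing E] [IsDomain E] [Algebra k E] [Algebra.FiniteType k E] (f : C →ₐ[k] E) (hf : Function.Injective f) :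
    ∃ F : C, F ≠ 0 ∧ ∀ h : C →ₐ[k] k, h F ≠ 0 → ∃ h' : E →ₐ[k] k, h'.comp f = h := by
  haveI : IsNoetherianRing C := Algebra.FiniteType.isNoetherianRing k C
  have hfin : f.toRingHom.FiniteType := by
    letI := f.toRingHom.toAlgebra
    haveI : IsScalarTower k C E := IsScalarTower.of_algebraMap_eq fun a => (f.commutes a).symm
    exact Algebra.FiniteType.of_restrictScalars_finiteType k C E
  have hc := PrimeSpectrum.isConstructible_range_comap (RingHom.FinitePresentation.of_finiteType.1 hfin)
  obtain ⟨D, hD⟩ := PrimeSpectrum.exists_constructibleSetData_iff.2 hc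
  have hbot : (⊥ : PrimeSpectrum C) ∈ D.toSet := by
    rw [hD]
    exact ⟨⊥, PrimeSpectrum.ext (Ideal.comap_bot_of_injective _ hf)⟩
  simp only [PrimeSpectrum.ConstructibleSetData.toSet, Set.mem_iUnion] at hbot
  obtain ⟨c, hc', hz, hnz⟩ := hbot
  have hg : ∀ i, c.g i = 0 := fun i => (Ideal.mem_bot).1 (hz ⟨i, rfl⟩)
  have hF : c.f ≠ 0 := fun h0 => hnz (by
    rw [PrimeSpectrum.mem_zeroLocus, Set.singleton_subset_iff, h0]
    exact zero_mem (⊥ : PrimeSpectrum C).asIdeal)
  refine ⟨c.f, hF, fun h hh => ?_⟩
  let m : PrimeSpectrum C := ⟨RingHom.ker h, RingHom.ker_isPrime _⟩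
  have hm : m ∈ D.toSet := by
    simp only [PrimeSpectrum.ConstructibleSetData.toSet, Set.mem_iUnion]
    refine ⟨c, hc', ?_, ?_⟩
    · rw [PrimeSpectrum.mem_zeroLocus]
      rintro _ ⟨i, rfl⟩
      rw [hg i]
      exact zero_mem m.asIdeal
    · rw [PrimeSpectrum.mem_zeroLocus, Set.singleton_subset_iff]
      exact hh
  rw [hD] at hm
  obtain ⟨P, hP⟩ := hm
  obtain ⟨M, hM, hPM⟩ := P.asIdeal.exists_le_maximal P.isPrime.ne_top
  haveI : IsJacobsonRing E := isJacobsonRing_of_finiteType (A := k)
  letI := Ideal.Quotient.field M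
  haveI : Module.Finite k (E ⧸ M) := finite_of_finite_type_of_isJacobsonRing k (E ⧸ M)
  let e : (E ⧸ M) ≃ₐ[k] k := (AlgEquiv.ofBijective (Algebra.ofId k (E ⧸ M))
    ⟨(algebraMap k (E ⧸ M)).injective, IsAlgClosed.algebraMap_bijective_of_isIntegral.2⟩).symm
  refine ⟨e.toAlgHom.comp (Ideal.Quotient.mkₐ k M), ?_⟩
  refine AlgHom.ext fun x => ?_
  have hx : x - algebraMap k C (h x) ∈ RingHom.ker h := by
    rw [RingHom.mem_ker, map_sub, AlgHom.commutes]
    exact sub_self _
  have hx' : f (x - algebraMap k C (h x)) ∈ M := hPM (by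
    have : x - algebraMap k C (h x) ∈ (PrimeSpectrum.comap f.toRingHom P).asIdeal := by rw [hP]; exact hx
    exact this)
  have h2 : e (Ideal.Quotient.mk M (f (x - algebraMap k C (h x)))) = 0 := by
    rw [Ideal.Quotient.eq_zero_iff_mem.2 hx', map_zero]
  show e (Ideal.Quotient.mk M (f x)) = h x
  rw [map_sub, map_sub, map_sub, AlgHom.commutes, sub_eq_zero] at h2
  rw [h2]
  exact e.commutes (h x)

/-- If the transcendence degree drops, some fibre has infinitely many points. -/
theorem exists_infinite_fibre {C E : Type u} [CommRing C] [Algebra k C] [Algebra.FiniteType k C] [CommRing E]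
    [IsDomain E] [Algebra k E] [Algebra.FiniteType k E] (f : C →ₐ[k] E)
    (hlt : Algebra.trdeg k C < Algebra.trdeg k E) :
    ∃ y : C →ₐ[k] k, Set.Infinite {h : E →ₐ[k] k | h.comp f = y} := by
  classical
  let C' : Subalgebra k E := f.range
  haveI : Algebra.FiniteType k C' := Algebra.FiniteType.of_surjective f.rangeRestrict f.rangeRestrict_surjective
  have hC' : Algebra.trdeg k C' < Algebra.trdeg k E :=
    (trdeg_le_of_surjective f.rangeRestrict f.rangeRestrict_surjective).trans_lt hlt
  obtain ⟨t, ht⟩ : ∃ t : E, Transcendental C' t := by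
    by_contra hne
    push_neg at hne
    haveI : Algebra.IsAlgebraic C' E := ⟨fun t => not_not.1 (hne t)⟩
    have h := trdeg_add_eq k C' (A := E)
    rw [trdeg_eq_zero (R := C') (A := E), add_zero] at h
    exact hC'.ne h
  let g : Polynomial C' →ₐ[k] E := (Polynomial.aeval t : Polynomial C' →ₐ[C'] E).restrictScalars k
  have hg : Function.Injective g := transcendental_iff_injective.1 ht
  haveI : Algebra.FiniteType k (Polynomial C') :=
    Algebra.FiniteType.trans (inferInstance : Algebra.FiniteType k C') inferInstance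
  obtain ⟨F, hF, hext⟩ := exists_extension (k := k) g hg
  obtain ⟨y', hy'⟩ := exists_point (k := k) (B := C') (Polynomial.leadingCoeff_ne_zero.2 hF)
  refine ⟨y'.comp f.rangeRestrict, ?_⟩
  let q : Polynomial k := F.map y'.toRingHom
  have hq : q ≠ 0 := fun h0 => hy' (by
    have := congrArg (fun p => Polynomial.coeff p F.natDegree) h0
    simpa [q, Polynomial.coeff_map] using this)
  let T : Set k := {τ | q.eval τ ≠ 0}
  have hT : T.Infinite := by
    have : T = (↑q.roots.toFinset)ᶜ := by
      ext τ
      simp [T, Polynomial.mem_roots hq, hq]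
    rw [this]
    exact (Finset.finite_toSet _).infinite_compl
  refine Set.Infinite.of_image (fun h : E →ₐ[k] k => h t) (hT.mono fun τ hτ => ?_)
  let χ : Polynomial C' →ₐ[k] k := (Polynomial.aeval τ).comp (Polynomial.mapAlgHom y')
  obtain ⟨h', hh'⟩ := hext χ (by
    show (Polynomial.aeval τ) (F.map y'.toRingHom) ≠ 0
    rw [Polynomial.coe_aeval_eq_eval]
    exact hτ)
  refine ⟨h', ?_, ?_⟩
  · refine AlgHom.ext fun c => ?_
    have := AlgHom.congr_fun hh' (Polynomial.C (f.rangeRestrict c))
    simpa [g, χ] using this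
  · have := AlgHom.congr_fun hh' Polynomial.X
    simpa [g, χ] using this

end ChevThmLib

end
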