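import Groth.Agent.ChevThmLib.Den
import Groth.Agent.ChevThmLib.Fibre
import Groth.Agent.FibDimLib.Formula
import Groth.Agent.WeilLib.Dim

/-!
# Stabilisers of points on an invariant divisor
-/

set_option autoImplicit false
set_option linter.style.haveILetI false
set_option maxHeartbeats 1000000

universe u

open TensorProduct

noncomputable section

namespace ChevThmLib

variable {k K : Type u} [Field k] [Field K] [Algebra k K] {A : Subalgebra k K}

instance isPrime_ker_point (ε : A →ₐ[k] k) : (RingHom.ker ε).IsPrime := RingHom.ker_isPrime ε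

/-- The local ring at a point of the model. -/
abbrev Loc (ε : A →ₐ[k] k) : Type u := Localization.AtPrime (RingHom.ker ε)

/-- The local ring in the function field. -/
def locHom (ε : A →ₐ[k] k) : Loc ε →ₐ[k] K :=
  IsLocalization.liftAlgHom (M := (RingHom.ker ε).primeCompl) (f := A.val) fun y =>
    isUnit_iff_ne_zero.2 fun h => y.2 (by
      rw [show y.1 = 0 from Subtype.ext h]
      exact zero_mem _)

@[simp] theorem locHom_algebraMap (ε : A →ₐ[k] k) (a : A) : locHom ε (algebraMap A (Loc ε) a) = (a : K) :=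
  IsLocalization.lift_eq _ _

theorem locHom_mk' (ε : A →ₐ[k] k) (a : A) (s : (RingHom.ker ε).primeCompl) :
    locHom ε (IsLocalization.mk' (Loc ε) a s) * (s.1 : K) = (a : K) := by
  rw [← locHom_algebraMap ε s.1, ← map_mul, IsLocalization.mk'_spec, locHom_algebraMap]

theorem locHom_injective (ε : A →ₐ[k] k) : Function.Injective (locHom ε) := by
  refine (injective_iff_map_eq_zero _).2 fun l hl => ?_
  obtain ⟨a, s, rfl⟩ := IsLocalization.exists_mk'_eq (RingHom.ker ε).primeCompl l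
  have := locHom_mk' ε a s
  rw [hl, zero_mul] at this
  rw [show a = 0 from Subtype.ext this.symm, IsLocalization.mk'_zero]

/-- Membership in the local ring. -/
def InLoc (ε : A →ₐ[k] k) (f : K) : Prop := ∃ l, locHom ε l = f

theorem inLoc_of_mul (ε : A →ₐ[k] k) {f : K} {a s : A} (hs : ε s ≠ 0) (h : f * (s : K) = a) : InLoc ε f := by
  refine ⟨IsLocalization.mk' _ a (⟨s, hs⟩ : (RingHom.ker ε).primeCompl), mul_right_cancel₀ (b := (s : K)) ?_ ?_⟩
  · exact fun h0 => hs (by rw [show s = 0 from Subtype.ext h0, map_zero])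
  · rw [h]; exact locHom_mk' ε a ⟨s, hs⟩

theorem InLoc.exists_mul {ε : A →ₐ[k] k} {f : K} (h : InLoc ε f) :
    ∃ a s : A, ε s ≠ 0 ∧ f * (s : K) = a := by
  obtain ⟨l, rfl⟩ := h
  obtain ⟨a, s, rfl⟩ := IsLocalization.exists_mk'_eq (RingHom.ker ε).primeCompl l
  exact ⟨a, s.1, s.2, locHom_mk' ε a s⟩

theorem point_eq_of_inLoc (ε ε' : A →ₐ[k] k) (h : ∀ f, InLoc ε f → InLoc ε' f) : ε' = ε := by
  refine AlgHom.ext fun a => ?_
  by_contra hne
  let c : A := a - algebraMap k A (ε' a)
  have hc : ε c ≠ 0 := by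
    rw [map_sub, AlgHom.commutes]
    exact sub_ne_zero.2 (Ne.symm hne)
  have hc' : ε' c = 0 := by
    rw [map_sub, AlgHom.commutes]
    exact sub_self _
  have hcK : (c : K) ≠ 0 := fun h0 => hc (by rw [show c = 0 from Subtype.ext h0, map_zero])
  obtain ⟨a', s, hs, he⟩ := (h _ (inLoc_of_mul ε hc (show (c : K)⁻¹ * c = (1 : A) from inv_mul_cancel₀ hcK))).exists_mul
  refine hs ?_
  have : s = c * a' := Subtype.ext (by
    show (s : K) = c * a'
    rw [← he, mul_inv_cancel_left₀ hcK])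
  rw [this, map_mul, hc', zero_mul]

/-- The value at the point. -/
def locVal (ε : A →ₐ[k] k) : Loc ε →ₐ[k] k :=
  IsLocalization.liftAlgHom (M := (RingHom.ker ε).primeCompl) (f := ε) fun y => isUnit_iff_ne_zero.2 y.2

@[simp] theorem locVal_algebraMap (ε : A →ₐ[k] k) (a : A) : locVal ε (algebraMap A (Loc ε) a) = ε a :=
  IsLocalization.lift_eq _ _

/-- The reduction modulo a power of the maximal ideal. -/
def locMod (ε : A →ₐ[k] k) (n : ℕ) : Loc ε →ₐ[k] A ⧸ (RingHom.ker ε) ^ n :=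
  IsLocalization.liftAlgHom (M := (RingHom.ker ε).primeCompl) (f := Ideal.Quotient.mkₐ k _) fun y => by
    rcases n with _ | n
    · haveI : Subsingleton (A ⧸ (RingHom.ker ε) ^ 0) :=
        Ideal.Quotient.subsingleton_iff.2 (by rw [pow_zero, Ideal.one_eq_top])
      exact isUnit_of_subsingleton _
    · have hy : ε y.1 ≠ 0 := y.2
      have hnil : IsNilpotent (Ideal.Quotient.mk ((RingHom.ker ε) ^ (n + 1))
          (y.1 - algebraMap k A (ε y.1))) := ⟨n + 1, by
        rw [← map_pow, Ideal.Quotient.eq_zero_iff_mem]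
        exact Ideal.pow_mem_pow (by rw [RingHom.mem_ker, map_sub, AlgHom.commutes]; exact sub_self _) _⟩
      have hu : IsUnit (algebraMap k (A ⧸ (RingHom.ker ε) ^ (n + 1)) (ε y.1)) := (isUnit_iff_ne_zero.2 hy).map _
      have := hnil.isUnit_add_left_of_commute hu (Commute.all _ _)
      rw [map_sub, ← Ideal.Quotient.mkₐ_eq_mk k, AlgHom.commutes] at this
      simpa using this

@[simp] theorem locMod_algebraMap (ε : A →ₐ[k] k) (n : ℕ) (a : A) :
    locMod ε n (algebraMap A (Loc ε) a) = Ideal.Quotient.mk _ a :=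
  IsLocalization.lift_eq _ _

theorem eq_zero_of_locMod [IsNoetherianRing A] (ε : A →ₐ[k] k) {l : Loc ε} (h : ∀ n, locMod ε n l = 0) : l = 0 := by
  obtain ⟨a, s, rfl⟩ := IsLocalization.exists_mk'_eq (RingHom.ker ε).primeCompl l
  haveI : IsNoetherianRing (Loc ε) := IsLocalization.isNoetherianRing (RingHom.ker ε).primeCompl _ inferInstance
  have hbot := Ideal.iInf_pow_eq_bot_of_isLocalRing (IsLocalRing.maximalIdeal (Loc ε))
    (IsLocalRing.maximalIdeal.isMaximal _).ne_top
  have hmem : IsLocalization.mk' (Loc ε) a s ∈ ⨅ n : ℕ, IsLocalRing.maximalIdeal (Loc ε) ^ n := by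
    rw [Submodule.mem_iInf]
    intro n
    have h1 := h n
    have h2 : locMod ε n (IsLocalization.mk' (Loc ε) a s * algebraMap A (Loc ε) s.1) = 0 := by
      rw [map_mul, h1, zero_mul]
    rw [IsLocalization.mk'_spec, locMod_algebraMap] at h2
    rw [Ideal.Quotient.eq_zero_iff_mem] at h2
    rw [← Localization.AtPrime.map_eq_maximalIdeal, ← Ideal.map_pow,
      IsLocalization.mk'_mem_iff]
    exact Ideal.mem_map_of_mem _ h2
  rwa [hbot, Ideal.mem_bot] at hmem

variable {B : Type u} [CommRing B] [Algebra k B]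

/-- Restriction of a function on a product to a point of the second factor. -/
def red (ε : A →ₐ[k] k) : B ⊗[k] A →ₐ[k] B :=
  Algebra.TensorProduct.lift (AlgHom.id k B) ((Algebra.ofId k B).comp ε) fun _ _ => Commute.all _ _

theorem apply_red (ε : A →ₐ[k] k) (g : B →ₐ[k] k) (z : B ⊗[k] A) : g (red ε z) = ε (ev g z) := by
  induction z using TensorProduct.induction_on with
  | zero => simp
  | tmul x c => simp [red, Algebra.smul_def]
  | add u v hu hv => simp only [map_add, hu, hv]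

/-- Contraction with a linear form. -/
def contract {C : Type u} [AddCommGroup C] [Module k C] (φ : C →ₗ[k] k) : B ⊗[k] C →ₗ[k] B :=
  (TensorProduct.rid k B).toLinearMap ∘ₗ TensorProduct.map LinearMap.id φ

theorem apply_contract {C : Type u} [CommRing C] [Algebra k C] (φ : C →ₗ[k] k) (g : B →ₐ[k] k) (z : B ⊗[k] C) :
    g (contract φ z) = φ (ev g z) := by
  induction z using TensorProduct.induction_on with
  | zero => simp
  | tmul x c => simp [contract, mul_comm]
  | add u v hu hv => simp only [map_add, hu, hv]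

/-- The power of the image of an ideal. -/
theorem map_pow_eq_bot {R S : Type u} [CommRing R] [CommRing S] (f : R →+* S) (I : Ideal R) (n : ℕ)
    (h : ∀ a ∈ I ^ n, f a = 0) : (I.map f) ^ n = ⊥ := by
  rw [← Ideal.map_pow, eq_bot_iff, Ideal.map_le_iff_le_comap]
  exact fun a ha => h a ha

/-- The reduction of a function modulo a power of a point differs from its restriction by a nilpotent. -/
theorem sub_red_pow {C : Type u} [CommRing C] [Algebra k C] (ε : A →ₐ[k] k) (n : ℕ) (π : A →ₐ[k] C)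
    (hπ : ∀ a ∈ (RingHom.ker ε) ^ n, π a = 0) (z : B ⊗[k] A) :
    (red ε z ⊗ₜ[k] (1 : C) - Algebra.TensorProduct.map (AlgHom.id k B) π z) ^ n = 0 := by
  let φ : A →ₐ[k] B ⊗[k] C := Algebra.TensorProduct.includeRight.comp π
  let J : Ideal (B ⊗[k] C) := (RingHom.ker ε).map φ.toRingHom
  have hmem : red ε z ⊗ₜ[k] (1 : C) - Algebra.TensorProduct.map (AlgHom.id k B) π z ∈ J := by
    induction z using TensorProduct.induction_on with
    | zero => simp
    | tmul x c =>
      have e : red ε (x ⊗ₜ[k] c) ⊗ₜ[k] (1 : C) - Algebra.TensorProduct.map (AlgHom.id k B) π (x ⊗ₜ[k] c) =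
          (x ⊗ₜ[k] (1 : C)) * φ (algebraMap k A (ε c) - c) := by
        simp [φ, red, Algebra.TensorProduct.algebraMap_apply, mul_sub, TensorProduct.tmul_sub]
        rw [mul_comm, ← Algebra.smul_def, Algebra.algebraMap_eq_smul_one, TensorProduct.smul_tmul]
      rw [e]
      refine Ideal.mul_mem_left _ _ (Ideal.mem_map_of_mem φ.toRingHom ?_)
      rw [RingHom.mem_ker, map_sub, AlgHom.commutes]
      exact sub_self _
    | add u v hu hv =>
      rw [map_add, map_add, TensorProduct.add_tmul, add_sub_add_comm]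
      exact add_mem hu hv
  have h0 : J ^ n = ⊥ := map_pow_eq_bot φ.toRingHom (RingHom.ker ε) n fun a ha => by
    show φ a = 0
    rw [show φ a = Algebra.TensorProduct.includeRight (π a) from rfl, hπ a ha, map_zero]
  have := Ideal.pow_mem_pow hmem n
  rwa [h0, Ideal.mem_bot] at this

namespace Bir

variable {L Γ : Type u} [Field L]
  [Algebra (B ⊗[k] K) L] [Algebra k L] [IsScalarTower k (B ⊗[k] K) L] [IsFractionRing (B ⊗[k] K) L] [Group Γ]
  (S : Bir k B K L Γ)

/-- The automorphisms preserving the local ring of a point. -/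
def stab (ε : A →ₐ[k] k) : Subgroup Γ where
  carrier := {γ | ∀ f, InLoc ε (S.act γ f) ↔ InLoc ε f}
  one_mem' f := by rw [S.act_one]; rfl
  mul_mem' {γ₁ γ₂} h₁ h₂ f := by rw [S.act_mul, AlgHom.comp_apply, h₂, h₁]
  inv_mem' {γ} h f := by rw [← h (S.act γ⁻¹ f), S.act_act_inv]

omit [IsScalarTower k (B ⊗[k] K) L] [IsFractionRing (B ⊗[k] K) L] in
/-- An automorphism trivial on all infinitesimal neighbourhoods of a point is trivial. -/
theorem eq_one_of_locMod [IsNoetherianRing A] [IsFractionRing A K] (ε : A →ₐ[k] k) {γ : Γ}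
    (hγ : γ ∈ S.stab ε) (h : ∀ (a : A) (n : ℕ) (l : Loc ε), locHom ε l = S.act γ a → locMod ε n l = Ideal.Quotient.mk _ a) :
    γ = 1 := by
  have hfix : ∀ a : A, S.act γ (a : K) = (a : K) := by
    intro a
    obtain ⟨l, hl⟩ := (hγ (a : K)).2 ⟨algebraMap A _ a, locHom_algebraMap ε a⟩
    have : l - algebraMap A (Loc ε) a = 0 := eq_zero_of_locMod ε fun n => by
      rw [map_sub, h a n l hl, locMod_algebraMap, sub_self]
    rw [← hl, sub_eq_zero.1 this, locHom_algebraMap]
  apply S.act_inj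
  rw [S.act_one]
  refine AlgHom.ext fun z => ?_
  obtain ⟨a, b, -, rfl⟩ := IsFractionRing.div_surjective (A := A) z
  rw [map_div₀, AlgHom.id_apply]
  exact congrArg₂ _ (hfix a) (hfix b)

variable [IsAlgClosed k] [Algebra.FiniteType k B] [IsDomain B] [Algebra B K] [IsScalarTower k B K]
  [IsFractionRing B K]

/-- On an invariant divisor some point has a positive dimensional stabiliser. -/
theorem exists_slice (R : ValuationSubring K) (hR : ∀ a : k, algebraMap k K a ∈ R) (hne : R ≠ ⊤)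
    (hinv : ∀ (γ : Γ), ∀ f ∈ R, S.act γ f ∈ R) [Algebra.FiniteType k A] [IsFractionRing A K] (hA : ∀ a ∈ A, a ∈ R)
    (hloc : ∀ f ∈ R, ∃ a ∈ A, ∃ s ∈ A, R.valuation s = 1 ∧ f * s = a) :
    ∃ (ε : A →ₐ[k] k) (g₀ : B →ₐ[k] k) (D : B), g₀ D ≠ 0 ∧
      {g : B →ₐ[k] k | g D ≠ 0 ∧ (S.ι g₀)⁻¹ * S.ι g ∈ S.stab ε}.Infinite ∧
      (∃ Z : Set B, ∀ g : B →ₐ[k] k, g D ≠ 0 → ((S.ι g₀)⁻¹ * S.ι g ∈ S.stab ε ↔ ∀ z ∈ Z, g z = 0)) ∧
      ∀ (f : K), InLoc ε f → ∀ (n : ℕ) (φ : (A ⧸ (RingHom.ker ε) ^ n) →ₗ[k] k), ∃ u w : B, ∀ g : B →ₐ[k] k, g D ≠ 0 →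
        (S.ι g₀)⁻¹ * S.ι g ∈ S.stab ε → g w ≠ 0 ∧
          ∀ l : Loc ε, locHom ε l = S.act ((S.ι g₀)⁻¹ * S.ι g) f → φ (locMod ε n l) * g w = g u := by
  classical
  obtain ⟨Q, b, hb, hQv, hμ⟩ := S.exists_den A R hR hinv hA hloc ((Subalgebra.fg_top A).1 ‹Algebra.FiniteType k A›.out)
  obtain ⟨nI, Q', hQ'⟩ := S.exists_inv_den A hμ Q
  have hinvinv : ∀ g : B →ₐ[k] k, (g.comp S.inv).comp S.inv = g := fun g => S.ι_inj (by
    rw [S.ι_inv, S.ι_inv, inv_inv])
  have hib : S.inv b ≠ 0 := by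
    intro h0
    obtain ⟨g, hg⟩ := exists_point (k := k) hb
    apply hg
    rw [← hinvinv g, AlgHom.comp_apply, h0, map_zero]
  -- the divisor
  let ιA : A →+* R := RingHom.codRestrict A.val.toRingHom R.toSubring fun x => hA x x.2
  let p : Ideal A := (IsLocalRing.maximalIdeal R).comap ιA
  haveI : p.IsPrime := Ideal.IsPrime.comap ιA
  have hpv : ∀ a : A, a ∈ p ↔ R.valuation (a : K) < 1 := fun a => R.valuation_lt_one_iff (ιA a)
  have hval : ∀ a : A, a ∉ p → R.valuation (a : K) = 1 := fun a ha =>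
    le_antisymm ((R.valuation_le_one_iff _).2 (hA a a.2)) (not_lt.1 fun h => ha ((hpv a).2 h))
  have hact1 : ∀ (γ : Γ) (f : K), R.valuation f = 1 → R.valuation (S.act γ f) = 1 := by
    intro γ f hf
    refine le_antisymm ((R.valuation_le_one_iff _).2 (hinv γ f ((R.valuation_le_one_iff _).1 hf.le))) (not_lt.1 fun h => ?_)
    have := S.valuation_act_lt R hinv γ⁻¹ h
    rw [S.act_inv_act, hf] at this
    exact lt_irrefl _ this
  -- a point of the divisor
  obtain ⟨g₁, hg₁⟩ := exists_point (k := k) (mul_ne_zero hb hib)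
  rw [map_mul] at hg₁
  have h1 : R.valuation ((ev g₁ Q : A) : K) = 1 := hQv g₁ (left_ne_zero_of_mul hg₁)
  have h1ne : ev g₁ Q ≠ 0 := fun h0 => by rw [h0, ZeroMemClass.coe_zero, map_zero] at h1; exact zero_ne_one h1
  have h2 : R.valuation ((ev g₁ Q' : A) : K) = 1 := by
    rw [← hQ' g₁ h1ne, map_mul, map_pow, h1, one_pow, mul_one]
    exact hact1 _ _ (hQv (g₁.comp S.inv) (right_ne_zero_of_mul hg₁))
  have ha₀ : ev g₁ Q * ev g₁ Q' ∉ p := fun h => by
    have := (hpv _).1 h
    rw [Subalgebra.coe_mul, map_mul, h1, h2, mul_one] at this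
    exact lt_irrefl _ this
  obtain ⟨ε₀, hε₀⟩ := exists_point (k := k) (B := A ⧸ p) (b := Ideal.Quotient.mk p (ev g₁ Q * ev g₁ Q'))
    fun h => ha₀ (Ideal.Quotient.eq_zero_iff_mem.1 h)
  let ε : A →ₐ[k] k := ε₀.comp (Ideal.Quotient.mkₐ k p)
  have hεp : ∀ a ∈ p, ε a = 0 := fun a ha => by
    show ε₀ (Ideal.Quotient.mk p a) = 0
    rw [Ideal.Quotient.eq_zero_iff_mem.2 ha, map_zero]
  let D : B := red ε Q * red ε Q'
  have hD : ∀ g : B →ₐ[k] k, g D ≠ 0 → ε (ev g Q) ≠ 0 ∧ ε (ev g Q') ≠ 0 ∧ ev g Q ≠ 0 := fun g hg => by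
    rw [map_mul, apply_red, apply_red] at hg
    exact ⟨left_ne_zero_of_mul hg, right_ne_zero_of_mul hg, fun h0 => left_ne_zero_of_mul hg (by rw [h0, map_zero])⟩
  have hD₁ : g₁ D ≠ 0 := by
    rw [map_mul, apply_red, apply_red, ← map_mul]
    exact hε₀
  -- the images
  have hfwdA : ∀ g : B →ₐ[k] k, g D ≠ 0 → ∀ a : A, InLoc ε (S.act (S.ι g) a) := by
    intro g hg a
    obtain ⟨n, P, h⟩ := hμ a a.2
    exact inLoc_of_mul ε (s := ev g Q ^ n) (a := ev g P) (by rw [map_pow]; exact pow_ne_zero n (hD g hg).1)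
      (by rw [Subalgebra.coe_pow]; exact S.act_mul_pow A h (hD g hg).2.2)
  have hF : ∀ g : B →ₐ[k] k, g D ≠ 0 → ∃ F : A →ₐ[k] Loc ε, ∀ a : A, locHom ε (F a) = S.act (S.ι g) a :=
    fun g hg => by
      choose F hF using hfwdA g hg
      refine ⟨{ toFun := F
                map_one' := ?_
                map_mul' := fun a a' => ?_
                map_zero' := ?_
                map_add' := fun a a' => ?_
                commutes' := fun r => ?_ }, hF⟩ <;> apply locHom_injective
      · rw [hF, map_one, Subalgebra.coe_one, map_one]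
      · rw [hF, map_mul, hF, hF, Subalgebra.coe_mul, map_mul]
      · rw [hF, map_zero, ZeroMemClass.coe_zero, map_zero]
      · rw [hF, map_add, hF, hF, Subalgebra.coe_add, map_add]
      · rw [hF, AlgHom.commutes, Subalgebra.coe_algebraMap, AlgHom.commutes]
  choose F hFspec using hF
  let y : ∀ g : B →ₐ[k] k, g D ≠ 0 → (A →ₐ[k] k) := fun g hg => (locVal ε).comp (F g hg)
  have hyF : ∀ (g) (hg : g D ≠ 0) (a : A) {n : ℕ} {P : B ⊗[k] A},
      S.act (S.ι g) a * ((ev g Q : A) : K) ^ n = ((ev g P : A) : K) → y g hg a * ε (ev g Q) ^ n = ε (ev g P) := by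
    intro g hg a n P h
    have e : F g hg a * algebraMap A (Loc ε) (ev g Q) ^ n = algebraMap A (Loc ε) (ev g P) := locHom_injective ε (by
      rw [map_mul, map_pow, locHom_algebraMap, locHom_algebraMap, hFspec, h])
    have := congrArg (locVal ε) e
    rwa [map_mul, map_pow, locVal_algebraMap, locVal_algebraMap] at this
  have hinvQ : ∀ (g) (hg : g D ≠ 0), y g hg (ev (g.comp S.inv) Q) ≠ 0 := fun g hg h0 => by
    have := hyF g hg _ (hQ' g (hD g hg).2.2)
    rw [h0, zero_mul] at this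
    exact (hD g hg).2.1 this.symm
  have hiff : ∀ (g) (hg : g D ≠ 0) (f : K), InLoc ε (S.act (S.ι g) f) ↔ InLoc (y g hg) f := by
    intro g hg
    have hfwd : ∀ f, InLoc (y g hg) f → InLoc ε (S.act (S.ι g) f) := by
      intro f hf
      obtain ⟨a, s, hs, he⟩ := hf.exists_mul
      obtain ⟨a₂, s₂, hs₂, he₂⟩ := (show InLoc ε (S.act (S.ι g) s) from hfwdA g hg s).exists_mul
      obtain ⟨a₁, s₁, hs₁, he₁⟩ := (show InLoc ε (S.act (S.ι g) a) from hfwdA g hg a).exists_mul
      have hv : ε a₂ ≠ 0 := fun h0 => hs (by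
        have e : F g hg s * algebraMap A (Loc ε) s₂ = algebraMap A (Loc ε) a₂ := locHom_injective ε (by
          rw [map_mul, locHom_algebraMap, locHom_algebraMap, hFspec, he₂])
        have := congrArg (locVal ε) e
        rw [map_mul, locVal_algebraMap, locVal_algebraMap, h0] at this
        exact (mul_eq_zero.1 this).resolve_right hs₂)
      refine inLoc_of_mul ε (s := s₁ * a₂) (a := a₁ * s₂) (by rw [map_mul]; exact mul_ne_zero hs₁ hv) ?_
      rw [Subalgebra.coe_mul, Subalgebra.coe_mul, ← he₁, ← he₂, ← he, map_mul]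
      ring
    refine fun f => ⟨fun hf => ?_, hfwd f⟩
    let g' := g.comp S.inv
    have hg' : ev g' Q ≠ 0 := fun h0 => hinvQ g hg (by rw [h0, map_zero])
    have hbwdA : ∀ a : A, InLoc (y g hg) (S.act (S.ι g)⁻¹ a) := by
      intro a
      obtain ⟨n, P, h⟩ := hμ a a.2
      refine inLoc_of_mul _ (s := ev g' Q ^ n) (a := ev g' P) (by rw [map_pow]; exact pow_ne_zero n (hinvQ g hg)) ?_
      rw [← S.ι_inv, Subalgebra.coe_pow]
      exact S.act_mul_pow A h hg'
    obtain ⟨a, s, hs, he⟩ := hf.exists_mul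
    obtain ⟨a₁, s₁, hs₁, he₁⟩ := (hbwdA a).exists_mul
    obtain ⟨a₂, s₂, hs₂, he₂⟩ := (hbwdA s).exists_mul
    have hv : y g hg a₂ ≠ 0 := fun h0 => hs (by
      have e : algebraMap A (Loc ε) s * F g hg s₂ = F g hg a₂ := locHom_injective ε (by
        rw [map_mul, locHom_algebraMap, hFspec, hFspec, ← he₂, map_mul, S.act_act_inv])
      have h3 := congrArg (locVal ε) e
      rw [map_mul, locVal_algebraMap, show locVal ε (F g hg a₂) = 0 from h0] at h3
      exact (mul_eq_zero.1 h3).resolve_right hs₂)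
    refine inLoc_of_mul _ (s := s₁ * a₂) (a := a₁ * s₂) (by rw [map_mul]; exact mul_ne_zero hs₁ hv) ?_
    rw [Subalgebra.coe_mul, Subalgebra.coe_mul, ← he₁, ← he₂, ← he, map_mul, S.act_inv_act]
    ring
  have hmem : ∀ (g₀ g : B →ₐ[k] k) (h₀ : g₀ D ≠ 0) (hg : g D ≠ 0),
      (S.ι g₀)⁻¹ * S.ι g ∈ S.stab ε ↔ y g hg = y g₀ h₀ := by
    intro g₀ g h₀ hg
    have e : ∀ f, S.act ((S.ι g₀)⁻¹ * S.ι g) f = S.act (S.ι g) (S.act (S.ι g₀)⁻¹ f) := fun f => by
      rw [S.act_mul, AlgHom.comp_apply]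
    constructor
    · intro h
      refine point_eq_of_inLoc _ _ fun f hf => ?_
      have h' := h (S.act (S.ι g₀) f)
      rw [e, S.act_inv_act] at h'
      exact (hiff g hg f).1 (h'.2 ((hiff g₀ h₀ f).2 hf))
    · intro h f
      rw [e, hiff g hg, h, ← hiff g₀ h₀, S.act_act_inv]
  -- the universal image of the slice
  have hDne : D ≠ 0 := fun h0 => hD₁ (by rw [h0, map_zero])
  let E := Localization.Away D
  haveI : IsDomain E := IsLocalization.isDomain_localization (powers_le_nonZeroDivisors_of_noZeroDivisors hDne)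
  haveI : Algebra.FiniteType B E := IsLocalization.finiteType_of_monoid_fg (Submonoid.powers D) E
  haveI : Algebra.FiniteType k E := Algebra.FiniteType.trans (inferInstance : Algebra.FiniteType k B) inferInstance
  let res : (E →ₐ[k] k) → (B →ₐ[k] k) := fun h => h.comp (IsScalarTower.toAlgHom k B E)
  have hres : ∀ h : E →ₐ[k] k, res h D ≠ 0 := fun h =>
    ((IsLocalization.Away.algebraMap_isUnit (S := E) D).map h).ne_zero
  have hval' : ∀ a : A, ∃ e : E, ∀ h : E →ₐ[k] k, h e = y (res h) (hres h) a := by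
    intro a
    obtain ⟨n, P, hP⟩ := hμ a a.2
    have hu : IsUnit (algebraMap B E (red ε Q)) := by
      have := IsLocalization.Away.algebraMap_isUnit (S := E) D
      rw [map_mul] at this
      exact isUnit_of_mul_isUnit_left this
    refine ⟨algebraMap B E (red ε P) * ↑(hu.pow n).unit⁻¹, fun h => ?_⟩
    have hg := hres h
    have e := hyF _ hg a (S.act_mul_pow A hP (hD _ hg).2.2)
    rw [← apply_red, ← apply_red] at e
    apply mul_right_cancel₀ (b := res h (red ε Q) ^ n)
      (pow_ne_zero n (by rw [apply_red]; exact (hD _ hg).1))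
    have hh : (↑(hu.pow n).unit⁻¹ : E) * (algebraMap B E (red ε Q)) ^ n = 1 := IsUnit.val_inv_mul _
    rw [e]
    show h _ * (h (algebraMap B E (red ε Q))) ^ n = h (algebraMap B E (red ε P))
    rw [← map_pow h, ← map_mul, mul_assoc, hh, mul_one]
  have huniq : ∀ e e' : E, (∀ h : E →ₐ[k] k, h e = h e') → e = e' := fun e e' h =>
    sub_eq_zero.1 (eq_zero_of_points (k := k) one_ne_zero fun g _ => by rw [map_sub, h g, sub_self])
  choose ρ hρ using hval'
  let ρa : A →ₐ[k] E :=
    { toFun := ρ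
      map_one' := huniq _ _ fun h => by rw [hρ, map_one, map_one]
      map_mul' := fun a a' => huniq _ _ fun h => by rw [hρ, map_mul, map_mul, hρ, hρ]
      map_zero' := huniq _ _ fun h => by rw [hρ, map_zero, map_zero]
      map_add' := fun a a' => huniq _ _ fun h => by rw [hρ, map_add, map_add, hρ, hρ]
      commutes' := fun r => huniq _ _ fun h => by rw [hρ, AlgHom.commutes, AlgHom.commutes] }
  have hρp : ∀ a ∈ p, ρa a = 0 := fun a ha => huniq _ _ fun h => by
    show h (ρ a) = _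
    rw [hρ, map_zero]
    have hg := hres h
    obtain ⟨n, P, hP⟩ := hμ a a.2
    have e := hyF _ hg a (S.act_mul_pow A hP (hD _ hg).2.2)
    have hPp : ev (res h) P ∈ p := by
      rw [hpv, ← S.act_mul_pow A hP (hD _ hg).2.2, map_mul, map_pow]
      refine lt_of_le_of_lt (mul_le_of_le_one_right' ?_) (S.valuation_act_lt R hinv _ ((hpv a).1 ha))
      exact pow_le_one' ((R.valuation_le_one_iff _).2 (hA _ (ev (res h) Q).2)) n
    rw [hεp _ hPp] at e
    exact (mul_eq_zero.1 e).resolve_right (pow_ne_zero n (hD _ hg).1)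
  let ρp : A ⧸ p →ₐ[k] E := Ideal.Quotient.liftₐ p ρa hρp
  -- dimensions
  have hp : p ≠ ⊥ := by
    intro h0
    apply hne
    refine eq_top_iff.2 fun z _ => ?_
    obtain ⟨a, c, hc, rfl⟩ := IsFractionRing.div_surjective (A := A) z
    rw [← ValuationSubring.valuation_le_one_iff, map_div₀,
      show R.valuation (algebraMap A K c) = 1 from hval c (by rw [h0]; exact fun h => nonZeroDivisors.ne_zero hc h),
      div_one]
    exact (R.valuation_le_one_iff _).2 (hA _ a.2)
  have hlt : Algebra.trdeg k (A ⧸ p) < Algebra.trdeg k E := by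
    letI : Algebra E K := (IsLocalization.Away.lift D (g := algebraMap B K) (isUnit_iff_ne_zero.2
      ((map_ne_zero_iff _ (IsFractionRing.injective B K)).2 hDne))).toAlgebra
    haveI : IsScalarTower B E K := IsScalarTower.of_algebraMap_eq fun x => (IsLocalization.Away.lift_eq D _ x).symm
    haveI : IsScalarTower k E K := IsScalarTower.of_algebraMap_eq fun r => by
      rw [IsScalarTower.algebraMap_apply k B K, IsScalarTower.algebraMap_apply k B E,
        ← IsScalarTower.algebraMap_apply B E K]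
    haveI : IsFractionRing E K := IsFractionRing.isFractionRing_of_isDomain_of_isLocalization (Submonoid.powers D) E K
    obtain ⟨m, hm, hm'⟩ := WeilLib.dim_eq_trdeg k (A ⧸ p) (FractionRing (A ⧸ p))
    obtain ⟨n, hn, hn'⟩ := WeilLib.dim_eq_trdeg k A K
    haveI : IsNoetherianRing A := Algebra.FiniteType.isNoetherianRing k A
    have hsum := FibDimLib.ringKrullDim_quotient_add_height_affine k A p
    rw [hn, hm] at hsum
    obtain ⟨q, hq⟩ := ENat.ne_top_iff_exists.1 (Ideal.height_ne_top (Ideal.IsPrime.ne_top ‹p.IsPrime›))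
    have hq1 : q ≠ 0 := by
      intro h0
      have h3 : (⊥ : Ideal A).height + 1 ≤ p.height :=
        Ideal.height_add_one_le_of_lt_of_isPrime (bot_lt_iff_ne_bot.2 hp)
      rw [← hq, h0] at h3
      simp at h3
    rw [← hq] at hsum
    have hmn : m + q = n := by exact_mod_cast hsum
    haveI : Algebra.IsAlgebraic (A ⧸ p) (FractionRing (A ⧸ p)) :=
      IsLocalization.isAlgebraic _ (nonZeroDivisors (A ⧸ p))
    haveI : Algebra.IsAlgebraic E K := IsLocalization.isAlgebraic _ (nonZeroDivisors E)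
    have e1 := trdeg_add_eq k (A ⧸ p) (A := FractionRing (A ⧸ p))
    rw [trdeg_eq_zero (R := A ⧸ p), add_zero, hm'] at e1
    have e2 := trdeg_add_eq k E (A := K)
    rw [trdeg_eq_zero (R := E), add_zero, hn'] at e2
    rw [e1, e2, Nat.cast_lt]
    omega
  obtain ⟨y₀, hy₀⟩ := exists_infinite_fibre (k := k) ρp hlt
  obtain ⟨h₀, hh₀⟩ := hy₀.nonempty
  refine ⟨ε, res h₀, D, hres h₀, ?_, ?_, ?_⟩
  · refine (hy₀.image (f := res) (fun h _ h' _ e => IsLocalization.algHom_ext (Submonoid.powers D) e)).mono ?_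
    rintro _ ⟨h, hh, rfl⟩
    refine ⟨hres h, (hmem _ _ (hres h₀) (hres h)).2 (AlgHom.ext fun a => ?_)⟩
    rw [← hρ, ← hρ]
    exact AlgHom.congr_fun (hh.trans hh₀.symm) (Ideal.Quotient.mk p a)
  · choose nf Pf hPf using fun a : A => hμ a a.2
    refine ⟨Set.range fun a : A => red ε (Pf a) - y (res h₀) (hres h₀) a • red ε Q ^ nf a, fun g hg => ?_⟩
    rw [hmem _ _ (hres h₀) hg, Set.forall_mem_range]
    have hz : ∀ a : A, g (red ε (Pf a) - y (res h₀) (hres h₀) a • red ε Q ^ nf a) =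
        (y g hg a - y (res h₀) (hres h₀) a) * ε (ev g Q) ^ nf a := fun a => by
      rw [map_sub, map_smul, map_pow, apply_red, apply_red, smul_eq_mul, sub_mul,
        hyF g hg a (S.act_mul_pow A (hPf a) (hD g hg).2.2)]
    constructor
    · intro h a
      rw [hz, h, sub_self, zero_mul]
    · intro h
      refine AlgHom.ext fun a => sub_eq_zero.1 ?_
      exact (mul_eq_zero.1 ((hz a).symm.trans (h a))).resolve_right (pow_ne_zero _ (hD g hg).1)
  · intro a ha n φ
    have hg₀ := hres h₀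
    obtain ⟨a₁, s₁, hs₁, he₁⟩ := ((hiff _ hg₀ (S.act (S.ι (res h₀))⁻¹ a)).1
      (by rw [S.act_act_inv]; exact ha)).exists_mul
    obtain ⟨n₁, P₁, hP₁⟩ := hμ a₁ a₁.2
    obtain ⟨n₂, P₂, hP₂⟩ := hμ s₁ s₁.2
    let π := Algebra.TensorProduct.map (AlgHom.id k B) (Ideal.Quotient.mkₐ k ((RingHom.ker ε) ^ n))
    let z₁ : B ⊗[k] A := P₁ * Q ^ n₂
    let z₂ : B ⊗[k] A := Q ^ n₁ * P₂
    let X : B ⊗[k] (A ⧸ (RingHom.ker ε) ^ n) := red ε z₂ ⊗ₜ[k] 1
    let Y := X - π z₂
    let v := ∑ i ∈ Finset.range n, X ^ i * Y ^ (n - 1 - i)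
    have hv : v * π z₂ = X ^ n := by
      have := geom_sum₂_mul X Y n
      rw [show X - Y = π z₂ from sub_sub_cancel _ _, sub_red_pow ε n (Ideal.Quotient.mkₐ k _) (fun a ha => Ideal.Quotient.eq_zero_iff_mem.2 ha) z₂, sub_zero] at this
      exact this
    refine ⟨contract φ (v * π z₁), red ε z₂ ^ n, fun g hg hgm => ?_⟩
    have hy := (hmem _ _ hg₀ hg).1 hgm
    have hw : ε (ev g z₂) ≠ 0 := by
      rw [map_mul, map_mul, map_pow, map_pow]
      refine mul_ne_zero (pow_ne_zero _ (hD g hg).1) ?_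
      rw [← hyF g hg s₁ (S.act_mul_pow A hP₂ (hD g hg).2.2), hy]
      exact mul_ne_zero hs₁ (pow_ne_zero _ (hD g hg).1)
    refine ⟨by rw [map_pow, apply_red]; exact pow_ne_zero _ hw, fun l hl => ?_⟩
    have hQne : ((ev g Q : A) : K) ≠ 0 := fun h0 => (hD g hg).2.2 (Subtype.ext h0)
    have e : l * algebraMap A _ (ev g z₂) = algebraMap A _ (ev g z₁) := locHom_injective ε (by
      rw [map_mul, locHom_algebraMap, locHom_algebraMap, hl, S.act_mul, AlgHom.comp_apply]
      simp only [z₁, z₂, map_mul, map_pow, Subalgebra.coe_mul, Subalgebra.coe_pow,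
        ← S.act_mul_pow A hP₁ (hD g hg).2.2, ← S.act_mul_pow A hP₂ (hD g hg).2.2, ← he₁]
      ring)
    have e' := congrArg (locMod ε n) e
    rw [map_mul, locMod_algebraMap, locMod_algebraMap] at e'
    have hX : ev g X = algebraMap k _ (ε (ev g z₂)) := by
      show ev g (red ε z₂ ⊗ₜ[k] (1 : A ⧸ (RingHom.ker ε) ^ n)) = _
      rw [ev_tmul, apply_red, Algebra.algebraMap_eq_smul_one]
    have h5 : ev g (v * π z₁) = (ε (ev g z₂) ^ n) • locMod ε n l := by
      have h6 : ev g v * Ideal.Quotient.mk _ (ev g z₂) = algebraMap k _ (ε (ev g z₂) ^ n) := by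
        have := congrArg (ev g) hv
        rw [map_mul (ev g), map_pow (ev g), hX] at this
        rw [map_pow]
        exact (congrArg (ev g v * ·) (ev_map _ g z₂)).symm.trans this
      rw [map_mul (ev g), show ev g (π z₁) = Ideal.Quotient.mk _ (ev g z₁) from ev_map _ g z₁, ← e',
        mul_left_comm, h6, Algebra.smul_def, mul_comm]
    rw [apply_contract, h5, map_smul, smul_eq_mul, map_pow, apply_red, mul_comm]

end Bir

end ChevThmLib

end
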