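import Groth.Agent.ChevThmLib.Geom
import Groth.Agent.ChevThmLib.Stab
import Groth.Agent.DenseSubLib.Basic
import Groth.Agent.AntiAffLib.Kernel
import Groth.Agent.AntiAffLib.Smooth
import Groth.Agent.AntiAffLib.Basics2
import Groth.Agent.AntiAffLib.FixPoint
import Groth.Agent.AVAmpleLib.HomDiv
import Groth.Prelude

/-!
# The stabiliser is an affine group of positive dimension
-/

set_option autoImplicit false
set_option linter.style.haveILetI false
set_option backward.isDefEq.respectTransparency false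
set_option maxHeartbeats 1600000

universe u

open CategoryTheory CategoryTheory.Limits MonoidalCategory CartesianMonoidalCategory AlgebraicGeometry CoactBr TopologicalSpace
open scoped MonObj TensorProduct

noncomputable section

namespace ChevThmLib

attribute [-instance] CategoryTheory.Hom.commGroup

variable {k : Type u} [Field k] [IsAlgClosed k]

/-- The affine line. -/
abbrev line (k : Type u) [Field k] : Over (Spec (CommRingCat.of k)) := sp k (Polynomial k)

/-- A rational point of the affine line. -/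
def lineVal (c : k) : 𝟙_ (Over (Spec (CommRingCat.of k))) ⟶ line k := unitSp k ≫ pt (Polynomial.aeval c)

omit [IsAlgClosed k] in
theorem lineVal_injective : Function.Injective (lineVal (k := k)) := by
  intro c c' e
  have h := congrArg (toUnit (sp k k) ≫ ·) e
  simp only [lineVal, ← Category.assoc, toUnit_unitSp,
    show Algebra.ofId k k = AlgHom.id k k from AlgHom.ext fun _ => rfl, pt_id, Category.id_comp] at h
  have := AlgHom.congr_fun (pt_injective h) Polynomial.X
  simpa using this

/-- Rational points with the same image are equal. -/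
theorem point_ext {M : Over (Spec (CommRingCat.of k))} [LocallyOfFiniteType M.hom]
    {a b : 𝟙_ (Over (Spec (CommRingCat.of k))) ⟶ M}
    (h : a.left (IsLocalRing.closedPoint k) = b.left (IsLocalRing.closedPoint k)) : a = b :=
  Over.OverMorphism.ext (ext_of_apply_closedPoint_eq M.hom (Over.w a) (Over.w b) h)

/-- A locally regular function on rational points is given by a morphism. -/
theorem exists_glue {M : Over (Spec (CommRingCat.of k))} [IsReduced M.left] [LocallyOfFiniteType M.hom]
    (v : (𝟙_ (Over (Spec (CommRingCat.of k))) ⟶ M) → k)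
    (hv : ∀ a : 𝟙_ (Over (Spec (CommRingCat.of k))) ⟶ M, ∃ (U : M.left.Opens)
      (f : Over.mk (U.ι ≫ M.hom) ⟶ line k), AVAmpleLib.pt a ∈ U ∧
        ∀ b : 𝟙_ (Over (Spec (CommRingCat.of k))) ⟶ Over.mk (U.ι ≫ M.hom),
          b ≫ f = lineVal (v (b ≫ Over.homMk U.ι rfl))) :
    ∃ F : M ⟶ line k, ∀ a, a ≫ F = lineVal (v a) := by
  choose U f hmem hval using hv
  haveI : JacobsonSpace M.left := LocallyOfFiniteType.jacobsonSpace M.hom
  have hcov : IsOpenCover U := by
    rw [IsOpenCover, eq_top_iff]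
    intro x _
    by_contra hx
    obtain ⟨y, hy, hyc⟩ := nonempty_inter_closedPoints
      (show (((iSup U : M.left.Opens) : Set M.left)ᶜ).Nonempty from ⟨x, hx⟩) (iSup U).2.isClosed_compl.isLocallyClosed
    let a : 𝟙_ (Over (Spec (CommRingCat.of k))) ⟶ M :=
      Over.homMk (pointOfClosedPoint M.hom y hyc) (pointOfClosedPoint_comp _ _ _)
    refine hy (Opens.mem_iSup.2 ⟨a, ?_⟩)
    have := hmem a
    rwa [← pointOfClosedPoint_apply M.hom y hyc (IsLocalRing.closedPoint k)]
  let C := M.left.openCoverOfIsOpenCover U hcov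
  have hag : ∀ x y, pullback.fst (C.f x) (C.f y) ≫ (f x).left = pullback.snd (C.f x) (C.f y) ≫ (f y).left := by
    intro x y
    haveI : IsOpenImmersion (C.f x) := inferInstanceAs (IsOpenImmersion (U x).ι)
    haveI : IsOpenImmersion (C.f y) := inferInstanceAs (IsOpenImmersion (U y).ι)
    haveI : IsReduced (pullback (C.f x) (C.f y)) :=
      isReduced_of_isOpenImmersion (pullback.fst (C.f x) (C.f y) ≫ C.f x)
    let P : Over (Spec (CommRingCat.of k)) := Over.mk (pullback.fst (C.f x) (C.f y) ≫ C.f x ≫ M.hom)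
    haveI : LocallyOfFiniteType P.hom := inferInstanceAs (LocallyOfFiniteType (_ ≫ _ ≫ M.hom))
    haveI : IsReduced P.left := inferInstanceAs (IsReduced (pullback (C.f x) (C.f y)))
    let px : P ⟶ Over.mk ((U x).ι ≫ M.hom) := Over.homMk (pullback.fst (C.f x) (C.f y)) rfl
    let py : P ⟶ Over.mk ((U y).ι ≫ M.hom) := Over.homMk (pullback.snd (C.f x) (C.f y)) (by
      show pullback.snd (C.f x) (C.f y) ≫ C.f y ≫ M.hom = pullback.fst (C.f x) (C.f y) ≫ C.f x ≫ M.hom
      rw [pullback.condition_assoc])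
    haveI : LocallyOfFiniteType (line k).hom := by
      show LocallyOfFiniteType (Spec.map _)
      rw [HasRingHomProperty.Spec_iff (P := @LocallyOfFiniteType)]
      exact RingHom.finiteType_algebraMap.2 inferInstance
    haveI : IsSeparated (line k).hom := inferInstanceAs (IsSeparated (Spec.map _))
    refine congrArg CommaMorphism.left (AVAmpleLib.hom_ext_of_points (px ≫ f x) (py ≫ f y) fun b => ?_)
    rw [← Category.assoc, ← Category.assoc, hval, hval]
    congr 2
    exact Over.OverMorphism.ext (by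
      simp only [Over.comp_left, Category.assoc, px, py, Over.homMk_left]
      exact congrArg (b.left ≫ ·) pullback.condition)
  have hw : C.glueMorphisms (fun a => (f a).left) hag ≫ (line k).hom = M.hom := by
    refine C.hom_ext _ _ fun a => ?_
    rw [Scheme.Cover.ι_glueMorphisms_assoc]
    exact Over.w (f a)
  refine ⟨Over.homMk (C.glueMorphisms (fun a => (f a).left) hag) hw, fun a => ?_⟩
  obtain ⟨b, hb⟩ : ∃ b : 𝟙_ (Over (Spec (CommRingCat.of k))) ⟶ Over.mk ((U a).ι ≫ M.hom),
      b ≫ Over.homMk (U a).ι rfl = a := by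
    let l := IsOpenImmersion.lift (U a).ι a.left (by
      rintro _ ⟨p, rfl⟩
      rw [Scheme.Opens.range_ι, show p = IsLocalRing.closedPoint k from @Subsingleton.elim (PrimeSpectrum k) _ _ _]
      exact hmem a)
    have hl : l ≫ (U a).ι = a.left := IsOpenImmersion.lift_fac _ _ _
    exact ⟨Over.homMk l (by show l ≫ (U a).ι ≫ M.hom = _; rw [← Category.assoc, hl]; exact Over.w a),
      Over.OverMorphism.ext hl⟩
  have h2 := hval a b
  rw [hb] at h2
  rw [← h2]
  apply Over.OverMorphism.ext
  conv_lhs => rw [← hb]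
  simp only [Over.comp_left, Over.homMk_left, Category.assoc]
  exact congrArg (b.left ≫ ·) (C.ι_glueMorphisms (fun a => (f a).left) hag a)

variable {G : Over (Spec (CommRingCat.of k))} [GrpObj G]
variable {B : Type u} [CommRing B] [Algebra k B] [IsDomain B] [Algebra.FiniteType k B]
variable {K L : Type u} [Field K] [Algebra k K] [Algebra B K] [IsScalarTower k B K] [IsFractionRing B K] [Field L]
  [Algebra (B ⊗[k] K) L] [Algebra k L] [IsScalarTower k (B ⊗[k] K) L] [IsFractionRing (B ⊗[k] K) L]

omit [IsAlgClosed k] [GrpObj G] [IsDomain B] [Algebra.FiniteType k B] in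
theorem pt_point (j : Chart G B) (h : B →ₐ[k] k) :
    AVAmpleLib.pt (j.point h) = j.j.left ((pt h).left (IsLocalRing.closedPoint k)) := by
  rw [AVAmpleLib.pt, Chart.point]
  simp only [Over.comp_left, Scheme.Hom.comp_apply]
  exact congrArg (fun p => j.j.left ((pt h).left p)) (@Subsingleton.elim (PrimeSpectrum k) _ _ _)

omit [IsAlgClosed k] [GrpObj G] [IsDomain B] [Algebra.FiniteType k B] in
/-- A rational point in a basic open of a chart. -/
theorem exists_point_eq (j : Chart G B) (D : B) (a : 𝟙_ (Over (Spec (CommRingCat.of k))) ⟶ G)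
    (ha : AVAmpleLib.pt a ∈ j.j.left ''ᵁ (PrimeSpectrum.basicOpen D : (sp k B).left.Opens)) :
    ∃ g : B →ₐ[k] k, g D ≠ 0 ∧ j.point g = a := by
  obtain ⟨P, hP, hPe⟩ := ha
  obtain ⟨g, hg⟩ := j.exists_lift (toUnit (sp k k) ≫ a) (by
    rintro _ ⟨p, rfl⟩
    rw [Over.comp_left, Scheme.Hom.comp_apply,
      show (toUnit (sp k k)).left p = IsLocalRing.closedPoint k from @Subsingleton.elim (PrimeSpectrum k) _ _ _]
    exact ⟨P, hPe⟩)
  have he : j.point g = a := by
    rw [Chart.point, ← hg, ← Category.assoc, toUnit_unique (unitSp k ≫ toUnit _) (𝟙 _), Category.id_comp]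
  refine ⟨g, fun h0 => hP ?_, he⟩
  rw [← he, pt_point] at hPe
  rw [j.j.left.isOpenEmbedding.injective hPe]
  show g D ∈ IsLocalRing.maximalIdeal k
  rw [h0]
  exact zero_mem _

omit [IsAlgClosed k] [GrpObj G] [IsDomain B] [Algebra.FiniteType k B] in
theorem point_mem (j : Chart G B) {D : B} {g : B →ₐ[k] k} (hg : g D ≠ 0) :
    AVAmpleLib.pt (j.point g) ∈ j.j.left ''ᵁ (PrimeSpectrum.basicOpen D : (sp k B).left.Opens) := by
  rw [pt_point]
  refine ⟨_, ?_, rfl⟩
  intro h
  have h2 : g D ∈ IsLocalRing.maximalIdeal k := h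
  rw [IsLocalRing.maximalIdeal_eq_bot, Ideal.mem_bot] at h2
  exact hg h2

variable [Smooth G.hom] [QuasiCompact G.hom]

/-- The main construction. -/
theorem exists_affine_stab (j : Chart G B) (S : Bir k B K L (𝟙_ (Over (Spec (CommRingCat.of k))) ⟶ G))
    (hι : S.ι = j.point) (R : ValuationSubring K) (hR : ∀ a : k, algebraMap k K a ∈ R) (hne : R ≠ ⊤)
    (hinv : ∀ gam, ∀ f ∈ R, S.act gam f ∈ R) (A : Subalgebra k K) [Algebra.FiniteType k A] [IsFractionRing A K]
    (hA : ∀ a ∈ A, a ∈ R) (hloc : ∀ f ∈ R, ∃ a ∈ A, ∃ s ∈ A, R.valuation s = 1 ∧ f * s = a) :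
    ∃ (H : Over (Spec (CommRingCat.of k))) (_ : GrpObj H) (i : H ⟶ G), IsMonHom i ∧ IsClosedImmersion i.left ∧
      Smooth H.hom ∧ IsAffine H.left ∧ 0 < topologicalKrullDim ↥H.left := by
  classical
  obtain ⟨ε, g₀, D, hg₀, hinf, ⟨Z, hZ⟩, hreg⟩ := S.exists_slice R hR hne hinv hA hloc
  rw [hι] at hinf hZ hreg
  let c₀ := j.point g₀
  let H : Subgroup (𝟙_ (Over (Spec (CommRingCat.of k))) ⟶ G) := S.stab ε
  haveI : IsSeparated G.hom := Groth.Agent.GrpField.isSeparated_grp (G := G)
  let U₀ : G.left.Opens := j.j.left ''ᵁ (PrimeSpectrum.basicOpen D : (sp k B).left.Opens)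
  let O : G.left.Opens := (AVAmpleLib.tL c₀).left ⁻¹ᵁ U₀
  have hO : ∀ a, AVAmpleLib.pt a ∈ O ↔ ∃ g : B →ₐ[k] k, g D ≠ 0 ∧ j.point g = c₀ * a := by
    intro a
    have e : AVAmpleLib.pt (c₀ * a) = (AVAmpleLib.tL c₀).left (AVAmpleLib.pt a) := by
      rw [← AVAmpleLib.point_tL, AVAmpleLib.pt_comp]
    constructor
    · intro ha
      exact exists_point_eq j D _ (e ▸ ha)
    · rintro ⟨g, hg, he⟩
      show (AVAmpleLib.tL c₀).left (AVAmpleLib.pt a) ∈ U₀
      rw [← e, ← he]
      exact point_mem j hg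
  have hO1 : AVAmpleLib.pt (1 : 𝟙_ (Over (Spec (CommRingCat.of k))) ⟶ G) ∈ O :=
    (hO 1).2 ⟨g₀, hg₀, (_root_.mul_one c₀).symm⟩
  -- closedness on the open
  let VZ : Set (sp k B).left := PrimeSpectrum.zeroLocus Z
  have hloc' : ∀ a, AVAmpleLib.pt a ∈ O →
      AVAmpleLib.pt a ∈ closure (AVAmpleLib.pt '' (H : Set (𝟙_ (Over (Spec (CommRingCat.of k))) ⟶ G))) → a ∈ H := by
    intro a haO hac
    have h1 : AVAmpleLib.pt a ∈ closure ((O : Set G.left) ∩
        (AVAmpleLib.pt '' (H : Set (𝟙_ (Over (Spec (CommRingCat.of k))) ⟶ G)))) :=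
      O.2.inter_closure ⟨haO, hac⟩
    let T : Set G.left := (AVAmpleLib.tL c₀).left ⁻¹' (closure (j.j.left '' VZ))
    have hTc : IsClosed T := isClosed_closure.preimage (AVAmpleLib.tL c₀).left.continuous
    have h2 : AVAmpleLib.pt a ∈ T := by
      refine hTc.closure_subset_iff.2 ?_ h1
      rintro _ ⟨hbO, b, hbH, rfl⟩
      obtain ⟨g, hg, he⟩ := (hO b).1 hbO
      have hz := (hZ g hg).1 (by rw [show (j.point g₀)⁻¹ * j.point g = b by rw [he, inv_mul_cancel_left]]; exact hbH)
      show (AVAmpleLib.tL c₀).left (AVAmpleLib.pt b) ∈ closure (j.j.left '' VZ)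
      rw [← AVAmpleLib.pt_comp, AVAmpleLib.point_tL, ← he, pt_point]
      refine subset_closure ⟨_, ?_, rfl⟩
      intro z hz'
      show g z ∈ IsLocalRing.maximalIdeal k
      rw [hz z hz']
      exact zero_mem _
    obtain ⟨g, hg, he⟩ := (hO a).1 haO
    have h3 : (pt g).left (IsLocalRing.closedPoint k) ∈ VZ := by
      have h4 : j.j.left ((pt g).left (IsLocalRing.closedPoint k)) ∈ closure (j.j.left '' VZ) := by
        rw [← pt_point, he, ← AVAmpleLib.point_tL, AVAmpleLib.pt_comp]
        exact h2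
      have hem := j.j.left.isOpenEmbedding.isEmbedding.isInducing.closure_eq_preimage_closure_image VZ
      have h5 : (pt g).left (IsLocalRing.closedPoint k) ∈ closure VZ := by rw [hem]; exact h4
      rwa [(PrimeSpectrum.isClosed_zeroLocus Z).closure_eq] at h5
    have h6 : (j.point g₀)⁻¹ * j.point g ∈ S.stab ε := (hZ g hg).2 fun z hz => by
      have := h3 hz
      have h2 : g z ∈ IsLocalRing.maximalIdeal k := this
      rwa [IsLocalRing.maximalIdeal_eq_bot, Ideal.mem_bot] at h2
    rwa [he, inv_mul_cancel_left] at h6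
  have hclosed : ∀ a, AVAmpleLib.pt a ∈ closure (AVAmpleLib.pt '' (H : Set (𝟙_ (Over (Spec (CommRingCat.of k))) ⟶ G))) →
      a ∈ H := by
    intro a hac
    let N : G.left.Opens := (AVAmpleLib.tL a⁻¹).left ⁻¹ᵁ (O ⊓ ((𝟙 G)⁻¹ : G ⟶ G).left ⁻¹ᵁ O)
    have haN : AVAmpleLib.pt a ∈ N := by
      have e1 : a ≫ AVAmpleLib.tL a⁻¹ = 1 := by rw [AVAmpleLib.point_tL, inv_mul_cancel]
      have e2 : (1 : 𝟙_ (Over (Spec (CommRingCat.of k))) ⟶ G) ≫ (𝟙 G)⁻¹ = 1 := by
        rw [GrpObj.comp_inv, Category.comp_id, inv_one]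
      show (AVAmpleLib.tL a⁻¹).left (AVAmpleLib.pt a) ∈ O ⊓ ((𝟙 G)⁻¹ : G ⟶ G).left ⁻¹ᵁ O
      rw [← AVAmpleLib.pt_comp, e1]
      refine ⟨hO1, ?_⟩
      show ((𝟙 G)⁻¹ : G ⟶ G).left (AVAmpleLib.pt _) ∈ O
      rw [← AVAmpleLib.pt_comp, e2]
      exact hO1
    obtain ⟨_, hbN, b, hbH, rfl⟩ := mem_closure_iff.1 hac N N.2 haN
    have h1 : AVAmpleLib.pt (b⁻¹ * a) ∈ O := by
      have := hbN.2
      rw [show (AVAmpleLib.tL a⁻¹).left (AVAmpleLib.pt b) = AVAmpleLib.pt (a⁻¹ * b) by
        rw [← AVAmpleLib.pt_comp, AVAmpleLib.point_tL]] at this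
      change ((𝟙 G)⁻¹ : G ⟶ G).left (AVAmpleLib.pt (a⁻¹ * b)) ∈ O at this
      rwa [← AVAmpleLib.pt_comp, GrpObj.comp_inv, Category.comp_id, mul_inv_rev, _root_.inv_inv] at this
    have h2 : AVAmpleLib.pt (b⁻¹ * a) ∈ closure (AVAmpleLib.pt '' (H : Set (𝟙_ (Over (Spec (CommRingCat.of k))) ⟶ G))) := by
      rw [← AVAmpleLib.point_tL, AVAmpleLib.pt_comp]
      refine map_mem_closure (AVAmpleLib.tL b⁻¹).left.continuous hac ?_
      rintro _ ⟨x, hx, rfl⟩
      refine ⟨b⁻¹ * x, H.mul_mem (H.inv_mem hbH) hx, ?_⟩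
      rw [← AVAmpleLib.point_tL, AVAmpleLib.pt_comp]
    have h3 := H.mul_mem hbH (hloc' _ h1 h2)
    rwa [mul_inv_cancel_left] at h3
  obtain ⟨Hs, hgrp, i, hi, hci, hsm, hrange⟩ := DenseSubLib.exists_smooth_subgroup H
  have hpts : ∀ x : 𝟙_ (Over (Spec (CommRingCat.of k))) ⟶ Hs, x ≫ i ∈ H := fun x => hclosed _ (by
    rw [← hrange]
    exact ⟨AVAmpleLib.pt x, rfl⟩)
  haveI : Mono i := Over.mono_of_mono_left i
  haveI : QuasiCompact Hs.hom := by rw [← Over.w i]; infer_instance
  haveI : IsReduced Hs.left := AlgSpLib.isReduced_of_smooth Hs.hom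
  refine ⟨Hs, hgrp, i, hi, hci, hsm, ?_, ?_⟩
  · -- affineness
    let M := AntiAffLib.ker Hs
    let m : M ⟶ G := AntiAffLib.kerIncl Hs ≫ i
    haveI : IsReduced M.left := AntiAffLib.isReduced_of_antiAff M
    haveI : IsNoetherianRing A := Algebra.FiniteType.isNoetherianRing k A
    have hM : ∀ x : 𝟙_ (Over (Spec (CommRingCat.of k))) ⟶ M, x ≫ m ∈ H := fun x => by
      show x ≫ AntiAffLib.kerIncl Hs ≫ i ∈ H
      rw [← Category.assoc]
      exact hpts _
    have htriv : ∀ x : 𝟙_ (Over (Spec (CommRingCat.of k))) ⟶ M, x ≫ m = 1 := by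
      intro x
      refine S.eq_one_of_locMod ε (hM x) fun a n l hl => ?_
      refine sub_eq_zero.1 ((Module.forall_dual_apply_eq_zero_iff k _).1 fun φ => ?_)
      have hin : ∀ y : 𝟙_ (Over (Spec (CommRingCat.of k))) ⟶ M, InLoc ε (S.act (y ≫ m) a) := fun y =>
        (hM y (a : K)).2 ⟨algebraMap A _ a, locHom_algebraMap ε a⟩
      choose lv hlv using hin
      have hone : lv 1 = algebraMap A (Loc ε) a := locHom_injective ε (by
        rw [hlv, locHom_algebraMap, show (1 : 𝟙_ (Over (Spec (CommRingCat.of k))) ⟶ M) ≫ m = 1 from MonObj.one_comp m,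
          S.act_one]
        rfl)
      obtain ⟨F, hF⟩ := exists_glue (M := M) (fun y => φ (locMod ε n (lv y))) fun h₁ => by
        obtain ⟨u, w, huw⟩ := hreg _ (show InLoc ε (S.act (h₁ ≫ m) a) from ⟨_, hlv h₁⟩) n φ
        let E := Localization.Away (D * w)
        let jE : Chart G E := ⟨pt (IsScalarTower.toAlgHom k B E) ≫ j.j, by
          rw [Over.comp_left]
          haveI : IsOpenImmersion (pt (IsScalarTower.toAlgHom k B E)).left :=
            IsOpenImmersion.of_isLocalization (D * w)
          infer_instance⟩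
        haveI := jE.open_j
        let f₀ : M ⟶ G := m ≫ AVAmpleLib.tL (c₀ * (h₁ ≫ m)⁻¹)
        let U : M.left.Opens := f₀.left ⁻¹ᵁ jE.opens
        let l₀ := IsOpenImmersion.lift jE.j.left (U.ι ≫ f₀.left) (by
          rintro _ ⟨p, rfl⟩
          rw [Scheme.Hom.comp_apply]
          exact p.2)
        have hl₀ : l₀ ≫ jE.j.left = U.ι ≫ f₀.left := IsOpenImmersion.lift_fac _ _ _
        let l : Over.mk (U.ι ≫ M.hom) ⟶ sp k E := Over.homMk l₀ (by
          show l₀ ≫ (sp k E).hom = U.ι ≫ M.hom
          rw [← Over.w jE.j, ← Category.assoc, hl₀, Category.assoc, Over.w])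
        have hu : IsUnit (algebraMap B E w) := by
          have := IsLocalization.Away.algebraMap_isUnit (S := E) (D * w)
          rw [map_mul] at this
          exact isUnit_of_mul_isUnit_right this
        let e : E := algebraMap B E u * ↑hu.unit⁻¹
        refine ⟨U, l ≫ pt (Polynomial.aeval e), ?_, fun b => ?_⟩
        · show f₀.left (AVAmpleLib.pt h₁) ∈ jE.opens
          have e1 : h₁ ≫ f₀ = c₀ := by
            rw [← Category.assoc, AVAmpleLib.point_tL, inv_mul_cancel_right]
          have e2 : f₀.left (AVAmpleLib.pt h₁) = AVAmpleLib.pt c₀ := by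
            rw [← e1]
            rfl
          have hw0 : g₀ w ≠ 0 := (huw g₀ hg₀ (by rw [inv_mul_cancel]; exact one_mem _)).1
          let gE : E →ₐ[k] k := IsLocalization.liftAlgHom (M := Submonoid.powers (D * w)) (f := g₀) fun y => by
            obtain ⟨_, N, rfl⟩ := y
            rw [map_pow, map_mul]
            exact (isUnit_iff_ne_zero.2 (mul_ne_zero hg₀ hw0)).pow N
          have e3 : jE.point gE = c₀ := by
            show unitSp k ≫ pt gE ≫ pt (IsScalarTower.toAlgHom k B E) ≫ j.j = _
            rw [← Category.assoc (pt gE), ← pt_comp, show gE.comp (IsScalarTower.toAlgHom k B E) = g₀ from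
              AlgHom.ext fun z => IsLocalization.lift_eq _ _]
            rfl
          rw [e2, ← e3, pt_point]
          exact ⟨_, rfl⟩
        · obtain ⟨gE, hgE⟩ := Groth.Agent.DiagRep.exists_pt (toUnit (sp k k) ≫ b ≫ l)
          have hb : b ≫ l = unitSp k ≫ pt gE := by
            rw [← hgE, ← Category.assoc, toUnit_unique (unitSp k ≫ toUnit _) (𝟙 _), Category.id_comp]
          let y := b ≫ (Over.homMk U.ι rfl : Over.mk (U.ι ≫ M.hom) ⟶ M)
          let g := gE.comp (IsScalarTower.toAlgHom k B E)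
          have hg : g (D * w) ≠ 0 :=
            ((IsLocalization.Away.algebraMap_isUnit (S := E) (D * w)).map gE).ne_zero
          rw [map_mul] at hg
          have hgpt : j.point g = c₀ * (h₁ ≫ m)⁻¹ * (y ≫ m) := by
            have e1 : l ≫ jE.j = (Over.homMk U.ι rfl : Over.mk (U.ι ≫ M.hom) ⟶ M) ≫ f₀ :=
              Over.OverMorphism.ext hl₀
            have e2 := congrArg (b ≫ ·) e1
            simp only [← Category.assoc, hb] at e2
            rw [← AVAmpleLib.point_tL, Chart.point, show g = gE.comp (IsScalarTower.toAlgHom k B E) from rfl, pt_comp,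
              Category.assoc (pt gE)]
            simp only [Category.assoc] at e2
            exact e2.trans (by simp only [y, f₀, Category.assoc])
          have hγ : c₀⁻¹ * j.point g = (h₁ ≫ m)⁻¹ * (y ≫ m) := by
            rw [hgpt, _root_.mul_assoc c₀, inv_mul_cancel_left]
          have hmem : (j.point g₀)⁻¹ * j.point g ∈ S.stab ε := by
            show c₀⁻¹ * j.point g ∈ H
            rw [hγ]
            exact H.mul_mem (H.inv_mem (hM h₁)) (hM y)
          have hval := (huw g (left_ne_zero_of_mul hg) hmem).2 (lv y) (by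
            rw [hlv, show (j.point g₀)⁻¹ * j.point g = (h₁ ≫ m)⁻¹ * (y ≫ m) from hγ, ← AlgHom.comp_apply,
              ← S.act_mul, mul_inv_cancel_left])
          rw [← Category.assoc, hb, lineVal, Category.assoc, ← pt_comp]
          congr 2
          apply Polynomial.algHom_ext
          rw [AlgHom.comp_apply, Polynomial.aeval_X, Polynomial.aeval_X]
          have e4 : gE e * g w = g u := by
            show gE e * gE (algebraMap B E w) = gE (algebraMap B E u)
            rw [← map_mul, mul_assoc, IsUnit.val_inv_mul, mul_one]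
          exact mul_right_cancel₀ (right_ne_zero_of_mul hg) (e4.trans hval.symm)
      haveI : IsAffine (line k).left := inferInstanceAs (IsAffine (Spec (CommRingCat.of (Polynomial k))))
      have hc := AntiAffLib.eq_const F (1 : 𝟙_ (Over (Spec (CommRingCat.of k))) ⟶ M)
      have h2 : x ≫ F = (1 : 𝟙_ (Over (Spec (CommRingCat.of k))) ⟶ M) ≫ F := by
        conv_lhs => rw [hc, ← Category.assoc, toUnit_unique (x ≫ toUnit M) (𝟙 _), Category.id_comp]
      rw [hF, hF] at h2
      have h3 := lineVal_injective h2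
      have h4 : lv x = l := locHom_injective ε (by rw [hlv, hl])
      rw [h4, hone, locMod_algebraMap] at h3
      rw [map_sub, h3, sub_self]
    have hpt1 : ∀ x : 𝟙_ (Over (Spec (CommRingCat.of k))) ⟶ M, x = 1 := fun x => by
      haveI : Mono (AntiAffLib.kerIncl Hs ≫ i) := mono_comp _ _
      exact (cancel_mono m).1 ((htriv x).trans (MonObj.one_comp m).symm)
    have hMid : 𝟙 M = (1 : M ⟶ M) := by
      haveI : IsSeparated M.hom := Groth.Agent.GrpField.isSeparated_grp (G := M)
      refine AVAmpleLib.hom_ext_of_points _ _ fun x => ?_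
      rw [MonObj.comp_one, Category.comp_id]
      exact hpt1 x
    have hker : ∀ (T : Over (Spec (CommRingCat.of k))) (g : T ⟶ Hs),
        g ≫ 𝟙 Hs = 1 ↔ g ≫ AntiAffLib.toHull Hs = 1 := by
      intro T g
      rw [Category.comp_id]
      refine ⟨fun h => by rw [h, MonObj.one_comp], fun h => ?_⟩
      rw [← AntiAffLib.liftKer_comp Hs g h, ← Category.comp_id (AntiAffLib.liftKer Hs g h), hMid, MonObj.comp_one,
        MonObj.one_comp]
    haveI : Surjective (𝟙 Hs : Hs ⟶ Hs).left := by rw [Over.id_left]; infer_instance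
    haveI : Flat (𝟙 Hs : Hs ⟶ Hs).left := by rw [Over.id_left]; infer_instance
    exact AntiAffLib.isAffine_of_same_kernel (𝟙 Hs) (AntiAffLib.toHull Hs) hker
  · -- dimension
    by_contra hdim
    haveI : IsLocallyNoetherian Hs.left := LocallyOfFiniteType.isLocallyNoetherian Hs.hom
    haveI : CompactSpace Hs.left := QuasiCompact.compactSpace_of_compactSpace Hs.hom
    haveI : IsNoetherian Hs.left := {}
    have hd : topologicalKrullDim ↥Hs.left ≤ 0 := le_of_not_gt hdim
    haveI : T1Space Hs.left := ⟨fun z => by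
      rw [← closure_subset_iff_isClosed]
      intro q hq
      by_contra hne
      have hne' : closure {q} ≠ closure {z} := fun e => hne ((specializes_iff_mem_closure.2 hq).antisymm
        (specializes_iff_mem_closure.2 (e ▸ subset_closure (Set.mem_singleton z)))).eq.symm
      let P : IrreducibleCloseds Hs.left := ⟨closure {q}, isIrreducible_singleton.closure, isClosed_closure⟩
      let Q : IrreducibleCloseds Hs.left := ⟨closure {z}, isIrreducible_singleton.closure, isClosed_closure⟩
      have hPQ : P < Q := lt_of_le_of_ne (closure_minimal (Set.singleton_subset_iff.2 hq) isClosed_closure)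
        fun e => hne' (congrArg IrreducibleCloseds.carrier e)
      haveI : Nontrivial (IrreducibleCloseds Hs.left) := ⟨P, Q, hPQ.ne⟩
      have h01 : (1 : WithBot ℕ∞) ≤ topologicalKrullDim ↥Hs.left :=
        Order.one_le_krullDim_iff.2 ⟨P, Q, hPQ⟩
      exact absurd (h01.trans hd) (by decide)⟩
    haveI : Finite Hs.left := by
      haveI : NoetherianSpace Hs.left := inferInstance
      have hfin := NoetherianSpace.finite_irreducibleComponents (α := Hs.left)
      haveI := hfin.to_subtype
      have hsub : ∀ C : irreducibleComponents Hs.left, (C : Set Hs.left).Subsingleton := by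
        intro C
        obtain ⟨z, hz⟩ := QuasiSober.sober C.2.1 (isClosed_of_mem_irreducibleComponents C.1 C.2)
        rw [← hz.def, closure_singleton]
        exact Set.subsingleton_singleton
      refine Finite.of_injective (fun z : Hs.left =>
        (⟨irreducibleComponent z, irreducibleComponent_mem_irreducibleComponents z⟩ : irreducibleComponents Hs.left))
        fun z z' e => ?_
      have e' : irreducibleComponent z = irreducibleComponent z' := congrArg Subtype.val e
      exact hsub ⟨_, irreducibleComponent_mem_irreducibleComponents z⟩ mem_irreducibleComponent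
        (show z' ∈ irreducibleComponent z by rw [e']; exact mem_irreducibleComponent)
    -- but the slice is infinite
    apply hinf
    have hsub : ∀ g ∈ {g : B →ₐ[k] k | g D ≠ 0 ∧ (j.point g₀)⁻¹ * j.point g ∈ S.stab ε},
        ∃ p : Hs.left, i.left p = AVAmpleLib.pt ((j.point g₀)⁻¹ * j.point g) := fun g hg => by
      have : AVAmpleLib.pt ((j.point g₀)⁻¹ * j.point g) ∈ Set.range i.left := by
        rw [hrange]; exact subset_closure ⟨_, hg.2, rfl⟩
      exact this
    choose p hp using hsub
    haveI : Finite {g : B →ₐ[k] k | g D ≠ 0 ∧ (j.point g₀)⁻¹ * j.point g ∈ S.stab ε} := by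
      refine Finite.of_injective (fun g => p g.1 g.2) fun g g' e => Subtype.ext ?_
      have e2 := congrArg i.left e
      simp only [hp] at e2
      have e3 : (j.point g₀)⁻¹ * j.point g.1 = (j.point g₀)⁻¹ * j.point g'.1 :=
        point_ext e2
      exact j.point_injective (mul_left_cancel e3)
    exact Set.toFinite _

end ChevThmLib

end
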