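import Groth.Agent.ChevThmLib.Proper
import Groth.Agent.AlbLib.AffineHom
import Groth.Prelude

/-!
# Chevalley's theorem over an algebraically closed field
-/

set_option autoImplicit false
set_option linter.style.haveILetI false
set_option backward.isDefEq.respectTransparency false
set_option maxHeartbeats 1600000

universe u

open CategoryTheory CategoryTheory.Limits MonoidalCategory CartesianMonoidalCategory AlgebraicGeometry
open scoped MonObj

noncomputable section

namespace ChevThmLib

attribute [-instance] CategoryTheory.Hom.commGroup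

variable {k : Type u} [Field k] [IsAlgClosed k]

/-- A connected group is an extension of an abelian variety by its largest connected affine normal subgroup. -/
theorem exists_chevalley {G N : Over (Spec (CommRingCat.of k))} [GrpObj G] [Smooth G.hom] [QuasiCompact G.hom]
    [ConnectedSpace G.left] [GrpObj N] (i : N ⟶ G) (hi : IsAffNormal i)
    (hmax : ∀ (N' : Over (Spec (CommRingCat.of k))) [GrpObj N'] (i' : N' ⟶ G), IsAffNormal i' → ∃ f : N' ⟶ N, f ≫ i = i') :
    ∃ (Q : Over (Spec (CommRingCat.of k))) (_ : GrpObj Q) (q : G ⟶ Q), IsMonHom q ∧ Flat q.left ∧ Surjective q.left ∧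
      AlgGrp.IsKernel i q ∧ IsProper Q.hom ∧ Smooth Q.hom ∧ ConnectedSpace Q.left := by
  haveI := hi.hom; haveI := hi.closed; haveI := hi.smooth; haveI := hi.conn; haveI := hi.affine
  haveI : Flat N.hom := inferInstance
  haveI : Mono i.left := inferInstance
  haveI : Mono i := Over.mono_of_mono_left i
  haveI : QuasiCompact i.left := inferInstance
  obtain ⟨Q, _, q, hqm, hqf, hqs, hqp, hker, hQsep, -, hQsm⟩ := Groth.Agent.S3030.result k N G i hi.normal
  haveI := hqm; haveI := hqf; haveI := hqs; haveI := hqp; haveI := hQsm inferInstance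
  haveI : CompactSpace G.left := QuasiCompact.compactSpace_of_compactSpace G.hom
  haveI : CompactSpace Q.left := ⟨by rw [← q.left.surjective.range_eq]; exact isCompact_range q.left.continuous⟩
  haveI : QuasiCompact Q.hom := (quasiCompact_iff_compactSpace Q.hom).2 inferInstance
  haveI : ConnectedSpace Q.left := q.left.surjective.connectedSpace q.left.continuous
  exact ⟨Q, inferInstance, q, hqm, hqf, hqs, hker,
    isProper_of_trivial Q fun N'' _ i'' h => affNormal_quotient_trivial i hi hmax q hker i'' h, inferInstance,
    inferInstance⟩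

/-- Every connected affine subgroup of a connected group lies in the largest normal one. -/
theorem le_gAff {G N H : Over (Spec (CommRingCat.of k))} [GrpObj G] [Smooth G.hom] [QuasiCompact G.hom]
    [ConnectedSpace G.left] [GrpObj N] (i : N ⟶ G) (hi : IsAffNormal i)
    (hmax : ∀ (N' : Over (Spec (CommRingCat.of k))) [GrpObj N'] (i' : N' ⟶ G), IsAffNormal i' → ∃ f : N' ⟶ N, f ≫ i = i')
    [GrpObj H] (h : H ⟶ G) [IsMonHom h] [Smooth H.hom] [ConnectedSpace H.left] [IsAffine H.left] :
    ∃ f : H ⟶ N, f ≫ i = h := by
  obtain ⟨Q, _, q, hqm, -, -, hker, hQp, -, -⟩ := exists_chevalley i hi hmax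
  haveI := hqm; haveI := hQp
  exact AntiAffLib.exists_lift_kernel hker h (AlbLib.eq_one_of_affine (h ≫ q))

end ChevThmLib

end
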