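import Groth.Agent.ChevThmLib.Invariant

/-!
# A uniform denominator for a birational action on an affine model
-/

set_option autoImplicit false
set_option linter.style.haveILetI false
set_option maxHeartbeats 1000000

universe u

open TensorProduct

noncomputable section

namespace ChevThmLib

variable {k B K L Γ : Type u} [Field k] [CommRing B] [Algebra k B] [Field K] [Algebra k K] [Field L]
  [Algebra (B ⊗[k] K) L] [Algebra k L] [IsScalarTower k (B ⊗[k] K) L] [IsFractionRing (B ⊗[k] K) L] [Group Γ]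
  (S : Bir k B K L Γ) (A : Subalgebra k K)

/-- The inclusion of a product with a model. -/
def incl : B ⊗[k] A →ₐ[k] B ⊗[k] K := Algebra.TensorProduct.map (AlgHom.id k B) A.val

omit [IsScalarTower k (B ⊗[k] K) L] [IsFractionRing (B ⊗[k] K) L] [Algebra (B ⊗[k] K) L] [Algebra k L] [Field L] [Group Γ] in
@[simp] theorem ev_incl (g : B →ₐ[k] k) (z : B ⊗[k] A) : ev g (incl A z) = ((ev g z : A) : K) :=
  ev_map A.val g z

namespace Bir

omit [IsScalarTower k (B ⊗[k] K) L] in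
/-- Evaluation of a polynomial expression. -/
theorem act_mul_pow {f : K} {Q P : B ⊗[k] A} {n : ℕ}
    (h : S.μ f * algebraMap _ L (incl A Q) ^ n = algebraMap _ L (incl A P)) {g : B →ₐ[k] k} (hQ : ev g Q ≠ 0) :
    S.act (S.ι g) f * ((ev g Q : A) : K) ^ n = ((ev g P : A) : K) := by
  have hne : ev g (incl A Q ^ n) ≠ 0 := by
    rw [map_pow, ev_incl]
    exact pow_ne_zero n fun h0 => hQ (Subtype.ext h0)
  rw [← map_pow] at h
  have := S.act_eq h hne
  rwa [map_pow, ev_incl, ev_incl] at this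

variable [IsAlgClosed k] [Algebra.FiniteType k B] [IsDomain B]
  (R : ValuationSubring K) (hR : ∀ a : k, algebraMap k K a ∈ R)
  (hinv : ∀ (γ : Γ), ∀ f ∈ R, S.act γ f ∈ R) (hA : ∀ a ∈ A, a ∈ R)
  (hloc : ∀ f ∈ R, ∃ a ∈ A, ∃ s ∈ A, R.valuation s = 1 ∧ f * s = a)

include hinv in
theorem valuation_act_lt (γ : Γ) {f : K} (hf : R.valuation f < 1) : R.valuation (S.act γ f) < 1 := by
  have hfR : f ∈ R := (R.valuation_le_one_iff f).1 hf.le
  refine lt_of_le_of_ne ((R.valuation_le_one_iff _).2 (hinv γ f hfR)) fun h1 => ?_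
  by_cases hf0 : f = 0
  · rw [hf0, map_zero, map_zero] at h1
    exact zero_ne_one h1
  have h2 : S.act γ f⁻¹ ∈ R := by
    rw [map_inv₀, ← ValuationSubring.valuation_le_one_iff, map_inv₀, h1, inv_one]
  have h3 := hinv γ⁻¹ _ h2
  rw [S.act_inv_act, ← ValuationSubring.valuation_le_one_iff, map_inv₀] at h3
  exact absurd hf (not_lt_of_ge (by simpa using (inv_le_one₀ (zero_lt_iff.2 ((Valuation.ne_zero_iff _).2 hf0))).1 h3))

include hR hinv hA hloc

/-- A common denominator for the universal values of a finitely generated model. -/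
theorem exists_den (hfg : A.FG) : ∃ (Q : B ⊗[k] A) (b : B), b ≠ 0 ∧
    (∀ g : B →ₐ[k] k, g b ≠ 0 → R.valuation ((ev g Q : A) : K) = 1) ∧
    ∀ a ∈ A, ∃ (n : ℕ) (P : B ⊗[k] A), S.μ a * algebraMap _ L (incl A Q) ^ n = algebraMap _ L (incl A P) := by
  classical
  obtain ⟨G, hG⟩ := hfg
  have key : ∀ a ∈ A, ∃ (Q : B ⊗[k] A) (b : B) (P : B ⊗[k] A), b ≠ 0 ∧
      (∀ g : B →ₐ[k] k, g b ≠ 0 → R.valuation ((ev g Q : A) : K) = 1) ∧
      S.μ a * algebraMap _ L (incl A Q) = algebraMap _ L (incl A P) := by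
    intro a ha
    obtain ⟨P, Q, hQ, hdiv⟩ := IsFractionRing.div_surjective (A := B ⊗[k] K) (S.μ a)
    have hQL : algebraMap (B ⊗[k] K) L Q ≠ 0 := IsLocalization.to_map_ne_zero_of_mem_nonZeroDivisors L le_rfl hQ
    have hQ0 : Q ≠ 0 := fun h => hQL (by rw [h, map_zero])
    obtain ⟨c, b, hc, hb, hv⟩ := exists_scale (k := k) R hR Q hQ0
    let w : B ⊗[k] K := (1 : B) ⊗ₜ[k] c⁻¹
    have hw : ∀ g : B →ₐ[k] k, ev g w = c⁻¹ := fun g => by simp [w]
    have hQ1 : ∀ g : B →ₐ[k] k, g b ≠ 0 → R.valuation (ev g (w * Q)) = 1 := fun g hg => by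
      rw [map_mul, map_mul, hv g hg, hw, map_inv₀, inv_mul_cancel₀ ((Valuation.ne_zero_iff _).2 hc)]
    have hne : ∀ g : B →ₐ[k] k, g b ≠ 0 → ev g (w * Q) ≠ 0 := fun g hg h0 => by
      have := hQ1 g hg
      rw [h0, map_zero] at this
      exact zero_ne_one this
    have hμ : S.μ a * algebraMap _ L (w * Q) = algebraMap _ L (w * P) := by
      rw [map_mul, map_mul, ← hdiv]
      field_simp
    have hP1 : ∀ g : B →ₐ[k] k, g b ≠ 0 → R.valuation (ev g (w * P)) ≤ 1 := fun g hg => by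
      rw [← S.act_eq hμ (hne g hg), map_mul (f := R.valuation), hQ1 g hg, mul_one]
      exact (R.valuation_le_one_iff _).2 (hinv _ a (hA a ha))
    obtain ⟨ι₁, s₁, x₁, c₁, hc₁, e₁⟩ := exists_integral_repr (k := k) R hR (w * Q) hb fun g hg => (hQ1 g hg).le
    obtain ⟨ι₂, s₂, x₂, c₂, hc₂, e₂⟩ := exists_integral_repr (k := k) R hR (w * P) hb hP1
    have hclear : ∀ {ι : Type u} (s : Finset ι) (c : ι → K), (∀ i ∈ s, c i ∈ R) →
        ∃ t ∈ A, R.valuation t = 1 ∧ ∀ i ∈ s, c i * t ∈ A := by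
      intro ι s c hc
      induction s using Finset.induction_on with
      | empty => exact ⟨1, one_mem A, map_one _, fun i hi => absurd hi (Finset.notMem_empty i)⟩
      | insert i s hi ih =>
        obtain ⟨t, ht, htv, htc⟩ := ih fun j hj => hc j (Finset.mem_insert_of_mem hj)
        obtain ⟨a', ha', s', hs', hsv, he⟩ := hloc (c i) (hc i (Finset.mem_insert_self i s))
        refine ⟨t * s', mul_mem ht hs', by rw [map_mul, htv, hsv, one_mul], fun j hj => ?_⟩
        rcases Finset.mem_insert.1 hj with rfl | hj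
        · rw [mul_comm t, ← mul_assoc, he]
          exact mul_mem ha' ht
        · rw [← mul_assoc]
          exact mul_mem (htc j hj) hs'
    obtain ⟨t₁, ht₁, htv₁, htc₁⟩ := hclear s₁ c₁ hc₁
    obtain ⟨t₂, ht₂, htv₂, htc₂⟩ := hclear s₂ c₂ hc₂
    let Q' : B ⊗[k] A := ∑ i ∈ s₁.attach, x₁ i ⊗ₜ[k] (⟨c₁ i * t₁ * t₂, mul_mem (htc₁ i i.2) ht₂⟩ : A)
    let P' : B ⊗[k] A := ∑ i ∈ s₂.attach, x₂ i ⊗ₜ[k] (⟨c₂ i * t₁ * t₂, by
      rw [mul_right_comm]; exact mul_mem (htc₂ i i.2) ht₁⟩ : A)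
    have hQ' : incl A Q' = ((1 : B) ⊗ₜ[k] (t₁ * t₂)) * (w * Q) := by
      rw [e₁, Finset.mul_sum, ← Finset.sum_attach s₁]
      simp only [Q', incl, map_sum, Algebra.TensorProduct.map_tmul, AlgHom.id_apply,
        Algebra.TensorProduct.tmul_mul_tmul, one_mul]
      refine Finset.sum_congr rfl fun i _ => congrArg _ ?_
      show c₁ i * t₁ * t₂ = _
      ring
    have hP' : incl A P' = ((1 : B) ⊗ₜ[k] (t₁ * t₂)) * (w * P) := by
      rw [e₂, Finset.mul_sum, ← Finset.sum_attach s₂]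
      simp only [P', incl, map_sum, Algebra.TensorProduct.map_tmul, AlgHom.id_apply,
        Algebra.TensorProduct.tmul_mul_tmul, one_mul]
      refine Finset.sum_congr rfl fun i _ => congrArg _ ?_
      show c₂ i * t₁ * t₂ = _
      ring
    refine ⟨Q', b, P', hb, fun g hg => ?_, ?_⟩
    · rw [← ev_incl, hQ', map_mul, ev_tmul, map_one, one_smul, map_mul, hQ1 g hg, mul_one, map_mul, htv₁,
        htv₂, one_mul]
    · rw [hQ', hP', map_mul _ ((1 : B) ⊗ₜ[k] (t₁ * t₂)), map_mul _ ((1 : B) ⊗ₜ[k] (t₁ * t₂)), ← hμ]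
      ring
  have hGA : ∀ a ∈ G, a ∈ A := fun a ha => hG ▸ Algebra.subset_adjoin ha
  choose Qf bf Pf hbf hQf hμf using fun a : G => key a.1 (hGA a.1 a.2)
  refine ⟨∏ a : G, Qf a, ∏ a : G, bf a, Finset.prod_ne_zero_iff.2 fun a _ => hbf a, fun g hg => ?_, fun a ha => ?_⟩
  · rw [map_prod] at hg
    rw [map_prod, SubmonoidClass.coe_finsetProd, map_prod]
    exact Finset.prod_eq_one fun a h => hQf a g (Finset.prod_ne_zero_iff.1 hg a h)
  · let Qt : B ⊗[k] A := ∏ a : G, Qf a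
    rw [← hG] at ha
    induction ha using Algebra.adjoin_induction with
    | mem x hx =>
      refine ⟨1, Pf ⟨x, hx⟩ * ∏ a ∈ Finset.univ.erase (⟨x, hx⟩ : G), Qf a, ?_⟩
      rw [← Finset.mul_prod_erase Finset.univ Qf (Finset.mem_univ (⟨x, hx⟩ : G)), map_mul, map_mul, map_mul,
        map_mul, pow_one, ← hμf]
      ring
    | algebraMap r =>
      refine ⟨0, algebraMap k _ r, ?_⟩
      rw [pow_zero, mul_one, AlgHom.commutes, AlgHom.commutes]
      exact IsScalarTower.algebraMap_apply k (B ⊗[k] K) L r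
    | add x y _ _ hx hy =>
      obtain ⟨n, P, h⟩ := hx
      obtain ⟨m, P', h'⟩ := hy
      refine ⟨n + m, P * Qt ^ m + P' * Qt ^ n, ?_⟩
      simp only [map_add, map_mul, map_pow, ← h, ← h', pow_add, Qt]
      ring
    | mul x y _ _ hx hy =>
      obtain ⟨n, P, h⟩ := hx
      obtain ⟨m, P', h'⟩ := hy
      refine ⟨n + m, P * P', ?_⟩
      simp only [map_mul, ← h, ← h', pow_add]
      ring

omit hR hinv hA hloc in
/-- The action of the inverse on a denominator. -/
theorem exists_inv_den {Q : B ⊗[k] A}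
    (hμ : ∀ a ∈ A, ∃ (n : ℕ) (P : B ⊗[k] A), S.μ a * algebraMap _ L (incl A Q) ^ n = algebraMap _ L (incl A P))
    (z : B ⊗[k] A) : ∃ (n : ℕ) (Q' : B ⊗[k] A), ∀ g : B →ₐ[k] k, ev g Q ≠ 0 →
      S.act (S.ι g) ((ev (g.comp S.inv) z : A) : K) * ((ev g Q : A) : K) ^ n = ((ev g Q' : A) : K) := by
  induction z using TensorProduct.induction_on with
  | zero => exact ⟨0, 0, fun g _ => by simp⟩
  | tmul x c =>
    obtain ⟨n, P, h⟩ := hμ c c.2
    refine ⟨n, (S.inv x ⊗ₜ[k] 1) * P, fun g hg => ?_⟩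
    rw [ev_tmul, Subalgebra.coe_smul, map_smul, smul_mul_assoc, S.act_mul_pow A h hg, map_mul, ev_tmul,
      Subalgebra.coe_mul, Subalgebra.coe_smul, Subalgebra.coe_one, smul_mul_assoc, one_mul]
    rfl
  | add u v hu hv =>
    obtain ⟨n, P, h⟩ := hu
    obtain ⟨m, P', h'⟩ := hv
    refine ⟨n + m, P * Q ^ m + P' * Q ^ n, fun g hg => ?_⟩
    simp only [map_add, map_mul, map_pow, Subalgebra.coe_add, Subalgebra.coe_mul, Subalgebra.coe_pow,
      ← h g hg, ← h' g hg, pow_add]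
    ring

end Bir

end ChevThmLib

end
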