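import Mathlib

/-!
# Evaluation of a tensor product at the rational points of the first factor
-/

set_option autoImplicit false
set_option linter.style.haveILetI false

universe u

open TensorProduct

noncomputable section

namespace ChevThmLib

variable {k : Type u} [Field k] {B : Type u} [CommRing B] [Algebra k B]
variable {C : Type u} [CommRing C] [Algebra k C]

/-- evaluation of the first factor at a rational point -/
def ev (h : B →ₐ[k] k) : B ⊗[k] C →ₐ[k] C :=
  Algebra.TensorProduct.lift ((Algebra.ofId k C).comp h) (AlgHom.id k C) fun _ _ => Commute.all _ _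

@[simp] theorem ev_tmul (h : B →ₐ[k] k) (b : B) (c : C) : ev h (b ⊗ₜ c) = h b • c := by
  simp [ev, Algebra.smul_def, Algebra.ofId_apply]

theorem exists_repr {ι : Type u} (β : Module.Basis ι k B) (z : B ⊗[k] C) :
    ∃ (s : Finset ι) (c : ι → C), z = ∑ i ∈ s, β i ⊗ₜ c i := by
  classical
  refine ⟨(TensorProduct.equivFinsuppOfBasisLeft β z).support, fun i => TensorProduct.equivFinsuppOfBasisLeft β z i, ?_⟩
  conv_lhs => rw [← (TensorProduct.equivFinsuppOfBasisLeft β).symm_apply_apply z]
  rw [TensorProduct.equivFinsuppOfBasisLeft_symm_apply]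
  rfl

theorem exists_point [IsAlgClosed k] [Algebra.FiniteType k B] [IsDomain B] {b : B} (hb : b ≠ 0) :
    ∃ h : B →ₐ[k] k, h b ≠ 0 := by
  haveI : IsJacobsonRing B := isJacobsonRing_of_finiteType (A := k)
  obtain ⟨m, hm, hbm⟩ : ∃ m : Ideal B, m.IsMaximal ∧ b ∉ m := by
    by_contra hne
    push_neg at hne
    apply hb
    have h1 : b ∈ (⊥ : Ideal B).jacobson := Submodule.mem_sInf.2 fun m hm => hne m hm.2
    rwa [IsJacobsonRing.out inferInstance (Ideal.isPrime_bot (α := B)).isRadical, Ideal.mem_bot] at h1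
  letI := Ideal.Quotient.field m
  haveI : Module.Finite k (B ⧸ m) := finite_of_finite_type_of_isJacobsonRing k (B ⧸ m)
  haveI : Algebra.IsAlgebraic k (B ⧸ m) := Algebra.IsAlgebraic.of_finite k (B ⧸ m)
  let e : (B ⧸ m) ≃ₐ[k] k := (AlgEquiv.ofBijective (Algebra.ofId k (B ⧸ m))
    ⟨(algebraMap k (B ⧸ m)).injective, IsAlgClosed.algebraMap_bijective_of_isIntegral.2⟩).symm
  exact ⟨e.toAlgHom.comp (Ideal.Quotient.mkₐ k m), fun h => hbm (Ideal.Quotient.eq_zero_iff_mem.1
    (e.injective (h.trans e.map_zero.symm)))⟩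

theorem eq_zero_of_points [IsAlgClosed k] [Algebra.FiniteType k B] [IsDomain B] {b : B} (hb : b ≠ 0) {x : B}
    (h : ∀ g : B →ₐ[k] k, g b ≠ 0 → g x = 0) : x = 0 := by
  by_contra hx
  obtain ⟨g, hg⟩ := exists_point (k := k) (mul_ne_zero hb hx)
  rw [map_mul] at hg
  exact hg (by rw [h g (left_ne_zero_of_mul hg), mul_zero])

/-- An element vanishing at the points of a dense open vanishes. -/
theorem ext_zero [IsAlgClosed k] [Algebra.FiniteType k B] [IsDomain B] {b : B} (hb : b ≠ 0) (z : B ⊗[k] C)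
    (h : ∀ g : B →ₐ[k] k, g b ≠ 0 → ev g z = 0) : z = 0 := by
  classical
  let β := Module.Free.chooseBasis k B
  obtain ⟨s, c, rfl⟩ := exists_repr β z
  refine Finset.sum_eq_zero fun i hi => ?_
  suffices c i = 0 by rw [this, TensorProduct.tmul_zero]
  refine (Module.forall_dual_apply_eq_zero_iff k (c i)).1 fun φ => ?_
  have hx : ∑ j ∈ s, φ (c j) • β j = 0 := by
    refine eq_zero_of_points (k := k) hb fun g hg => ?_
    have h2 := congrArg φ (h g hg)
    rw [map_sum, map_sum, map_zero] at h2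
    rw [map_sum]
    rw [← h2]
    refine Finset.sum_congr rfl fun j _ => ?_
    rw [ev_tmul, map_smul, map_smul, smul_eq_mul, smul_eq_mul, mul_comm]
  exact linearIndependent_iff'.1 β.linearIndependent s _ hx i hi

section Valuation

variable [IsAlgClosed k] [Algebra.FiniteType k B] [IsDomain B]
variable {K : Type u} [Field K] [Algebra k K] (R : ValuationSubring K)

/-- The generic valuation of a sum is the one of its largest coefficient. -/
theorem exists_scale_basis (hR : ∀ a : k, algebraMap k K a ∈ R) (β : Module.Basis (Module.Free.ChooseBasisIndex k B) k B)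
    (s : Finset (Module.Free.ChooseBasisIndex k B)) (c : Module.Free.ChooseBasisIndex k B → K)
    {i₀ : Module.Free.ChooseBasisIndex k B} (hi₀ : i₀ ∈ s) (hmax : ∀ i ∈ s, R.valuation (c i) ≤ R.valuation (c i₀))
    (hc : c i₀ ≠ 0) :
    ∃ b : B, b ≠ 0 ∧ ∀ g : B →ₐ[k] k, g b ≠ 0 →
      R.valuation (ev g (∑ i ∈ s, β i ⊗ₜ[k] c i)) = R.valuation (c i₀) := by
  classical
  letI : Algebra k R := (RingHom.codRestrict (algebraMap k K) R.toSubring hR).toAlgebra
  have hmem : ∀ i, i ∈ s → c i / c i₀ ∈ R := fun i hi => by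
    rw [← ValuationSubring.valuation_le_one_iff, map_div₀, div_le_one₀]
    · exact hmax i hi
    · exact zero_lt_iff.2 ((Valuation.ne_zero_iff _).2 hc)
  let ρ : R →+* IsLocalRing.ResidueField R := IsLocalRing.residue R
  letI : Algebra k (IsLocalRing.ResidueField R) := (ρ.comp (algebraMap k R)).toAlgebra
  let r : Module.Free.ChooseBasisIndex k B → IsLocalRing.ResidueField R := fun i =>
    if h : i ∈ s then ρ ⟨_, hmem i h⟩ else 0
  have hr₀ : r i₀ = 1 := by
    simp only [r, dif_pos hi₀]
    rw [← map_one ρ]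
    exact congrArg ρ (Subtype.ext (div_self hc))
  obtain ⟨φ, hφ⟩ : ∃ φ : IsLocalRing.ResidueField R →ₗ[k] k, φ 1 ≠ 0 :=
    by simpa using (not_forall.1 (mt (Module.forall_dual_apply_eq_zero_iff k (1 : IsLocalRing.ResidueField R)).1 one_ne_zero))
  refine ⟨∑ i ∈ s, φ (r i) • β i, fun h => ?_, fun g hg => ?_⟩
  · have := linearIndependent_iff'.1 β.linearIndependent s _ h i₀ hi₀
    rw [hr₀] at this
    exact hφ this
  · let y : R := ∑ i ∈ s.attach, g (β i) • (⟨_, hmem i.1 i.2⟩ : R)
    have hy : ev g (∑ i ∈ s, β i ⊗ₜ[k] c i) = c i₀ * (y : K) := by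
      rw [map_sum, show (y : K) = ∑ i ∈ s.attach, g (β i) • (c i / c i₀) by
        simp only [y, AddSubmonoidClass.coe_finsetSum]
        refine Finset.sum_congr rfl fun i _ => ?_
        rw [Algebra.smul_def, Algebra.smul_def]
        rfl,
        Finset.sum_attach s (fun i => g (β i) • (c i / c i₀)), Finset.mul_sum]
      refine Finset.sum_congr rfl fun i _ => ?_
      rw [ev_tmul, mul_smul_comm, mul_div_cancel₀ _ hc]
    have hyu : ρ y ≠ 0 := by
      intro h0
      apply hg
      have h1 : ρ y = ∑ i ∈ s, g (β i) • r i := by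
        rw [map_sum, ← Finset.sum_attach s (fun i => g (β i) • r i)]
        refine Finset.sum_congr rfl fun i _ => ?_
        rw [Algebra.smul_def, map_mul, Algebra.smul_def]
        simp only [r, dif_pos i.2]
        rfl
      have h2 := congrArg φ (h1.symm.trans h0)
      rw [map_sum, map_zero] at h2
      rw [map_sum, ← h2]
      refine Finset.sum_congr rfl fun i _ => ?_
      rw [map_smul, map_smul, smul_eq_mul, smul_eq_mul, mul_comm]
    have hu : IsUnit y := by
      by_contra hnu
      exact hyu ((IsLocalRing.residue_eq_zero_iff y).2 hnu)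
    have hv : R.valuation (y : K) = 1 := (R.valuation_eq_one_iff y).1 hu
    rw [hy, map_mul, hv, mul_one]

/-- Every non-zero element is a scalar times an element which is generically a unit. -/
theorem exists_scale (hR : ∀ a : k, algebraMap k K a ∈ R) (z : B ⊗[k] K) (hz : z ≠ 0) :
    ∃ (c : K) (b : B), c ≠ 0 ∧ b ≠ 0 ∧ ∀ g : B →ₐ[k] k, g b ≠ 0 → R.valuation (ev g z) = R.valuation c := by
  classical
  let β := Module.Free.chooseBasis k B
  obtain ⟨s, c, rfl⟩ := exists_repr β z
  obtain ⟨i₀, hi₀, hmax⟩ := s.exists_max_image (fun i => R.valuation (c i)) (by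
    rw [Finset.nonempty_iff_ne_empty]
    rintro rfl
    exact hz rfl)
  have hc : c i₀ ≠ 0 := by
    intro h0
    refine hz (Finset.sum_eq_zero fun i hi => ?_)
    have := hmax i hi
    rw [h0, map_zero] at this
    rw [(Valuation.zero_iff _).1 (le_antisymm this zero_le), TensorProduct.tmul_zero]
  obtain ⟨b, hb, h⟩ := exists_scale_basis (k := k) R hR β s c hi₀ hmax hc
  exact ⟨c i₀, b, hc, hb, h⟩

/-- An element with generic values in the ring has coefficients in it. -/
theorem exists_integral_repr (hR : ∀ a : k, algebraMap k K a ∈ R) (z : B ⊗[k] K) {b₀ : B} (hb₀ : b₀ ≠ 0)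
    (hz : ∀ g : B →ₐ[k] k, g b₀ ≠ 0 → R.valuation (ev g z) ≤ 1) :
    ∃ (ι : Type u) (s : Finset ι) (x : ι → B) (c : ι → K), (∀ i ∈ s, c i ∈ R) ∧ z = ∑ i ∈ s, x i ⊗ₜ[k] c i := by
  classical
  let β := Module.Free.chooseBasis k B
  obtain ⟨s, c, rfl⟩ := exists_repr β z
  refine ⟨_, s, β, c, fun i hi => ?_, rfl⟩
  by_contra hci
  obtain ⟨i₀, hi₀, hmax⟩ := s.exists_max_image (fun i => R.valuation (c i)) ⟨i, hi⟩
  have h1 : 1 < R.valuation (c i₀) := lt_of_lt_of_le (lt_of_not_ge fun h => hci ((R.valuation_le_one_iff _).1 h)) (hmax i hi)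
  have hc : c i₀ ≠ 0 := fun h0 => by rw [h0, map_zero] at h1; exact not_lt_zero h1
  obtain ⟨b, hb, h⟩ := exists_scale_basis (k := k) R hR β s c hi₀ hmax hc
  obtain ⟨g, hg⟩ := exists_point (k := k) (mul_ne_zero hb hb₀)
  rw [map_mul] at hg
  have := hz g (right_ne_zero_of_mul hg)
  rw [h g (left_ne_zero_of_mul hg)] at this
  exact this.not_gt h1

end Valuation

/-- Evaluation commutes with maps of the second factor. -/
theorem ev_map {C' : Type u} [CommRing C'] [Algebra k C'] (f : C →ₐ[k] C') (g : B →ₐ[k] k) (z : B ⊗[k] C) :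
    ev g (Algebra.TensorProduct.map (AlgHom.id k B) f z) = f (ev g z) := by
  induction z using TensorProduct.induction_on with
  | zero => simp
  | tmul x c => simp
  | add u v hu hv => simp only [map_add, hu, hv]

end ChevThmLib

end
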