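import Groth.Agent.ChevThmLib.PtSub
import Groth.Agent.MiscFlat6.TopDimCovers
import Groth.Agent.WeilLib.Dim
import Groth.Agent.S11424
import Groth.Agent.S3030
import Groth.Prelude

/-!
# The largest connected affine normal subgroup
-/

set_option autoImplicit false
set_option linter.style.haveILetI false
set_option backward.isDefEq.respectTransparency false
set_option maxHeartbeats 1600000

universe u

open CategoryTheory CategoryTheory.Limits MonoidalCategory CartesianMonoidalCategory AlgebraicGeometry
open scoped MonObj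
open AVAmpleLib (tR tL)

noncomputable section

namespace ChevThmLib

attribute [-instance] CategoryTheory.Hom.commGroup

variable {k : Type u} [Field k] [IsAlgClosed k] {G : Over (Spec (CommRingCat.of k))} [GrpObj G]

/-- Smooth connected affine normal closed subgroups. -/
structure IsAffNormal {N : Over (Spec (CommRingCat.of k))} [GrpObj N] (i : N ⟶ G) : Prop where
  hom : IsMonHom i
  closed : IsClosedImmersion i.left
  smooth : Smooth N.hom
  conn : ConnectedSpace N.left
  affine : IsAffine N.left
  normal : AlgGrp.IsNormalHom i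

/-- The dimension of a connected subgroup, as a natural number bounded by a fixed one. -/
theorem exists_bound (G : Over (Spec (CommRingCat.of k))) [GrpObj G] [Smooth G.hom] [QuasiCompact G.hom] :
    ∃ d : ℕ, ∀ (N : Over (Spec (CommRingCat.of k))) [GrpObj N] (i : N ⟶ G), IsAffNormal i →
      ∃ n : ℕ, n ≤ d ∧ topologicalKrullDim N.left = (n : WithBot ℕ∞) := by
  obtain ⟨G₀, _, i₀, h0m, h0c, h0o, h0s, h0q, h0i, h0conn, hlift, -⟩ := exists_component' G
  haveI := h0c; haveI := h0i; haveI := h0s
  obtain ⟨d, hd, -⟩ := WeilLib.pdim_eq_trdeg G₀ (genericPoint G₀.left)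
  rw [genericPoint_closure] at hd
  have hd' : topologicalKrullDim G₀.left = d :=
    ((Homeomorph.Set.univ G₀.left).isHomeomorph.topologicalKrullDim_eq).symm.trans hd
  refine ⟨d, fun N _ i hi => ?_⟩
  haveI := hi.hom; haveI := hi.closed; haveI := hi.smooth; haveI := hi.conn
  haveI : IsSeparated G.hom := Groth.Agent.GrpField.isSeparated_grp (G := G)
  haveI : GeometricallyIntegral N.hom := AlbLib.geometricallyIntegral_grp N
  haveI : IsIntegral N.left := GeometricallyIntegral.isIntegral_of_subsingleton N.hom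
  obtain ⟨n, hn, -⟩ := WeilLib.pdim_eq_trdeg N (genericPoint N.left)
  rw [genericPoint_closure] at hn
  have hn' : topologicalKrullDim N.left = n :=
    ((Homeomorph.Set.univ N.left).isHomeomorph.topologicalKrullDim_eq).symm.trans hn
  refine ⟨n, ?_, hn'⟩
  obtain ⟨l, hl⟩ := hlift i 1 (by rw [MonObj.one_comp])
  haveI : IsClosedImmersion (l.left ≫ i₀.left) := by rw [← Over.comp_left, hl]; infer_instance
  haveI : IsClosedImmersion l.left := IsClosedImmersion.of_comp l.left i₀.left
  have := l.left.isClosedEmbedding.isInducing.topologicalKrullDim_le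
  rw [hn', hd'] at this
  exact_mod_cast this

/-- A group has a largest smooth connected affine normal subgroup. -/
theorem exists_gAff (G : Over (Spec (CommRingCat.of k))) [GrpObj G] [Smooth G.hom] [QuasiCompact G.hom] :
    ∃ (N : Over (Spec (CommRingCat.of k))) (_ : GrpObj N) (i : N ⟶ G), IsAffNormal i ∧
      ∀ (N' : Over (Spec (CommRingCat.of k))) [GrpObj N'] (i' : N' ⟶ G), IsAffNormal i' → ∃ f : N' ⟶ N, f ≫ i = i' := by
  classical
  haveI : IsSeparated G.hom := Groth.Agent.GrpField.isSeparated_grp (G := G)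
  obtain ⟨d, hd⟩ := exists_bound G
  -- the trivial subgroup
  let P : ℕ → Prop := fun n => ∃ (N : Over (Spec (CommRingCat.of k))) (_ : GrpObj N) (i : N ⟶ G),
    IsAffNormal i ∧ topologicalKrullDim N.left = (n : WithBot ℕ∞)
  have hP : ∃ n ≤ d, P n := by
    let U : Over (Spec (CommRingCat.of k)) := 𝟙_ _
    let e : U ⟶ G := η[G]
    have he : IsAffNormal e := by
      haveI : IsClosedImmersion (e.left ≫ G.hom) := by
        rw [Over.w]; exact inferInstanceAs (IsClosedImmersion (𝟙 (Spec (CommRingCat.of k))))
      refine ⟨inferInstance, IsClosedImmersion.of_comp e.left G.hom,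
        inferInstanceAs (Smooth (𝟙 (Spec (CommRingCat.of k)))),
        inferInstanceAs (ConnectedSpace (PrimeSpectrum k)), inferInstanceAs (IsAffine (Spec (CommRingCat.of k))),
        fun T g n => ⟨n, ?_⟩⟩
      rw [show n ≫ e = (1 : T ⟶ G) by rw [Hom.one_def, toUnit_unique n (toUnit T)], _root_.mul_one, mul_inv_cancel]
    obtain ⟨n, hn, hn'⟩ := hd U e he
    exact ⟨n, hn, U, inferInstance, e, he, hn'⟩
  obtain ⟨n₀, hn₀, hn₀'⟩ := hP
  let n := Nat.findGreatest P d
  obtain ⟨N, _, i, hi, hNn⟩ : P n := Nat.findGreatest_spec hn₀ hn₀'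
  refine ⟨N, inferInstance, i, hi, fun N' _ i' hi' => ?_⟩
  haveI := hi.hom; haveI := hi.closed; haveI := hi.smooth; haveI := hi.conn; haveI := hi.affine
  haveI := hi'.hom; haveI := hi'.closed; haveI := hi'.smooth; haveI := hi'.conn; haveI := hi'.affine
  haveI : Mono i.left := inferInstance
  haveI : Mono i := Over.mono_of_mono_left i
  haveI : GeometricallyIntegral N.hom := AlbLib.geometricallyIntegral_grp N
  haveI : IsIntegral N.left := GeometricallyIntegral.isIntegral_of_subsingleton N.hom
  haveI : GeometricallyIntegral N'.hom := AlbLib.geometricallyIntegral_grp N'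
  haveI : IsIntegral N'.left := GeometricallyIntegral.isIntegral_of_subsingleton N'.hom
  haveI : QuasiCompact N'.hom := by rw [← Over.w i']; infer_instance
  haveI : QuasiCompact N.hom := by rw [← Over.w i]; infer_instance
  -- the product
  let S : Subgroup (𝟙_ (Over (Spec (CommRingCat.of k))) ⟶ G) :=
    { carrier := {g | ∃ a b, (a ≫ i) * (b ≫ i') = g}
      one_mem' := ⟨1, 1, by simp [MonObj.one_comp]⟩
      mul_mem' := by
        rintro _ _ ⟨a, b, rfl⟩ ⟨a', b', rfl⟩
        obtain ⟨a'', ha''⟩ := hi.normal _ (b ≫ i') a'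
        refine ⟨a * a'', b * b', ?_⟩
        rw [MonObj.mul_comp, MonObj.mul_comp, ← ha'']
        group
      inv_mem' := by
        rintro _ ⟨a, b, rfl⟩
        obtain ⟨a', ha'⟩ := hi.normal _ (b ≫ i')⁻¹ a⁻¹
        refine ⟨a', b⁻¹, ?_⟩
        rw [← ha', GrpObj.inv_comp, GrpObj.inv_comp]
        group }
  haveI : S.Normal := ⟨by
    rintro _ ⟨a, b, rfl⟩ g
    obtain ⟨a', ha'⟩ := hi.normal _ g a
    obtain ⟨b', hb'⟩ := hi'.normal _ g b
    refine ⟨a', b', ?_⟩
    rw [← ha', ← hb']
    group⟩
  obtain ⟨M, _, j, hjm, hjc, hMs, hjr⟩ := DenseSubLib.exists_smooth_subgroup S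
  haveI := hjm; haveI := hjc; haveI := hMs
  have hM : PtSub S j := ⟨hjr⟩
  haveI : IsReduced M.left := AlgSpLib.isReduced_of_smooth M.hom
  -- connectedness
  haveI : IsIntegral (N ⊗ N').left := AlbLib.isIntegral_tensor N N'
  haveI : LocallyOfFiniteType (N ⊗ N').hom := inferInstanceAs (LocallyOfFiniteType (pullback.fst N.hom N'.hom ≫ N.hom))
  let m : N ⊗ N' ⟶ G := (fst N N' ≫ i) * (snd N N' ≫ i')
  have hirr : IrreducibleSpace M.left := by
    have hr : Set.range j.left = closure (Set.range m.left) := by
      refine subset_antisymm (hM.range_subset isClosed_closure ?_) (closure_minimal ?_ j.left.isClosedEmbedding.isClosed_range)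
      · rintro _ ⟨a, b, rfl⟩
        refine subset_closure ⟨(lift a b).left (IsLocalRing.closedPoint k), congrArg AVAmpleLib.pt
          (show lift a b ≫ m = (a ≫ i) * (b ≫ i') from ?_)⟩
        rw [MonObj.comp_mul, lift_fst_assoc, lift_snd_assoc]
      · rintro _ ⟨x, rfl⟩
        refine forall_mem_of_points (j.left.isClosedEmbedding.isClosed_range.preimage m.left.continuous) (fun o => ?_) x
        show AVAmpleLib.pt (o ≫ m) ∈ Set.range j.left
        rw [hjr]
        refine subset_closure ⟨o ≫ m, ⟨o ≫ fst N N', o ≫ snd N N', ?_⟩, rfl⟩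
        rw [MonObj.comp_mul, ← Category.assoc, ← Category.assoc]
    have h1 : IsIrreducible (Set.range j.left) := by
      rw [hr, ← Set.image_univ]
      exact ((IrreducibleSpace.isIrreducible_univ _).image _ m.left.continuous.continuousOn).closure
    haveI : IrreducibleSpace (Set.range j.left) := Subtype.irreducibleSpace h1
    exact j.left.isClosedEmbedding.isEmbedding.toHomeomorph.symm.surjective.irreducibleSpace
      j.left.isClosedEmbedding.isEmbedding.toHomeomorph.symm.continuous
  -- affineness
  haveI : Flat N.hom := inferInstance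
  haveI : QuasiCompact i.left := inferInstance
  obtain ⟨Q, _, q, hqm, hqf, hqs, hqp, hker, hQsep, -, hQsm⟩ := Groth.Agent.S3030.result k N G i hi.normal
  haveI := hqm; haveI := hqf; haveI := hqs; haveI := hqp; haveI := hQsm inferInstance
  haveI : QuasiCompact Q.hom := by
    haveI : CompactSpace G.left := QuasiCompact.compactSpace_of_compactSpace G.hom
    haveI : CompactSpace Q.left := ⟨by rw [← q.left.surjective.range_eq]; exact isCompact_range q.left.continuous⟩
    exact (quasiCompact_iff_compactSpace Q.hom).2 inferInstance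
  haveI : IsAffineHom q.left := Groth.Agent.S11424.result k G N Q i q hker
  let f : N' ⟶ Q := i' ≫ q
  haveI : QuasiCompact f.left := by
    haveI : QuasiCompact (f.left ≫ Q.hom) := by rw [Over.w f]; infer_instance
    exact QuasiCompact.of_comp f.left Q.hom
  obtain ⟨C, _, p, c, hpm, hcm, hpc, hpf, hps, hpp, hcc⟩ :=
    Groth.Agent.GrpHom.exists_fppf_image f (Groth.Agent.GrpField.flat_field _)
  haveI := hpm; haveI := hcm; haveI := hpf; haveI := hps; haveI := hcc
  haveI : LocallyOfFiniteType C.hom := by rw [← Over.w c]; infer_instance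
  haveI : IsAffine C.left := AntiAffLib.isAffine_of_surjective_hom p
  obtain ⟨l, hl⟩ := hM.exists_factor c q (fun g hg => by
    obtain ⟨a, b, rfl⟩ := hg
    refine ⟨b ≫ p, ?_⟩
    rw [Category.assoc, hpc, MonObj.mul_comp, Category.assoc, AntiAffLib.kernel_comp hker, MonObj.comp_one,
      _root_.one_mul, Category.assoc])
  have hMA : IsAffNormal j := ⟨hjm, hjc, hMs, inferInstance, isAffine_of_lift j q c l hl, hM.isNormalHom⟩
  -- containments
  haveI : IsReduced N.left := inferInstance
  obtain ⟨fN, hfN⟩ := AVAmpleLib.exists_lift_of_reduced j.left i.left (by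
    rintro _ ⟨x, rfl⟩
    refine forall_mem_of_points (j.left.isClosedEmbedding.isClosed_range.preimage i.left.continuous) (fun a => ?_) x
    show AVAmpleLib.pt (a ≫ i) ∈ Set.range j.left
    rw [hjr]
    exact subset_closure ⟨a ≫ i, ⟨a, 1, by rw [MonObj.one_comp, _root_.mul_one]⟩, rfl⟩)
  haveI : IsClosedImmersion (fN ≫ j.left) := by rw [hfN]; infer_instance
  haveI : IsClosedImmersion fN := IsClosedImmersion.of_comp fN j.left
  obtain ⟨nM, hnM, hnM'⟩ := hd M j hMA
  have hle : n ≤ nM := by
    have := fN.isClosedEmbedding.isInducing.topologicalKrullDim_le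
    rw [hNn, hnM'] at this
    exact_mod_cast this
  have hge : nM ≤ n := Nat.le_findGreatest hnM ⟨M, inferInstance, j, hMA, hnM'⟩
  have hsurj : Set.range fN = Set.univ := by
    by_contra hne
    have hlt := MiscFlat6.dim_lt_of_ssubset (X := M.left) (by rw [hnM']; exact fun h => ENat.natCast_ne_top nM (WithBot.coe_injective h))
      fN.isClosedEmbedding.isClosed_range hne
    rw [← IsHomeomorph.topologicalKrullDim_eq _ fN.isClosedEmbedding.isEmbedding.toHomeomorph.isHomeomorph, hNn, hnM',
      le_antisymm hle hge] at hlt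
    exact lt_irrefl _ hlt
  obtain ⟨g₀, hg₀⟩ := AVAmpleLib.exists_lift_of_reduced i.left i'.left (by
    rintro _ ⟨x, rfl⟩
    refine forall_mem_of_points (i.left.isClosedEmbedding.isClosed_range.preimage i'.left.continuous) (fun b => ?_) x
    show AVAmpleLib.pt (b ≫ i') ∈ Set.range i.left
    obtain ⟨y, hy⟩ := hM.exists_lift (g := b ≫ i') ⟨1, b, by rw [MonObj.one_comp, _root_.one_mul]⟩
    obtain ⟨z, hz⟩ := hsurj.ge (Set.mem_univ (AVAmpleLib.pt y))
    refine ⟨z, ?_⟩
    rw [← hfN, Scheme.Hom.comp_apply, hz, ← hy]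
    rfl)
  exact ⟨Over.homMk g₀ (by rw [← Over.w i', ← hg₀, Category.assoc, Over.w i]), Over.OverMorphism.ext hg₀⟩

end ChevThmLib

end
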