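import Groth.Agent.ChevThmLib.GAff
import Groth.Prelude

/-!
# The quotient by the largest connected affine normal subgroup
-/

set_option autoImplicit false
set_option linter.style.haveILetI false
set_option backward.isDefEq.respectTransparency false
set_option maxHeartbeats 1600000

universe u

open CategoryTheory CategoryTheory.Limits MonoidalCategory CartesianMonoidalCategory AlgebraicGeometry
open scoped MonObj
open AVAmpleLib (tR tL)

noncomputable section

namespace ChevThmLib

attribute [-instance] CategoryTheory.Hom.commGroup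

variable {k : Type u} [Field k] [IsAlgClosed k]

/-- A group all of whose rational points are trivial on finitely many translates is trivial. -/
theorem isIso_of_finite_points {N : Over (Spec (CommRingCat.of k))} [GrpObj N] [Smooth N.hom] [ConnectedSpace N.left]
    (h : Set.Finite (Set.univ : Set (𝟙_ (Over (Spec (CommRingCat.of k))) ⟶ N))) : IsIso N.hom := by
  haveI : IsSeparated N.hom := Groth.Agent.GrpField.isSeparated_grp (G := N)
  haveI : IsReduced N.left := AlgSpLib.isReduced_of_smooth N.hom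
  haveI : GeometricallyIntegral N.hom := AlbLib.geometricallyIntegral_grp N
  haveI : IsIntegral N.left := GeometricallyIntegral.isIntegral_of_subsingleton N.hom
  have hcl : ∀ x : N.left, x ∈ ⋃ a ∈ (Set.univ : Set (𝟙_ (Over (Spec (CommRingCat.of k))) ⟶ N)), {AVAmpleLib.pt a} :=
    forall_mem_of_points (h.isClosed_biUnion fun a _ => isClosed_pt a) fun a => Set.mem_biUnion trivial rfl
  have hclosed : ∀ x : N.left, IsClosed ({x} : Set N.left) := fun x => by
    obtain ⟨a, -, ha⟩ := Set.mem_iUnion₂.1 (hcl x)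
    rw [Set.mem_singleton_iff.1 ha]
    exact isClosed_pt a
  have huniv : ({genericPoint N.left} : Set N.left) = Set.univ :=
    (hclosed _).closure_eq.symm.trans (genericPoint_closure N.left)
  have hall : ∀ a : 𝟙_ (Over (Spec (CommRingCat.of k))) ⟶ N, a = 1 := fun a => point_ext
    (((huniv.ge (Set.mem_univ _) : _ ∈ _) : a.left (IsLocalRing.closedPoint k) = genericPoint N.left).trans
      ((huniv.ge (Set.mem_univ _) : _ ∈ _) :
        (1 : 𝟙_ (Over (Spec (CommRingCat.of k))) ⟶ N).left (IsLocalRing.closedPoint k) = genericPoint N.left).symm)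
  have e : 𝟙 N = toUnit N ≫ η[N] := AVAmpleLib.hom_ext_of_points _ _ fun a => by
    rw [Category.comp_id, ← Category.assoc, toUnit_unique (a ≫ toUnit N) (toUnit _), ← Hom.one_def]
    exact hall a
  haveI : IsIso (toUnit N) := ⟨η[N], e.symm, toUnit_unique _ _⟩
  have : IsIso (toUnit N).left := inferInstanceAs (IsIso ((Over.forget _).map (toUnit N)))
  rwa [Over.toUnit_left] at this

/-- The quotient by the largest connected affine normal subgroup has no such subgroup. -/
theorem affNormal_quotient_trivial {G N Q : Over (Spec (CommRingCat.of k))} [GrpObj G] [Smooth G.hom]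
    [QuasiCompact G.hom] [GrpObj N] (i : N ⟶ G) (hi : IsAffNormal i)
    (hmax : ∀ (N' : Over (Spec (CommRingCat.of k))) [GrpObj N'] (i' : N' ⟶ G), IsAffNormal i' → ∃ f : N' ⟶ N, f ≫ i = i')
    [GrpObj Q] [LocallyOfFiniteType Q.hom] [QuasiCompact Q.hom] (q : G ⟶ Q) [IsMonHom q] [Surjective q.left]
    [Flat q.left] (hker : AlgGrp.IsKernel i q) {N'' : Over (Spec (CommRingCat.of k))} [GrpObj N''] (i'' : N'' ⟶ Q)
    (hi'' : IsAffNormal i'') : IsIso N''.hom := by
  classical
  haveI := hi.hom; haveI := hi.closed; haveI := hi.smooth; haveI := hi.conn; haveI := hi.affine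
  haveI := hi''.hom; haveI := hi''.closed; haveI := hi''.smooth; haveI := hi''.conn; haveI := hi''.affine
  haveI : IsSeparated G.hom := Groth.Agent.GrpField.isSeparated_grp (G := G)
  haveI : IsSeparated Q.hom := Groth.Agent.GrpField.isSeparated_grp (G := Q)
  haveI : IsAffineHom q.left := Groth.Agent.S11424.result k G N Q i q hker
  haveI : Mono i''.left := inferInstance
  haveI : Mono i'' := Over.mono_of_mono_left i''
  let S : Subgroup (𝟙_ (Over (Spec (CommRingCat.of k))) ⟶ G) :=
    { carrier := {g | ∃ x, x ≫ i'' = g ≫ q}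
      one_mem' := ⟨1, by rw [MonObj.one_comp, MonObj.one_comp]⟩
      mul_mem' := by
        rintro a b ⟨x, hx⟩ ⟨y, hy⟩
        exact ⟨x * y, by rw [MonObj.mul_comp, MonObj.mul_comp, hx, hy]⟩
      inv_mem' := by
        rintro a ⟨x, hx⟩
        exact ⟨x⁻¹, by rw [GrpObj.inv_comp, GrpObj.inv_comp, hx]⟩ }
  haveI : S.Normal := ⟨by
    rintro a ⟨x, hx⟩ g
    obtain ⟨y, hy⟩ := hi''.normal _ (g ≫ q) x
    exact ⟨y, by rw [← hy, hx, MonObj.mul_comp, MonObj.mul_comp, GrpObj.inv_comp]⟩⟩
  obtain ⟨B, _, j, hjm, hjc, hBs, hjr⟩ := DenseSubLib.exists_smooth_subgroup S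
  haveI := hjm; haveI := hjc; haveI := hBs
  have hB : PtSub S j := ⟨hjr⟩
  haveI : IsReduced B.left := AlgSpLib.isReduced_of_smooth B.hom
  haveI : QuasiCompact B.hom := by rw [← Over.w j]; infer_instance
  obtain ⟨H, _, i₀, hm₀, hc₀, ho₀, hs₀, hq₀, hint, hconn, hlift, t, ht⟩ := exists_component' B
  haveI := hm₀; haveI := hc₀; haveI := hs₀; haveI := hconn
  obtain ⟨l, hl⟩ := hB.exists_factor i'' q (fun g hg => hg)
  haveI : IsAffine B.left := isAffine_of_lift j q i'' l hl
  haveI : IsAffine H.left := isAffine_of_isAffineHom i₀.left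
  haveI : IsClosedImmersion (i₀ ≫ j).left := by rw [Over.comp_left]; infer_instance
  have hnB := hB.isNormalHom
  have hH : IsAffNormal (i₀ ≫ j) := by
    refine ⟨inferInstance, inferInstance, hs₀, hconn, inferInstance, ?_⟩
    haveI : IsReduced H.left := AlgSpLib.isReduced_of_smooth H.hom
    haveI : GeometricallyIntegral H.hom := AlbLib.geometricallyIntegral_grp H
    let SH : Subgroup (𝟙_ (Over (Spec (CommRingCat.of k))) ⟶ G) :=
      { carrier := {g | ∃ e, e ≫ i₀ ≫ j = g}
        one_mem' := ⟨1, MonObj.one_comp _⟩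
        mul_mem' := by
          rintro _ _ ⟨a, rfl⟩ ⟨b, rfl⟩
          exact ⟨a * b, MonObj.mul_comp _ _ _⟩
        inv_mem' := by
          rintro _ ⟨a, rfl⟩
          exact ⟨a⁻¹, GrpObj.inv_comp _ _⟩ }
    haveI : SH.Normal := ⟨by
      rintro _ ⟨a, rfl⟩ g
      obtain ⟨b, hb⟩ := hnB H (toUnit H ≫ g) i₀
      obtain ⟨b', hb'⟩ := hlift b 1 (by
        haveI : Mono j.left := inferInstance
        haveI : Mono j := Over.mono_of_mono_left j
        rw [← cancel_mono j, Category.assoc, ← hb, MonObj.comp_mul, MonObj.comp_mul, GrpObj.comp_inv, ← Category.assoc,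
          ← Category.assoc, toUnit_unique ((1 : _ ⟶ H) ≫ toUnit H) (𝟙 _), Category.id_comp, MonObj.one_comp,
          MonObj.one_comp, _root_.mul_one, mul_inv_cancel])
      refine ⟨a ≫ b', ?_⟩
      rw [← Category.assoc, Category.assoc a b', hb', Category.assoc, ← hb, MonObj.comp_mul, MonObj.comp_mul,
        GrpObj.comp_inv, ← Category.assoc a, toUnit_unique (a ≫ toUnit H) (𝟙 _), Category.id_comp]⟩
    have : PtSub SH (i₀ ≫ j) := by
      refine ⟨subset_antisymm ?_ (closure_minimal ?_ (i₀ ≫ j).left.isClosedEmbedding.isClosed_range)⟩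
      · rintro _ ⟨x, rfl⟩
        refine forall_mem_of_points (isClosed_closure.preimage (i₀ ≫ j).left.continuous) (fun a => ?_) x
        exact subset_closure ⟨a ≫ i₀ ≫ j, ⟨a, rfl⟩, rfl⟩
      · rintro _ ⟨g, ⟨a, rfl⟩, rfl⟩
        exact ⟨a.left (IsLocalRing.closedPoint k), rfl⟩
    exact this.isNormalHom
  obtain ⟨f, hf⟩ := hmax H (i₀ ≫ j) hH
  have hHq : i₀ ≫ j ≫ q = 1 := by
    rw [← Category.assoc, ← hf, Category.assoc, AntiAffLib.kernel_comp hker, MonObj.comp_one]
  refine isIso_of_finite_points ((t.finite_toSet.image fun c => c ≫ l).subset ?_)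
  intro x _
  haveI : JacobsonSpace G.left := LocallyOfFiniteType.jacobsonSpace G.hom
  have hW : IsClosed (q.left ⁻¹' {AVAmpleLib.pt (x ≫ i'')}) := (isClosed_pt _).preimage q.left.continuous
  obtain ⟨z, hz⟩ := q.left.surjective (AVAmpleLib.pt (x ≫ i''))
  obtain ⟨w, hw, hwc⟩ := nonempty_inter_closedPoints (show (q.left ⁻¹' {AVAmpleLib.pt (x ≫ i'')}).Nonempty from ⟨z, hz⟩)
    hW.isLocallyClosed
  obtain ⟨g, rfl⟩ := AVAmpleLib.exists_pt_eq w hwc
  have hg : g ≫ q = x ≫ i'' := point_ext hw
  obtain ⟨b, hb⟩ := hB.exists_lift (g := g) ⟨x, hg.symm⟩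
  obtain ⟨c, hc, e, he⟩ := ht b
  refine ⟨c, hc, ?_⟩
  rw [← cancel_mono i'', Category.assoc, hl]
  show c ≫ j ≫ q = x ≫ i''
  rw [← hg, ← hb, ← he, MonObj.mul_comp, MonObj.mul_comp]
  conv_rhs => rw [Category.assoc, Category.assoc, hHq, MonObj.comp_one, _root_.one_mul]
  rw [Category.assoc]

end ChevThmLib

end
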