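import Groth.Agent.ChevThmLib.Descent
import Groth.Agent.ChevThmLib.Disconn
import Groth.Agent.AVAmpleLib.Complement
import Groth.Prelude

/-!
# The image of the geometric affine part
-/

set_option autoImplicit false
set_option linter.style.haveILetI false
set_option backward.isDefEq.respectTransparency false
set_option maxHeartbeats 1600000

universe u

open CategoryTheory CategoryTheory.Limits MonoidalCategory CartesianMonoidalCategory AlgebraicGeometry TopologicalSpace
open scoped MonObj
open AVAmpleLib (bcF bcPt imgPt)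

noncomputable section

namespace ChevThmLib

attribute [-instance] CategoryTheory.Hom.commGroup

variable {k : Type u} [Field k]

local instance grpBcG (Ω : Type u) [Field Ω] [Algebra k Ω] (Z : Over (Spec (CommRingCat.of k))) [GrpObj Z] :
    GrpObj ((bcF Ω).obj Z) := Functor.grpObjObj

/-- The geometric affine part has a closed image over the ground field, whose geometric points are its points. -/
theorem exists_gal_closed (G : Over (Spec (CommRingCat.of k))) [GrpObj G] [Smooth G.hom] [QuasiCompact G.hom] :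
    ∃ (N : Over (Spec (CommRingCat.of (AlgebraicClosure k)))) (_ : GrpObj N) (i : N ⟶ (bcF (AlgebraicClosure k)).obj G),
      IsAffNormal i ∧
      (∃ (Qc : Over (Spec (CommRingCat.of (AlgebraicClosure k)))) (_ : GrpObj Qc)
        (qc : (bcF (AlgebraicClosure k)).obj G ⟶ Qc), IsMonHom qc ∧ Flat qc.left ∧ Surjective qc.left ∧
          AlgGrp.IsKernel i qc ∧ IsProper Qc.hom) ∧
      ∃ C : Set G.left, IsClosed C ∧ C = pullback.fst G.hom _ '' Set.range i.left ∧
        ∀ a : SGA7.pt (K := k) (AlgebraicClosure k) ⟶ G,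
          imgPt a ∈ C ↔ ∃ n, n ≫ i = AVAmpleLib.ptsMulEquiv (AlgebraicClosure k) G a := by
  classical
  let Ω := AlgebraicClosure k
  let ξ := Spec.map (CommRingCat.ofHom (algebraMap k Ω))
  let GK := (bcF Ω).obj G
  let p : GK.left ⟶ G.left := pullback.fst G.hom ξ
  haveI : IsSeparated G.hom := Groth.Agent.GrpField.isSeparated_grp (G := G)
  haveI : Smooth GK.hom := inferInstanceAs (Smooth (pullback.snd G.hom ξ))
  haveI : QuasiCompact GK.hom := inferInstanceAs (QuasiCompact (pullback.snd G.hom ξ))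
  haveI : IsSeparated GK.hom := Groth.Agent.GrpField.isSeparated_grp (G := GK)
  obtain ⟨N, _, i, hi, hmax, Qc, _, qc, hqcm, hqcf, hqcs, hqck, hQcp⟩ := exists_chevalley_any GK
  haveI := hi.hom; haveI := hi.closed; haveI := hi.smooth; haveI := hi.conn; haveI := hi.affine
  haveI : IsReduced N.left := AlgSpLib.isReduced_of_smooth N.hom
  haveI : GeometricallyIntegral N.hom := AlbLib.geometricallyIntegral_grp N
  haveI : IsIntegral N.left := GeometricallyIntegral.isIntegral_of_subsingleton N.hom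
  haveI : Mono i.left := inferInstance
  haveI : Mono i := Over.mono_of_mono_left i
  let e : (SGA7.pt (K := k) Ω ⟶ G) ≃* (𝟙_ (Over (Spec (CommRingCat.of Ω))) ⟶ GK) := AVAmpleLib.ptsMulEquiv Ω G
  have himg : ∀ a, imgPt a = p (AVAmpleLib.pt (e a)) := fun a => (AVAmpleLib.fst_bcPt a).symm
  -- invariance
  have hinv : ∀ (σ : Ω ≃ₐ[k] Ω) (n : 𝟙_ (Over (Spec (CommRingCat.of Ω))) ⟶ N),
      ∃ n', n' ≫ i = e (galPt σ ≫ e.symm (n ≫ i)) := by
    intro σ
    let g : (SGA7.pt (K := k) Ω ⟶ G) →* (SGA7.pt (K := k) Ω ⟶ G) :=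
      MonoidHom.mk' (fun a => galPt σ ≫ a) (fun a b => MonObj.comp_mul _ a b)
    have hgsurj : Function.Surjective g := fun a => ⟨galPt σ.symm ≫ a, by
      show galPt σ ≫ galPt σ.symm ≫ a = a
      rw [← Category.assoc, show galPt σ ≫ galPt σ.symm = 𝟙 (SGA7.pt (K := k) Ω) from ?_, Category.id_comp]
      apply Over.OverMorphism.ext
      show Spec.map _ ≫ Spec.map _ = 𝟙 _
      rw [← Spec.map_comp, ← Spec.map_id]
      exact congrArg Spec.map (CommRingCat.hom_ext (RingHom.ext σ.apply_symm_apply))⟩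
    let Φ := e.toMonoidHom.comp (g.comp e.symm.toMonoidHom)
    have hΦ : Function.Surjective Φ := e.surjective.comp (hgsurj.comp e.symm.surjective)
    let SN : Subgroup (𝟙_ (Over (Spec (CommRingCat.of Ω))) ⟶ GK) :=
      { carrier := {x | ∃ n : _ ⟶ N, n ≫ i = x}
        one_mem' := ⟨1, MonObj.one_comp _⟩
        mul_mem' := by
          rintro _ _ ⟨a, rfl⟩ ⟨b, rfl⟩
          exact ⟨a * b, MonObj.mul_comp _ _ _⟩
        inv_mem' := by
          rintro _ ⟨a, rfl⟩
          exact ⟨a⁻¹, GrpObj.inv_comp _ _⟩ }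
    haveI : SN.Normal := ⟨by
      rintro _ ⟨a, rfl⟩ g
      obtain ⟨b, hb⟩ := hi.normal _ g a
      exact ⟨b, hb.symm⟩⟩
    haveI : (SN.map Φ).Normal := Subgroup.Normal.map ‹_› Φ hΦ
    obtain ⟨B, _, j, hjm, hjc, hBs, hjr⟩ := DenseSubLib.exists_smooth_subgroup (SN.map Φ)
    haveI := hjm; haveI := hjc; haveI := hBs
    have hB : PtSub (SN.map Φ) j := ⟨hjr⟩
    haveI : IsReduced B.left := AlgSpLib.isReduced_of_smooth B.hom
    -- the semilinear automorphism
    let s := Spec.map (CommRingCat.ofHom (σ.symm : Ω →+* Ω))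
    haveI : IsIso s := by
      refine ⟨Spec.map (CommRingCat.ofHom (σ : Ω →+* Ω)), ?_, ?_⟩
      · rw [← Spec.map_comp, ← Spec.map_id]
        exact congrArg Spec.map (CommRingCat.hom_ext (RingHom.ext σ.symm_apply_apply))
      · rw [← Spec.map_comp, ← Spec.map_id]
        exact congrArg Spec.map (CommRingCat.hom_ext (RingHom.ext σ.apply_symm_apply))
    have hsξ : s ≫ ξ = ξ := by
      show Spec.map _ ≫ Spec.map (CommRingCat.ofHom (algebraMap k Ω)) = Spec.map (CommRingCat.ofHom (algebraMap k Ω))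
      rw [← Spec.map_comp]
      exact congrArg Spec.map (CommRingCat.hom_ext (RingHom.ext σ.symm.commutes))
    let θ : GK.left ⟶ GK.left :=
      pullback.map G.hom ξ G.hom ξ (𝟙 _) s (𝟙 _) (by simp) (by rw [hsξ, Category.comp_id])
    haveI : IsIso θ := by dsimp only [θ]; infer_instance
    have hθ : ∀ a : SGA7.pt (K := k) Ω ⟶ G, AVAmpleLib.pt (e (galPt σ ≫ a)) = θ (AVAmpleLib.pt (e a)) := by
      intro a
      have h1 : Spec.map (CommRingCat.ofHom (σ : Ω →+* Ω)) ≫ (e a).left ≫ θ = (e (galPt σ ≫ a)).left := by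
        show _ ≫ (bcPt Ω a).left ≫ θ = (bcPt Ω (galPt σ ≫ a)).left
        rw [AVAmpleLib.bcPt_left, AVAmpleLib.bcPt_left]
        apply pullback.hom_ext
        · rw [pullback.lift_fst, Category.assoc, Category.assoc, pullback.lift_fst, pullback.lift_fst_assoc,
            Category.comp_id]
          rfl
        · rw [pullback.lift_snd, Category.assoc, Category.assoc, pullback.lift_snd, pullback.lift_snd_assoc]
          refine (congrArg (Spec.map (CommRingCat.ofHom (σ : Ω →+* Ω)) ≫ ·) (Category.id_comp s)).trans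
            ((Spec.map_comp _ _).symm.trans ?_)
          exact (congrArg Spec.map (CommRingCat.hom_ext (RingHom.ext σ.apply_symm_apply))).trans (Spec.map_id _)
      show (e (galPt σ ≫ a)).left _ = _
      rw [← h1, Scheme.Hom.comp_apply, Scheme.Hom.comp_apply]
      refine congrArg (fun z => θ ((e a).left z)) ?_
      exact @Subsingleton.elim (PrimeSpectrum Ω) _ _ _
    have hrange : Set.range j.left = θ '' Set.range i.left := by
      rw [hjr]
      refine subset_antisymm (closure_minimal ?_ (θ.homeomorph.isClosed_image.2 i.left.isClosedEmbedding.isClosed_range)) ?_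
      · rintro _ ⟨x, hx, rfl⟩
        obtain ⟨_, ⟨n, rfl⟩, rfl⟩ := Subgroup.mem_map.1 hx
        refine ⟨_, ⟨n.left (IsLocalRing.closedPoint Ω), rfl⟩, ?_⟩
        show θ (AVAmpleLib.pt (n ≫ i)) = AVAmpleLib.pt (e (galPt σ ≫ e.symm (n ≫ i)))
        rw [hθ, e.apply_symm_apply]
      · rintro _ ⟨_, ⟨z, rfl⟩, rfl⟩
        refine forall_mem_of_points (isClosed_closure.preimage (i.left ≫ θ).continuous) (fun n => ?_) z
        rw [Set.mem_preimage, Scheme.Hom.comp_apply]
        refine subset_closure ⟨Φ (n ≫ i), Subgroup.mem_map.2 ⟨_, ⟨n, rfl⟩, rfl⟩, ?_⟩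
        show AVAmpleLib.pt (e (galPt σ ≫ e.symm (n ≫ i))) = _
        rw [hθ, e.apply_symm_apply]
        rfl
    haveI : IsClosedImmersion (i.left ≫ θ) := inferInstance
    obtain ⟨l, hl⟩ := AVAmpleLib.exists_lift_of_reduced (i.left ≫ θ) j.left (by
      rw [hrange, Scheme.Hom.comp_base, TopCat.coe_comp, Set.range_comp])
    haveI : IsClosedImmersion (l ≫ i.left ≫ θ) := by rw [hl]; infer_instance
    haveI : IsClosedImmersion l := IsClosedImmersion.of_comp l (i.left ≫ θ)
    haveI : IsAffine B.left := isAffine_of_isAffineHom l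
    haveI : IrreducibleSpace B.left := by
      have h1 : IsIrreducible (Set.range j.left) := by
        rw [hrange, ← Set.range_comp, ← Set.image_univ]
        exact (IrreducibleSpace.isIrreducible_univ _).image _ (θ.continuous.comp i.left.continuous).continuousOn
      haveI : IrreducibleSpace (Set.range j.left) := Subtype.irreducibleSpace h1
      exact j.left.isClosedEmbedding.isEmbedding.toHomeomorph.symm.surjective.irreducibleSpace
        j.left.isClosedEmbedding.isEmbedding.toHomeomorph.symm.continuous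
    obtain ⟨f, hf⟩ := hmax B j ⟨hjm, hjc, hBs, inferInstance, inferInstance, hB.isNormalHom⟩
    intro n
    obtain ⟨b, hb⟩ := hB.exists_lift (g := Φ (n ≫ i)) (Subgroup.mem_map.2 ⟨_, ⟨n, rfl⟩, rfl⟩)
    exact ⟨b ≫ f, by rw [Category.assoc, hf, hb]; rfl⟩
  -- the image
  let C : Set G.left := p '' Set.range i.left
  haveI : IsIntegralHom ξ := by
    rw [IsIntegralHom.SpecMap_iff]
    exact fun x => (Algebra.IsIntegral.isIntegral (R := k) x)
  haveI : IsIntegralHom p := MorphismProperty.pullback_fst _ _ inferInstance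
  have hC : IsClosed C := p.isClosedMap _ i.left.isClosedEmbedding.isClosed_range
  haveI : JacobsonSpace GK.left := LocallyOfFiniteType.jacobsonSpace GK.hom
  have key : ∀ a : SGA7.pt (K := k) Ω ⟶ G, imgPt a ∈ C ↔ ∃ n, n ≫ i = e a := by
    intro a
    refine ⟨fun h => ?_, fun ⟨n, hn⟩ => ⟨AVAmpleLib.pt (n ≫ i), ⟨n.left (IsLocalRing.closedPoint Ω), rfl⟩, by rw [hn, himg]⟩⟩
    obtain ⟨z, hz, hza⟩ := h
    have hac : IsClosed ({imgPt a} : Set G.left) := by
      rw [himg, ← Set.image_singleton]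
      exact p.isClosedMap _ (isClosed_pt _)
    have hW : IsClosed (Set.range i.left ∩ p ⁻¹' {imgPt a}) :=
      i.left.isClosedEmbedding.isClosed_range.inter (hac.preimage p.continuous)
    obtain ⟨w, ⟨hwi, hwp⟩, hwc⟩ := nonempty_inter_closedPoints
      (show (Set.range i.left ∩ p ⁻¹' {imgPt a}).Nonempty from ⟨z, hz, hza⟩) hW.isLocallyClosed
    obtain ⟨w', rfl⟩ := AVAmpleLib.exists_pt_eq w hwc
    obtain ⟨n, hn⟩ := exists_point_lift i w' hwi
    obtain ⟨σ, hσ⟩ := exists_galPt (e.symm w') a (by rw [himg, e.apply_symm_apply]; exact hwp)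
    obtain ⟨n', hn'⟩ := hinv σ n
    exact ⟨n', by rw [hn', hn, hσ]⟩
  exact ⟨N, inferInstance, i, hi, ⟨Qc, inferInstance, qc, hqcm, hqcf, hqcs, hqck, hQcp⟩, C, hC, rfl, key⟩

end ChevThmLib

end
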