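import Groth.Agent.ChevThmLib.Invariant
import Groth.Agent.AVAmpleLib.Translate
import Groth.Agent.DiagRepLib.Scheme
import Groth.Agent.SweepSix.TensorDomain
import Groth.Agent.GrpFieldLib.Comps
import Groth.Prelude

/-!
# The birational translation action of a group variety on an affine chart
-/

set_option autoImplicit false
set_option linter.style.haveILetI false
set_option backward.isDefEq.respectTransparency false
set_option maxHeartbeats 1600000

universe u

open CategoryTheory CategoryTheory.Limits MonoidalCategory CartesianMonoidalCategory AlgebraicGeometry CoactBr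
open scoped MonObj TensorProduct

noncomputable section

namespace ChevThmLib

attribute [-instance] CategoryTheory.Hom.commGroup

variable (k : Type u) [Field k]

/-- The point of `Spec k`. -/
def unitSp : 𝟙_ (Over (Spec (CommRingCat.of k))) ⟶ sp k k :=
  Over.homMk (𝟙 (Spec (CommRingCat.of k))) (by
    show 𝟙 _ ≫ Spec.map (CommRingCat.ofHom (algebraMap k k)) = 𝟙 _
    rw [Category.id_comp]
    exact Spec.map_id _)

variable {k}

theorem unitSp_left : (unitSp k).left = 𝟙 (Spec (CommRingCat.of k)) := rfl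

theorem toUnit_unitSp (C : Type u) [CommRing C] [Algebra k C] :
    toUnit (sp k C) ≫ unitSp k = pt (Algebra.ofId k C) := by
  obtain ⟨φ, hφ⟩ := Groth.Agent.DiagRep.exists_pt (toUnit (sp k C) ≫ unitSp k)
  rw [hφ, show φ = Algebra.ofId k C from AlgHom.ext fun a => by simpa using φ.commutes a]

variable {G : Over (Spec (CommRingCat.of k))}

/-- An affine chart of a scheme. -/
structure Chart (G : Over (Spec (CommRingCat.of k))) (B : Type u) [CommRing B] [Algebra k B] where
  j : sp k B ⟶ G
  open_j : IsOpenImmersion j.left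

namespace Chart

variable {B : Type u} [CommRing B] [Algebra k B] (j : Chart G B)

instance : IsOpenImmersion j.j.left := j.open_j

instance : Mono j.j := Over.mono_of_mono_left _

/-- The open of a chart. -/
def opens : G.left.Opens := j.j.left.opensRange

theorem exists_lift {C : Type u} [CommRing C] [Algebra k C] (f : sp k C ⟶ G)
    (h : Set.range f.left ⊆ j.opens) : ∃ φ : B →ₐ[k] C, f = pt φ ≫ j.j := by
  let l₀ := IsOpenImmersion.lift j.j.left f.left h
  have hl₀ : l₀ ≫ j.j.left = f.left := IsOpenImmersion.lift_fac _ _ _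
  let l : sp k C ⟶ sp k B := Over.homMk l₀ (by
    refine Eq.trans ?_ (Over.w f)
    rw [← hl₀]
    exact (congrArg (l₀ ≫ ·) (Over.w j.j)).symm.trans (Category.assoc _ _ _).symm)
  obtain ⟨φ, hφ⟩ := Groth.Agent.DiagRep.exists_pt l
  exact ⟨φ, hφ ▸ Over.OverMorphism.ext hl₀.symm⟩

/-- The rational point with given coordinates. -/
def point (h : B →ₐ[k] k) : 𝟙_ (Over (Spec (CommRingCat.of k))) ⟶ G := unitSp k ≫ pt h ≫ j.j

theorem toUnit_point (C : Type u) [CommRing C] [Algebra k C] (h : B →ₐ[k] k) :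
    toUnit (sp k C) ≫ j.point h = pt ((Algebra.ofId k C).comp h) ≫ j.j := by
  rw [point, ← Category.assoc, toUnit_unitSp, pt_comp, Category.assoc]

theorem point_injective : Function.Injective j.point := by
  intro h h' e
  apply pt_injective
  rw [← cancel_mono j.j]
  have h2 := congrArg (toUnit (sp k k) ≫ ·) e
  simp only [toUnit_point] at h2
  rwa [show Algebra.ofId k k = AlgHom.id k k from AlgHom.ext fun _ => rfl, AlgHom.id_comp, AlgHom.id_comp] at h2

end Chart

variable {B : Type u} [CommRing B] [Algebra k B]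

/-- A point over a subset of a basic open extends. -/
theorem exists_away {C : Type u} [CommRing C] [Algebra k C] (j : Chart G B) (f : sp k C ⟶ G) (P : PrimeSpectrum C)
    (h : f.left P ∈ j.opens) : ∃ (s : C) (φ : B →ₐ[k] Localization.Away s), s ∉ P.asIdeal ∧
      pt (IsScalarTower.toAlgHom k C (Localization.Away s)) ≫ f = pt φ ≫ j.j := by
  obtain ⟨_, ⟨s, rfl⟩, hs, hsub⟩ := PrimeSpectrum.isTopologicalBasis_basic_opens.exists_subset_of_mem_open
    (show P ∈ f.left ⁻¹' (j.opens : Set G.left) from h) ((f.left ⁻¹ᵁ j.opens).2)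
  obtain ⟨φ, hφ⟩ := j.exists_lift (pt (IsScalarTower.toAlgHom k C (Localization.Away s)) ≫ f) (by
    rintro _ ⟨Q, rfl⟩
    rw [Over.comp_left, Scheme.Hom.comp_apply]
    refine hsub ?_
    show (PrimeSpectrum.comap (algebraMap C (Localization.Away s)) Q) ∈ PrimeSpectrum.basicOpen s
    exact fun hsQ => Q.2.ne_top (Ideal.eq_top_of_isUnit_mem _ hsQ (IsLocalization.Away.algebraMap_isUnit s)))
  exact ⟨s, φ, hs, hφ⟩

variable [GrpObj G] [IsAlgClosed k] [IsDomain B] (j : Chart G B)

/-- The generic point. -/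
def gen (K : Type u) [Field K] [Algebra k K] [Algebra B K] [IsScalarTower k B K] : sp k K ⟶ G :=
  pt (IsScalarTower.toAlgHom k B K) ≫ j.j

variable (K : Type u) [Field K] [Algebra k K] [Algebra B K] [IsScalarTower k B K] [IsFractionRing B K]

theorem gen_mem [IrreducibleSpace G.left] (p : PrimeSpectrum K) {U : G.left.Opens}
    (hU : (U : Set G.left).Nonempty) : (gen j K).left p ∈ U := by
  haveI : Nonempty (sp k B).left := inferInstanceAs (Nonempty (PrimeSpectrum B))
  obtain ⟨x, hx1, hx2⟩ := nonempty_preirreducible_inter U.2 j.opens.2 hU ⟨_, Classical.arbitrary _, rfl⟩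
  obtain ⟨P, rfl⟩ := hx2
  have hsp : (show PrimeSpectrum B from PrimeSpectrum.comap (algebraMap B K) p) ⤳ (show PrimeSpectrum B from P) := by
    rw [← PrimeSpectrum.le_iff_specializes]
    intro b hb
    have hb' : algebraMap B K b ∈ p.asIdeal := hb
    rw [(Ideal.eq_bot_or_top p.asIdeal).resolve_right p.2.ne_top, Ideal.mem_bot,
      map_eq_zero_iff _ (IsFractionRing.injective B K)] at hb'
    rw [hb']
    exact zero_mem _
  exact (hsp.map j.j.left.continuous).mem_open U.2 hx1

theorem eq_of_gen {σ τ : K →ₐ[k] K} (h : pt σ ≫ gen j K = pt τ ≫ gen j K) : σ = τ := by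
  rw [gen, ← Category.assoc, ← Category.assoc, ← pt_comp, ← pt_comp] at h
  have h' := pt_injective ((cancel_mono j.j).1 h)
  exact IsLocalization.algHom_ext (nonZeroDivisors B) h'

/-- The translate of the generic point is given by an embedding of the function field. -/
theorem exists_translate [IrreducibleSpace G.left] (gam : 𝟙_ (Over (Spec (CommRingCat.of k))) ⟶ G) :
    ∃ σ : K →ₐ[k] K, pt σ ≫ gen j K = (toUnit (sp k K) ≫ gam) * gen j K := by
  have e : (toUnit (sp k K) ≫ gam) * gen j K = gen j K ≫ AVAmpleLib.tL gam := by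
    rw [MonObj.comp_mul, Category.comp_id, ← Category.assoc, toUnit_unique (gen j K ≫ toUnit G) (toUnit _)]
  have hmem : ∀ (U : G.left.Opens), (U : Set G.left).Nonempty → ∀ p, ((toUnit (sp k K) ≫ gam) * gen j K).left p ∈ U := by
    intro U hU p
    rw [e, Over.comp_left, Scheme.Hom.comp_apply]
    exact gen_mem j K p (U := (AVAmpleLib.tL gam).left ⁻¹ᵁ U) (by
      obtain ⟨u, hu⟩ := hU
      refine ⟨(inv (AVAmpleLib.tL gam)).left u, ?_⟩
      show (AVAmpleLib.tL gam).left ((inv (AVAmpleLib.tL gam)).left u) ∈ U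
      rw [← Scheme.Hom.comp_apply, ← Over.comp_left, IsIso.inv_hom_id]
      exact hu)
  haveI : Nonempty (sp k B).left := inferInstanceAs (Nonempty (PrimeSpectrum B))
  obtain ⟨φ, hφ⟩ := j.exists_lift ((toUnit (sp k K) ≫ gam) * gen j K) (by
    rintro _ ⟨p, rfl⟩
    exact hmem j.opens ⟨_, Classical.arbitrary _, rfl⟩ p)
  have hinj : Function.Injective φ := by
    refine (injective_iff_map_eq_zero φ).2 fun b hb => ?_
    by_contra hb0
    let p0 : PrimeSpectrum K := ⊥
    have hgen : (pt φ).left p0 ∈ PrimeSpectrum.basicOpen b := by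
      have := hmem (j.j.left ''ᵁ (PrimeSpectrum.basicOpen b : (sp k B).left.Opens)) (by
        obtain ⟨P, hP⟩ : ∃ P : PrimeSpectrum B, P ∈ PrimeSpectrum.basicOpen b :=
          ⟨⊥, fun h => hb0 ((Ideal.mem_bot).1 h)⟩
        exact ⟨_, ⟨P, hP, rfl⟩⟩) p0
      rw [hφ, Over.comp_left, Scheme.Hom.comp_apply] at this
      obtain ⟨P, hP, hPe⟩ := this
      rwa [← j.j.left.isOpenEmbedding.injective hPe]
    exact hgen (show φ b ∈ p0.asIdeal by rw [hb]; exact zero_mem _)
  refine ⟨IsFractionRing.liftAlgHom (g := φ) hinj, ?_⟩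
  rw [hφ, gen, ← Category.assoc, ← pt_comp]
  refine congrArg (pt · ≫ j.j) (AlgHom.ext fun b => ?_)
  exact IsFractionRing.lift_algebraMap hinj b

/-- The translation of the function field. -/
def act [IrreducibleSpace G.left] (gam : 𝟙_ (Over (Spec (CommRingCat.of k))) ⟶ G) : K →ₐ[k] K :=
  (exists_translate j K gam).choose

theorem act_spec [IrreducibleSpace G.left] (gam : 𝟙_ (Over (Spec (CommRingCat.of k))) ⟶ G) :
    pt (act j K gam) ≫ gen j K = (toUnit (sp k K) ≫ gam) * gen j K :=
  (exists_translate j K gam).choose_spec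

theorem act_one [IrreducibleSpace G.left] : act j K 1 = AlgHom.id k K := by
  apply eq_of_gen j K
  rw [act_spec, MonObj.comp_one, _root_.one_mul, pt_id, Category.id_comp]

theorem act_mul [IrreducibleSpace G.left] (g h : 𝟙_ (Over (Spec (CommRingCat.of k))) ⟶ G) :
    act j K (g * h) = (act j K h).comp (act j K g) := by
  apply eq_of_gen j K
  rw [act_spec, pt_comp, Category.assoc, act_spec, MonObj.comp_mul (pt (act j K h)), act_spec, ← Category.assoc,
    toUnit_unique (pt (act j K h) ≫ toUnit _) (toUnit _), MonObj.comp_mul (toUnit _) g h, _root_.mul_assoc]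

theorem act_injective [IrreducibleSpace G.left] [LocallyOfFiniteType G.hom] : Function.Injective (act j K) := by
  intro g h e
  have e2 := act_spec j K g
  rw [e, act_spec] at e2
  have e3 : toUnit (sp k K) ≫ h = toUnit (sp k K) ≫ g := mul_right_cancel e2
  haveI : Epi (pt (Algebra.ofId k K) : sp k K ⟶ sp k k).left := by
    haveI : Surjective (pt (Algebra.ofId k K) : sp k K ⟶ sp k k).left :=
      ⟨fun p => ⟨(⊥ : PrimeSpectrum K), @Subsingleton.elim (PrimeSpectrum k) _ _ _⟩⟩
    haveI : Flat (pt (Algebra.ofId k K) : sp k K ⟶ sp k k).left := by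
      show Flat (Spec.map (CommRingCat.ofHom (algebraMap k K)))
      exact (HasRingHomProperty.Spec_iff (P := @Flat)).2 (RingHom.flat_algebraMap_iff.2 inferInstance)
    haveI : QuasiCompact (pt (Algebra.ofId k K) : sp k K ⟶ sp k k).left :=
      inferInstanceAs (QuasiCompact (Spec.map _))
    exact Flat.epi_of_flat_of_surjective _
  have e4 : ∀ gam : 𝟙_ (Over (Spec (CommRingCat.of k))) ⟶ G,
      toUnit (sp k K) ≫ gam = pt (Algebra.ofId k K) ≫ toUnit (sp k k) ≫ gam := fun gam => by
    rw [← Category.assoc, toUnit_unique (pt (Algebra.ofId k K) ≫ toUnit _) (toUnit _)]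
  rw [e4, e4] at e3
  have e5 := congrArg CommaMorphism.left e3
  simp only [Over.comp_left] at e5
  have e6 := (cancel_epi (pt (Algebra.ofId k K) : sp k K ⟶ sp k k).left).1 e5
  have e7 : toUnit (sp k k) ≫ h = toUnit (sp k k) ≫ g := Over.OverMorphism.ext (by simpa only [Over.comp_left] using e6)
  have e8 := congrArg (unitSp k ≫ ·) e7
  simp only [← Category.assoc] at e8
  rw [toUnit_unique (unitSp k ≫ toUnit (sp k k)) (𝟙 _), Category.id_comp, Category.id_comp] at e8
  exact e8.symm

/-- A nonempty open of a chart has a rational point. -/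
theorem exists_point_mem [Algebra.FiniteType k B] {U : G.left.Opens} (h : ∃ P : PrimeSpectrum B, j.j.left P ∈ U) :
    ∃ x : B →ₐ[k] k, (pt x ≫ j.j).left (IsLocalRing.closedPoint k) ∈ U := by
  obtain ⟨P, hP⟩ := h
  obtain ⟨_, ⟨s, rfl⟩, hs, hsub⟩ := PrimeSpectrum.isTopologicalBasis_basic_opens.exists_subset_of_mem_open
    (show P ∈ j.j.left ⁻¹' (U : Set G.left) from hP) ((j.j.left ⁻¹ᵁ U).2)
  obtain ⟨x, hx⟩ := exists_point (k := k) (b := s) fun h0 => hs (by rw [h0]; exact zero_mem _)
  refine ⟨x, ?_⟩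
  rw [Over.comp_left, Scheme.Hom.comp_apply]
  refine hsub ?_
  intro hxs
  refine hx ?_
  have h2 : x s ∈ IsLocalRing.maximalIdeal k := hxs
  rwa [IsLocalRing.maximalIdeal_eq_bot, Ideal.mem_bot] at h2

theorem point_left (x : B →ₐ[k] k) (p : (𝟙_ (Over (Spec (CommRingCat.of k)))).left) :
    (j.point x).left p = (pt x ≫ j.j).left (IsLocalRing.closedPoint k) := by
  rw [Chart.point, Over.comp_left, Scheme.Hom.comp_apply]
  exact congrArg _ (@Subsingleton.elim (PrimeSpectrum k) _ _ _)

variable (L : Type u) [Field L] [Algebra (B ⊗[k] K) L] [Algebra k L] [IsScalarTower k (B ⊗[k] K) L]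
  [IsFractionRing (B ⊗[k] K) L] [IsDomain (B ⊗[k] K)]

/-- The multiplication of the tautological point with the generic point. -/
def taut : sp k (B ⊗[k] K) ⟶ G :=
  (pt Algebra.TensorProduct.includeLeft ≫ j.j) * (pt Algebra.TensorProduct.includeRight ≫ gen j K)

theorem ev_taut [IrreducibleSpace G.left] (h : B →ₐ[k] k) :
    pt (ev (C := K) h) ≫ taut j K = pt (act j K (j.point h)) ≫ gen j K := by
  rw [taut, MonObj.comp_mul, ← Category.assoc, ← pt_comp, ← Category.assoc, ← pt_comp, act_spec,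
    Chart.toUnit_point,
    show (ev (C := K) h).comp Algebra.TensorProduct.includeLeft = (Algebra.ofId k K).comp h from
      AlgHom.ext fun b => by simp [Algebra.algebraMap_eq_smul_one, Algebra.ofId_apply],
    show (ev (C := K) h).comp Algebra.TensorProduct.includeRight = AlgHom.id k K from
      AlgHom.ext fun c => by simp,
    pt_id, Category.id_comp]

theorem taut_mem [IrreducibleSpace G.left] (h : B →ₐ[k] k) {U : G.left.Opens} (hU : (U : Set G.left).Nonempty)
    (p : PrimeSpectrum K) : (taut j K).left (PrimeSpectrum.comap (ev (C := K) h).toRingHom p) ∈ U := by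
  have e := congrArg (fun f => f.left p) (ev_taut j K h)
  simp only [Over.comp_left, Scheme.Hom.comp_apply] at e
  show (taut j K).left ((pt (ev (C := K) h)).left p) ∈ U
  rw [e]
  exact gen_mem j K _ hU

theorem exists_mu [IrreducibleSpace G.left] [Algebra.FiniteType k B] :
    ∃ mu : K →ₐ[k] L, pt mu ≫ gen j K = pt (IsScalarTower.toAlgHom k (B ⊗[k] K) L) ≫ taut j K := by
  obtain ⟨h, -⟩ := exists_point (k := k) (B := B) one_ne_zero
  let ρ := pt (IsScalarTower.toAlgHom k (B ⊗[k] K) L) ≫ taut j K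
  have hmem : ∀ (U : G.left.Opens), (U : Set G.left).Nonempty → ∀ p, ρ.left p ∈ U := by
    intro U hU p
    have hsp : PrimeSpectrum.comap (algebraMap (B ⊗[k] K) L) p ⤳
        PrimeSpectrum.comap (ev (C := K) h).toRingHom (⊥ : PrimeSpectrum K) := by
      rw [← PrimeSpectrum.le_iff_specializes]
      intro b hb
      have hb' : algebraMap (B ⊗[k] K) L b ∈ p.asIdeal := hb
      rw [(Ideal.eq_bot_or_top p.asIdeal).resolve_right p.2.ne_top, Ideal.mem_bot,
        map_eq_zero_iff _ (IsFractionRing.injective (B ⊗[k] K) L)] at hb'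
      rw [hb']
      exact zero_mem _
    exact (hsp.map (taut j K).left.continuous).mem_open U.2 (taut_mem j K h hU _)
  haveI : Nonempty (sp k B).left := inferInstanceAs (Nonempty (PrimeSpectrum B))
  obtain ⟨φ, hφ⟩ := j.exists_lift ρ (by
    rintro _ ⟨p, rfl⟩
    exact hmem j.opens ⟨_, Classical.arbitrary _, rfl⟩ p)
  have hinj : Function.Injective φ := by
    refine (injective_iff_map_eq_zero φ).2 fun b hb => ?_
    by_contra hb0
    let p0 : PrimeSpectrum L := ⊥
    have hgen : (pt φ).left p0 ∈ PrimeSpectrum.basicOpen b := by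
      have := hmem (j.j.left ''ᵁ (PrimeSpectrum.basicOpen b : (sp k B).left.Opens))
        ⟨_, ⟨(⊥ : PrimeSpectrum B), fun h => hb0 ((Ideal.mem_bot).1 h), rfl⟩⟩ p0
      rw [hφ, Over.comp_left, Scheme.Hom.comp_apply] at this
      obtain ⟨P, hP, hPe⟩ := this
      rwa [← j.j.left.isOpenEmbedding.injective hPe]
    exact hgen (show φ b ∈ p0.asIdeal by rw [hb]; exact zero_mem _)
  refine ⟨IsFractionRing.liftAlgHom (g := φ) hinj, ?_⟩
  show _ = ρ
  rw [hφ, gen, ← Category.assoc, ← pt_comp]
  refine congrArg (pt · ≫ j.j) (AlgHom.ext fun b => ?_)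
  exact IsFractionRing.lift_algebraMap hinj b

theorem mu_ev [IrreducibleSpace G.left] {mu : K →ₐ[k] L}
    (hmu : pt mu ≫ gen j K = pt (IsScalarTower.toAlgHom k (B ⊗[k] K) L) ≫ taut j K) (f : K) (h : B →ₐ[k] k) :
    ∃ P Q : B ⊗[k] K, ev h Q ≠ 0 ∧ mu f * algebraMap _ L Q = algebraMap _ L P ∧
      act j K (j.point h) f * ev h Q = ev h P := by
  haveI : Nonempty (sp k B).left := inferInstanceAs (Nonempty (PrimeSpectrum B))
  let P₀ : PrimeSpectrum (B ⊗[k] K) := PrimeSpectrum.comap (ev (C := K) h).toRingHom ⊥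
  obtain ⟨s, φ, hs, hφ⟩ := exists_away j (taut j K) P₀ (taut_mem j K h (U := j.opens) ⟨_, Classical.arbitrary _, rfl⟩ _)
  have hev : ev (C := K) h s ≠ 0 := fun h0 => hs (show ev (C := K) h s ∈ (⊥ : Ideal K) by rw [h0]; exact zero_mem _)
  have hsL : algebraMap (B ⊗[k] K) L s ≠ 0 := fun h0 => hev (by
    rw [(map_eq_zero_iff _ (IsFractionRing.injective (B ⊗[k] K) L)).1 h0, map_zero])
  let eL : Localization.Away s →ₐ[k] L :=
    IsLocalization.liftAlgHom (M := Submonoid.powers s) (f := IsScalarTower.toAlgHom k (B ⊗[k] K) L) fun y => by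
      obtain ⟨_, n, rfl⟩ := y
      rw [map_pow]
      exact (isUnit_iff_ne_zero.2 hsL).pow n
  let eK : Localization.Away s →ₐ[k] K :=
    IsLocalization.liftAlgHom (M := Submonoid.powers s) (f := ev (C := K) h) fun y => by
      obtain ⟨_, n, rfl⟩ := y
      rw [map_pow]
      exact (isUnit_iff_ne_zero.2 hev).pow n
  have hL : eL.comp φ = mu.comp (IsScalarTower.toAlgHom k B K) := by
    apply pt_injective
    rw [← cancel_mono j.j, pt_comp, pt_comp, Category.assoc, Category.assoc]
    show pt eL ≫ pt φ ≫ j.j = pt mu ≫ gen j K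
    rw [hmu, ← hφ, ← Category.assoc, ← pt_comp]
    congr 2
    exact AlgHom.ext fun x => IsLocalization.lift_eq _ _
  have hK : eK.comp φ = (act j K (j.point h)).comp (IsScalarTower.toAlgHom k B K) := by
    apply pt_injective
    rw [← cancel_mono j.j, pt_comp, pt_comp, Category.assoc, Category.assoc]
    show pt eK ≫ pt φ ≫ j.j = pt (act j K (j.point h)) ≫ gen j K
    rw [← ev_taut, ← hφ, ← Category.assoc, ← pt_comp]
    congr 2
    exact AlgHom.ext fun x => IsLocalization.lift_eq _ _
  have hB : ∀ b : B, ∃ P Q : B ⊗[k] K, ev h Q ≠ 0 ∧ mu (algebraMap B K b) * algebraMap _ L Q = algebraMap _ L P ∧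
      act j K (j.point h) (algebraMap B K b) * ev h Q = ev h P := by
    intro b
    obtain ⟨P, ⟨_, n, rfl⟩, e⟩ := IsLocalization.exists_mk'_eq (Submonoid.powers s) (φ b)
    refine ⟨P, s ^ n, by rw [map_pow]; exact pow_ne_zero n hev, ?_, ?_⟩
    · rw [show mu (algebraMap B K b) = eL (φ b) from (AlgHom.congr_fun hL b).symm, ← e]
      exact ((congrArg (eL _ * ·) (IsLocalization.lift_eq _ _).symm).trans (map_mul eL _ _).symm).trans
        ((congrArg eL (IsLocalization.mk'_spec _ P (⟨s ^ n, ⟨n, rfl⟩⟩ : Submonoid.powers s))).trans (IsLocalization.lift_eq _ _))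
    · rw [show act j K (j.point h) (algebraMap B K b) = eK (φ b) from (AlgHom.congr_fun hK b).symm, ← e]
      exact ((congrArg (eK _ * ·) (IsLocalization.lift_eq _ _).symm).trans (map_mul eK _ _).symm).trans
        ((congrArg eK (IsLocalization.mk'_spec _ P (⟨s ^ n, ⟨n, rfl⟩⟩ : Submonoid.powers s))).trans (IsLocalization.lift_eq _ _))
  obtain ⟨a, c, hc, rfl⟩ := IsFractionRing.div_surjective (A := B) f
  obtain ⟨Pa, Qa, hQa, hma, haa⟩ := hB a
  obtain ⟨Pc, Qc, hQc, hmc, hac⟩ := hB c
  have hc0 : algebraMap B K c ≠ 0 := IsLocalization.to_map_ne_zero_of_mem_nonZeroDivisors K le_rfl hc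
  have hPc : ev h Pc ≠ 0 := by
    rw [← hac]
    exact mul_ne_zero ((map_ne_zero_iff _ (RingHom.injective _)).2 hc0) hQc
  refine ⟨Pa * Qc, Qa * Pc, by rw [map_mul]; exact mul_ne_zero hQa hPc, ?_, ?_⟩
  · rw [map_div₀, map_mul, map_mul, ← hma, ← hmc]
    field_simp [(map_ne_zero_iff mu (RingHom.injective mu.toRingHom)).2 hc0]
  · rw [map_div₀, map_mul, map_mul, ← haa, ← hac]
    field_simp [(map_ne_zero_iff (act j K (j.point h)) (RingHom.injective (act j K (j.point h)).toRingHom)).2 hc0]

/-- Translations are given locally by regular functions on the chart. -/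
theorem trans_local (gam : 𝟙_ (Over (Spec (CommRingCat.of k))) ⟶ G) (h h' : B →ₐ[k] k)
    (e : j.point h' = gam * j.point h) : ∃ s : B, h s ≠ 0 ∧ ∀ β : B, ∃ (u : B) (n : ℕ),
      ∀ g : B →ₐ[k] k, g s ≠ 0 → ∃ g', j.point g' = gam * j.point g ∧ g' β * g s ^ n = g u := by
  have hP : (j.j ≫ AVAmpleLib.tL gam).left ((pt h).left (IsLocalRing.closedPoint k)) ∈ j.opens := by
    have hl : unitSp k ≫ pt h ≫ j.j ≫ AVAmpleLib.tL gam = j.point h' := by
      rw [e, ← AVAmpleLib.point_tL, Chart.point]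
      simp only [Category.assoc]
    have h2 := congrArg (fun f => f.left (IsLocalRing.closedPoint k)) hl
    simp only [point_left j] at h2
    simp only [Over.comp_left, Scheme.Hom.comp_apply] at h2 ⊢
    exact ⟨_, h2.symm⟩
  obtain ⟨s, φ, hs, hφ⟩ := exists_away j (j.j ≫ AVAmpleLib.tL gam) _ hP
  refine ⟨s, fun h0 => hs (show h s ∈ IsLocalRing.maximalIdeal k by rw [h0]; exact zero_mem _), fun β => ?_⟩
  obtain ⟨u, ⟨_, n, rfl⟩, hu⟩ := IsLocalization.exists_mk'_eq (Submonoid.powers s) (φ β)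
  refine ⟨u, n, fun g hg => ?_⟩
  let gs : Localization.Away s →ₐ[k] k :=
    IsLocalization.liftAlgHom (M := Submonoid.powers s) (f := g) fun y => by
      obtain ⟨_, m, rfl⟩ := y
      rw [map_pow]
      exact (isUnit_iff_ne_zero.2 hg).pow m
  refine ⟨gs.comp φ, ?_, ?_⟩
  · rw [← AVAmpleLib.point_tL, Chart.point, Chart.point, pt_comp, Category.assoc, ← hφ, ← Category.assoc (pt gs),
      ← pt_comp, show gs.comp (IsScalarTower.toAlgHom k B (Localization.Away s)) = g from
        AlgHom.ext fun x => IsLocalization.lift_eq _ _]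
    simp only [Category.assoc]
  · rw [AlgHom.comp_apply, ← hu,
      show g s ^ n = gs (algebraMap B _ (s ^ n)) from (map_pow g s n).symm.trans (IsLocalization.lift_eq _ _).symm,
      ← map_mul, IsLocalization.mk'_spec]
    exact IsLocalization.lift_eq _ _

/-- Translations meet every open of the chart. -/
theorem trans_dense [IrreducibleSpace G.left] [Algebra.FiniteType k B] (gam : 𝟙_ (Over (Spec (CommRingCat.of k))) ⟶ G)
    {b : B} (hb : b ≠ 0) : ∃ h h', j.point h' = gam * j.point h ∧ h' b ≠ 0 := by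
  haveI : Nonempty (sp k B).left := inferInstanceAs (Nonempty (PrimeSpectrum B))
  let U : G.left.Opens := j.j.left ''ᵁ (PrimeSpectrum.basicOpen b : (sp k B).left.Opens)
  have hne : (((AVAmpleLib.tL gam).left ⁻¹ᵁ U : G.left.Opens) : Set G.left).Nonempty :=
    AVAmpleLib.preimage_nonempty (AVAmpleLib.tL gam)
      ⟨_, ⟨(⊥ : PrimeSpectrum B), fun h => hb ((Ideal.mem_bot).1 h), rfl⟩⟩
  obtain ⟨x, hx1, hx2⟩ := nonempty_preirreducible_inter ((AVAmpleLib.tL gam).left ⁻¹ᵁ U).2 j.opens.2 hne
    ⟨_, Classical.arbitrary _, rfl⟩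
  obtain ⟨P, rfl⟩ := hx2
  obtain ⟨h, hh⟩ := exists_point_mem j (U := (AVAmpleLib.tL gam).left ⁻¹ᵁ U) ⟨P, hx1⟩
  have hU : ∀ p, (gam * j.point h).left p ∈ U := fun p => by
    rw [← AVAmpleLib.point_tL, Over.comp_left, Scheme.Hom.comp_apply, point_left]
    exact hh
  obtain ⟨h', he⟩ := j.exists_lift (toUnit (sp k k) ≫ (gam * j.point h)) (by
    rintro _ ⟨p, rfl⟩
    rw [Over.comp_left, Scheme.Hom.comp_apply]
    obtain ⟨Q, -, hQ⟩ := hU ((toUnit (sp k k)).left p)
    exact ⟨Q, hQ⟩)
  have he2 : j.point h' = gam * j.point h := by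
    rw [Chart.point, ← he, ← Category.assoc, toUnit_unique (unitSp k ≫ toUnit _) (𝟙 _), Category.id_comp]
  refine ⟨h, h', he2, fun h0 => ?_⟩
  obtain ⟨Q, hQ, hQe⟩ := hU (IsLocalRing.closedPoint k)
  rw [← he2, point_left, Over.comp_left, Scheme.Hom.comp_apply] at hQe
  rw [j.j.left.isOpenEmbedding.injective hQe] at hQ
  exact hQ (show h' b ∈ IsLocalRing.maximalIdeal k by rw [h0]; exact zero_mem _)

variable (G) in
/-- An affine chart at the unit stable under inversion. -/
theorem exists_chart [IsIntegral G.left] [LocallyOfFiniteType G.hom] :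
    ∃ (B : Type u) (_ : CommRing B) (_ : Algebra k B) (_ : IsDomain B) (_ : Algebra.FiniteType k B)
      (j : Chart G B) (inv : B →ₐ[k] B), (∃ h₀, j.point h₀ = 1) ∧
        ∀ h, j.point (h.comp inv) = (j.point h)⁻¹ := by
  obtain ⟨U, hU, heU, -⟩ := exists_isAffineOpen_mem_and_subset (X := G.left)
    (x := (1 : 𝟙_ (Over (Spec (CommRingCat.of k))) ⟶ G).left (IsLocalRing.closedPoint k)) (U := ⊤) trivial
  let i : G ⟶ G := (𝟙 G)⁻¹
  have hii : i ≫ i = 𝟙 G := AVAmpleLib.inv_inv_id
  haveI : IsIso i := ⟨i, hii, hii⟩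
  haveI : IsIso i.left := inferInstanceAs (IsIso ((Over.forget _).map i))
  haveI : IsSeparated G.hom := Groth.Agent.GrpField.isSeparated_grp (G := G)
  haveI : G.left.IsSeparated := (Scheme.isSeparated_iff _).2 (by
    rw [← terminal.comp_from G.hom]; infer_instance)
  let V : G.left.Opens := U ⊓ i.left ⁻¹ᵁ U
  have hV : IsAffineOpen V := hU.inf (hU.preimage_of_isIso i.left)
  have hinv1 : (1 : 𝟙_ (Over (Spec (CommRingCat.of k))) ⟶ G) ≫ i = 1 := by
    rw [GrpObj.comp_inv, Category.comp_id, inv_one]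
  have heV : (1 : 𝟙_ (Over (Spec (CommRingCat.of k))) ⟶ G).left (IsLocalRing.closedPoint k) ∈ V :=
    ⟨heU, by
      show i.left _ ∈ U
      rw [← Scheme.Hom.comp_apply, ← Over.comp_left, hinv1]
      exact heU⟩
  let B : Type u := Γ(G.left, V)
  haveI : Nonempty V.toScheme := ⟨⟨_, heV⟩⟩
  haveI : IsDomain B := inferInstanceAs (IsDomain Γ(G.left, V))
  obtain ⟨c, hc⟩ := Spec.map_surjective (hV.fromSpec ≫ G.hom)
  letI : Algebra k B := c.hom.toAlgebra
  let jB : sp k B ⟶ G := Over.homMk hV.fromSpec (by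
    show hV.fromSpec ≫ G.hom = Spec.map (CommRingCat.ofHom c.hom)
    rw [← hc]
    rfl)
  let j : Chart G B := ⟨jB, inferInstanceAs (IsOpenImmersion hV.fromSpec)⟩
  haveI : Algebra.FiniteType k B := by
    haveI : LocallyOfFiniteType (Spec.map c) := by rw [hc]; infer_instance
    exact (HasRingHomProperty.Spec_iff (P := @LocallyOfFiniteType)).1 this
  have hopens : j.opens = V := TopologicalSpace.Opens.ext (hV.range_fromSpec)
  obtain ⟨φ, hφ⟩ := j.exists_lift (j.j ≫ i) (by
    rintro _ ⟨p, rfl⟩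
    rw [Over.comp_left, Scheme.Hom.comp_apply, hopens]
    have hp : j.j.left p ∈ V := (le_of_eq hopens) ⟨p, rfl⟩
    refine ⟨hp.2, ?_⟩
    show i.left (i.left _) ∈ U
    rw [← Scheme.Hom.comp_apply, ← Over.comp_left, hii]
    exact hp.1)
  refine ⟨B, inferInstance, inferInstance, inferInstance, inferInstance, j, φ, ?_, fun h => ?_⟩
  · obtain ⟨h₀, he⟩ := j.exists_lift (toUnit (sp k k) ≫ (1 : 𝟙_ (Over (Spec (CommRingCat.of k))) ⟶ G)) (by
      rintro _ ⟨p, rfl⟩
      rw [Over.comp_left, Scheme.Hom.comp_apply, hopens,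
        show (toUnit (sp k k)).left p = IsLocalRing.closedPoint k from @Subsingleton.elim (PrimeSpectrum k) _ _ _]
      exact heV)
    refine ⟨h₀, ?_⟩
    rw [Chart.point, ← he, ← Category.assoc, toUnit_unique (unitSp k ≫ toUnit _) (𝟙 _), Category.id_comp]
  · rw [Chart.point, pt_comp, Category.assoc, ← hφ, Chart.point, ← Category.assoc (pt h), ← Category.assoc,
      GrpObj.comp_inv, Category.comp_id]

/-- The birational action attached to a chart. -/
theorem exists_bir [IrreducibleSpace G.left] [LocallyOfFiniteType G.hom] [Algebra.FiniteType k B] (inv : B →ₐ[k] B)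
    (hinv : ∀ h, j.point (h.comp inv) = (j.point h)⁻¹) :
    ∃ S : Bir k B K L (𝟙_ (Over (Spec (CommRingCat.of k))) ⟶ G), S.ι = j.point ∧ S.act = act j K := by
  obtain ⟨mu, hmu⟩ := exists_mu j K L
  exact ⟨⟨j.point, j.point_injective, act j K, act_one j K, act_mul j K, act_injective j K, mu, mu_ev j K L hmu,
    inv, hinv, fun gam h h' e => trans_local j gam h h' e, fun gam b hb => trans_dense j gam hb⟩, rfl, rfl⟩

end ChevThmLib

end
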