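import Groth.Agent.ChevThmLib.Eval

/-!
# The valuation ring invariant under a birational translation action
-/

set_option autoImplicit false
set_option linter.style.haveILetI false

universe u

open TensorProduct

noncomputable section

namespace ChevThmLib

variable (k B K L Γ : Type u) [Field k] [CommRing B] [Algebra k B] [Field K] [Algebra k K] [Field L]
  [Algebra (B ⊗[k] K) L] [Algebra k L] [Group Γ]

/-- A group acting birationally, with the points of an affine chart. -/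
structure Bir where
  ι : (B →ₐ[k] k) → Γ
  ι_inj : Function.Injective ι
  act : Γ → (K →ₐ[k] K)
  act_one : act 1 = AlgHom.id k K
  act_mul : ∀ g h : Γ, act (g * h) = (act h).comp (act g)
  act_inj : Function.Injective act
  μ : K →ₐ[k] L
  μ_ev : ∀ (f : K) (h : B →ₐ[k] k), ∃ P Q : B ⊗[k] K, ev h Q ≠ 0 ∧
    μ f * algebraMap _ L Q = algebraMap _ L P ∧ act (ι h) f * ev h Q = ev h P
  inv : B →ₐ[k] B
  ι_inv : ∀ h : B →ₐ[k] k, ι (h.comp inv) = (ι h)⁻¹
  trans : ∀ (γ : Γ) (h h' : B →ₐ[k] k), ι h' = γ * ι h → ∃ s : B, h s ≠ 0 ∧ ∀ β : B, ∃ (u : B) (n : ℕ),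
    ∀ g : B →ₐ[k] k, g s ≠ 0 → ∃ g', ι g' = γ * ι g ∧ g' β * g s ^ n = g u
  trans_dense : ∀ (γ : Γ) (b : B), b ≠ 0 → ∃ h h', ι h' = γ * ι h ∧ h' b ≠ 0

variable {k B K L Γ} (S : Bir k B K L Γ)

namespace Bir

theorem act_inv_act (γ : Γ) (f : K) : S.act γ⁻¹ (S.act γ f) = f := by
  rw [← AlgHom.comp_apply, ← S.act_mul, mul_inv_cancel, S.act_one]
  rfl

theorem act_act_inv (γ : Γ) (f : K) : S.act γ (S.act γ⁻¹ f) = f := by
  simpa using S.act_inv_act γ⁻¹ f

theorem open_trans [IsDomain B] (γ : Γ) {b : B} (hb : b ≠ 0) :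
    ∃ c : B, c ≠ 0 ∧ ∀ g : B →ₐ[k] k, g c ≠ 0 → ∃ g', S.ι g' = γ * S.ι g ∧ g' b ≠ 0 := by
  obtain ⟨h, h', hh, hb'⟩ := S.trans_dense γ b hb
  obtain ⟨s, hs, hsβ⟩ := S.trans γ h h' hh
  obtain ⟨u, n, hu⟩ := hsβ b
  obtain ⟨h'', hh'', he⟩ := hu h hs
  rw [S.ι_inj (hh''.trans hh.symm)] at he
  have hu0 : h u ≠ 0 := by rw [← he]; exact mul_ne_zero hb' (pow_ne_zero n hs)
  refine ⟨s * u, fun h0 => ?_, fun g hg => ?_⟩
  · have := congrArg h h0
    rw [map_mul, map_zero] at this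
    exact mul_ne_zero hs hu0 this
  · rw [map_mul] at hg
    obtain ⟨g', hg', he'⟩ := hu g (left_ne_zero_of_mul hg)
    exact ⟨g', hg', fun h0 => right_ne_zero_of_mul hg (by rw [← he', h0, zero_mul])⟩

variable [IsFractionRing (B ⊗[k] K) L]

/-- The universal value specialises to the action. -/
theorem act_eq {f : K} {P Q : B ⊗[k] K} (h : S.μ f * algebraMap _ L Q = algebraMap _ L P) {g : B →ₐ[k] k}
    (hQ : ev g Q ≠ 0) : S.act (S.ι g) f * ev g Q = ev g P := by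
  obtain ⟨P', Q', hQ', h', hv⟩ := S.μ_ev f g
  have he : P * Q' = P' * Q := IsFractionRing.injective (B ⊗[k] K) L (by
    rw [map_mul, map_mul, ← h, ← h']; ring)
  have h2 := congrArg (ev g) he
  rw [map_mul, map_mul, ← hv] at h2
  exact (mul_right_cancel₀ hQ' (h2.trans (by ring))).symm

variable [IsAlgClosed k] [Algebra.FiniteType k B] [IsDomain B] [IsDomain (B ⊗[k] K)]
  (R : ValuationSubring K) (hR : ∀ a : k, algebraMap k K a ∈ R)

variable (k B) in
omit [IsAlgClosed k] [Algebra.FiniteType k B] [IsFractionRing (B ⊗[k] K) L] [IsDomain (B ⊗[k] K)] in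
/-- Membership in the generic valuation ring. -/
def GenMem (l : L) : Prop := ∃ (P Q : B ⊗[k] K) (b : B), b ≠ 0 ∧ l * algebraMap _ L Q = algebraMap _ L P ∧
  ∀ g : B →ₐ[k] k, g b ≠ 0 → ev g Q ≠ 0 ∧ ev g P / ev g Q ∈ R

include hR

/-- Every element of the function field of the product has a generic value. -/
theorem exists_rep (l : L) : l = 0 ∨ ∃ (P Q : B ⊗[k] K) (c : K) (b : B), c ≠ 0 ∧ b ≠ 0 ∧
    l * algebraMap _ L Q = algebraMap _ L P ∧
    ∀ g : B →ₐ[k] k, g b ≠ 0 → ev g Q ≠ 0 ∧ ev g P ≠ 0 ∧ R.valuation (ev g P / ev g Q) = R.valuation c := by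
  by_cases hl : l = 0
  · exact Or.inl hl
  obtain ⟨P, Q, hQ, rfl⟩ := IsFractionRing.div_surjective (A := B ⊗[k] K) l
  have hQ0 : Q ≠ 0 := nonZeroDivisors.ne_zero hQ
  have hP0 : P ≠ 0 := fun h => hl (by rw [h, map_zero, zero_div])
  obtain ⟨cP, bP, hcP, hbP, hP⟩ := exists_scale (k := k) R hR P hP0
  obtain ⟨cQ, bQ, hcQ, hbQ, hQv⟩ := exists_scale (k := k) R hR Q hQ0
  refine Or.inr ⟨P, Q, cP / cQ, bP * bQ, div_ne_zero hcP hcQ, mul_ne_zero hbP hbQ, ?_, fun g hg => ?_⟩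
  · rw [div_mul_cancel₀]
    exact fun h => hQ0 (IsFractionRing.injective (B ⊗[k] K) L (h.trans (map_zero _).symm))
  · rw [map_mul] at hg
    have h1 := hP g (left_ne_zero_of_mul hg)
    have h2 := hQv g (right_ne_zero_of_mul hg)
    refine ⟨fun h0 => ?_, fun h0 => ?_, by rw [map_div₀, map_div₀, h1, h2]⟩
    · rw [h0, map_zero] at h2
      exact hcQ ((Valuation.zero_iff _).1 h2.symm)
    · rw [h0, map_zero] at h1
      exact hcP ((Valuation.zero_iff _).1 h1.symm)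

variable (k B) in
/-- The valuation ring of generic values. -/
def genRing : ValuationSubring L where
  carrier := {l | GenMem (L := L) k B R l}
  zero_mem' := ⟨0, 1, 1, one_ne_zero, by simp, fun g _ => by simp [R.zero_mem]⟩
  one_mem' := ⟨1, 1, 1, one_ne_zero, by simp, fun g _ => by simp [R.one_mem]⟩
  neg_mem' := by
    rintro l ⟨P, Q, b, hb, h, hv⟩
    refine ⟨-P, Q, b, hb, by rw [map_neg, ← h, neg_mul], fun g hg => ⟨(hv g hg).1, ?_⟩⟩
    rw [map_neg, neg_div]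
    exact R.neg_mem _ (hv g hg).2
  mul_mem' := by
    rintro l l' ⟨P, Q, b, hb, h, hv⟩ ⟨P', Q', b', hb', h', hv'⟩
    refine ⟨P * P', Q * Q', b * b', mul_ne_zero hb hb', by rw [map_mul, map_mul, ← h, ← h']; ring, fun g hg => ?_⟩
    rw [map_mul] at hg
    obtain ⟨h1, h2⟩ := hv g (left_ne_zero_of_mul hg)
    obtain ⟨h1', h2'⟩ := hv' g (right_ne_zero_of_mul hg)
    rw [map_mul, map_mul]
    refine ⟨mul_ne_zero h1 h1', ?_⟩
    rw [← div_mul_div_comm]
    exact R.mul_mem _ _ h2 h2'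
  add_mem' := by
    rintro l l' ⟨P, Q, b, hb, h, hv⟩ ⟨P', Q', b', hb', h', hv'⟩
    refine ⟨P * Q' + P' * Q, Q * Q', b * b', mul_ne_zero hb hb', by
      rw [map_add, map_mul, map_mul, map_mul, ← h, ← h']; ring, fun g hg => ?_⟩
    rw [map_mul] at hg
    obtain ⟨h1, h2⟩ := hv g (left_ne_zero_of_mul hg)
    obtain ⟨h1', h2'⟩ := hv' g (right_ne_zero_of_mul hg)
    rw [map_add, map_mul, map_mul, map_mul]
    refine ⟨mul_ne_zero h1 h1', ?_⟩
    rw [add_div, mul_div_mul_right _ _ h1', mul_comm (ev g Q), mul_div_mul_right _ _ h1]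
    exact R.add_mem _ _ h2 h2'
  mem_or_inv_mem' l := by
    rcases exists_rep (B := B) (L := L) R hR l with rfl | ⟨P, Q, c, b, hc, hb, h, hv⟩
    · exact Or.inl ⟨0, 1, 1, one_ne_zero, by simp, fun g _ => by simp [R.zero_mem]⟩
    rcases R.mem_or_inv_mem c with hm | hm
    · refine Or.inl ⟨P, Q, b, hb, h, fun g hg => ⟨(hv g hg).1, ?_⟩⟩
      rw [← ValuationSubring.valuation_le_one_iff, (hv g hg).2.2]
      exact (R.valuation_le_one_iff c).2 hm
    · refine Or.inr ?_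
      by_cases hl : l = 0
      · subst hl
        exact ⟨0, 1, 1, one_ne_zero, by simp, fun g _ => by simp [R.zero_mem]⟩
      refine ⟨Q, P, b, hb, by rw [← h, inv_mul_cancel_left₀ hl], fun g hg => ⟨(hv g hg).2.1, ?_⟩⟩
      rw [← ValuationSubring.valuation_le_one_iff, ← inv_div, map_inv₀, (hv g hg).2.2, ← map_inv₀]
      exact (R.valuation_le_one_iff c⁻¹).2 hm

/-- The invariant valuation ring. -/
def invRing : ValuationSubring K :=
  (genRing (L := L) k B R hR).comap S.μ.toRingHom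

theorem mem_invRing (f : K) :
    f ∈ S.invRing R hR ↔ ∃ b : B, b ≠ 0 ∧ ∀ g : B →ₐ[k] k, g b ≠ 0 → S.act (S.ι g) f ∈ R := by
  constructor
  · intro hf
    obtain ⟨P, Q, b, hb, h, hv⟩ := (show GenMem k B R (S.μ f) from hf)
    refine ⟨b, hb, fun g hg => ?_⟩
    obtain ⟨hQ, hm⟩ := hv g hg
    rwa [← S.act_eq h hQ, mul_div_cancel_right₀ _ hQ] at hm
  · rintro ⟨b, hb, hv⟩
    show GenMem k B R (S.μ f)
    rcases exists_rep (B := B) (L := L) R hR (S.μ f) with h0 | ⟨P, Q, c, b', hc, hb', h, hv'⟩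
    · exact ⟨0, 1, 1, one_ne_zero, by show S.μ f * _ = _; simp [h0], fun g _ => by simp [R.zero_mem]⟩
    refine ⟨P, Q, b * b', mul_ne_zero hb hb', h, fun g hg => ?_⟩
    rw [map_mul] at hg
    have hQ := (hv' g (right_ne_zero_of_mul hg)).1
    refine ⟨hQ, ?_⟩
    rw [← S.act_eq h hQ, mul_div_cancel_right₀ _ hQ]
    exact hv g (left_ne_zero_of_mul hg)

theorem algebraMap_mem_invRing (a : k) : algebraMap k K a ∈ S.invRing R hR :=
  (S.mem_invRing R hR _).2 ⟨1, one_ne_zero, fun g _ => by rw [AlgHom.commutes]; exact hR a⟩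

theorem act_mem_invRing (γ : Γ) {f : K} (hf : f ∈ S.invRing R hR) : S.act γ f ∈ S.invRing R hR := by
  obtain ⟨b, hb, hv⟩ := (S.mem_invRing R hR f).1 hf
  obtain ⟨c, hc, hc'⟩ := S.open_trans γ hb
  refine (S.mem_invRing R hR _).2 ⟨c, hc, fun g hg => ?_⟩
  obtain ⟨g', hg', hb'⟩ := hc' g hg
  have := hv g' hb'
  rwa [hg', S.act_mul, AlgHom.comp_apply] at this

/-- Without a centre, the invariant ring is proper. -/
theorem invRing_ne_top (θ : B →ₐ[k] K) (hnc : ∀ γ : Γ, ∃ β : B, S.act γ (θ β) ∉ R) :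
    ∃ β : B, θ β ∉ S.invRing R hR := by
  classical
  by_contra hne
  push_neg at hne
  obtain ⟨G, hG⟩ := (inferInstance : Algebra.FiniteType k B).out
  choose bb hbb hv using fun β => (S.mem_invRing R hR (θ β)).1 (hne β)
  obtain ⟨g, hg⟩ := exists_point (k := k) (B := B) (b := ∏ β ∈ G, bb β) (Finset.prod_ne_zero_iff.2 fun β _ => hbb β)
  obtain ⟨β₀, hβ₀⟩ := hnc (S.ι g)
  apply hβ₀
  letI : Algebra k R := (RingHom.codRestrict (algebraMap k K) R.toSubring hR).toAlgebra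
  let T : Subalgebra k K := { R.toSubring with algebraMap_mem' := hR }
  have hmem : (Algebra.adjoin k (G : Set B)) ≤ T.comap ((S.act (S.ι g)).comp θ) :=
    Algebra.adjoin_le fun β hβ => hv β g fun h0 => hg (by
      rw [map_prod]
      exact Finset.prod_eq_zero hβ h0)
  exact hmem (hG ▸ (Algebra.mem_top : β₀ ∈ (⊤ : Subalgebra k B)))

end Bir

end ChevThmLib

end
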