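import Groth.Agent.ChevThmLib.Torsor
import Groth.Agent.ChevThmLib.Affine
import Groth.Agent.AntiAffLib.KerSub
import Groth.Agent.AntiAffLib.RigidGrp
import Groth.Agent.AlbLib.AlgClosed
import Groth.Agent.AlbLib.AVClass
import Groth.Agent.MonoQuotLib.Orbit
import Groth.Agent.S3030
import Groth.Agent.S11992
import Groth.Agent.S14584
import Groth.Prelude
import Mathlib.AlgebraicGeometry.Morphisms.LocalFlatDescent

/-!
# A homomorphism onto an abelian subvariety restricting to a power map
-/

set_option autoImplicit false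
set_option linter.style.haveILetI false
set_option backward.isDefEq.respectTransparency false
set_option maxHeartbeats 1600000

universe u

open CategoryTheory CategoryTheory.Limits MonoidalCategory CartesianMonoidalCategory AlgebraicGeometry CoactBr
open scoped MonObj
open AntiAffLib (IsΓIso)

noncomputable section

namespace ChevThmLib

attribute [-instance] CategoryTheory.Hom.commGroup

variable {k : Type u} [Field k]

/-- Clearing denominators of finitely many fractions. -/
theorem exists_away_factor {B C K : Type u} [CommRing B] [IsDomain B] [Algebra k B] [CommRing C] [Algebra k C]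
    [Algebra.FiniteType k C] [Field K] [Algebra B K] [Algebra k K] [IsScalarTower k B K] [IsFractionRing B K]
    (χ : C →ₐ[k] K) : ∃ (D : B) (φ : C →ₐ[k] Localization.Away D) (e : Localization.Away D →ₐ[k] K),
      D ≠ 0 ∧ e.comp φ = χ ∧ e.comp (IsScalarTower.toAlgHom k B (Localization.Away D)) = IsScalarTower.toAlgHom k B K := by
  classical
  obtain ⟨s, hs⟩ := (inferInstance : Algebra.FiniteType k C).out
  choose num den hden using fun c : C => IsFractionRing.div_surjective (A := B) (χ c)
  let D : B := ∏ c ∈ s, den c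
  have hD : D ≠ 0 := Finset.prod_ne_zero_iff.2 fun c _ => nonZeroDivisors.ne_zero (hden c).1
  have hu : IsUnit (algebraMap B K D) := isUnit_iff_ne_zero.2 ((map_ne_zero_iff _ (IsFractionRing.injective B K)).2 hD)
  let e : Localization.Away D →ₐ[k] K :=
    { IsLocalization.Away.lift D hu with
      commutes' := fun a => by
        show IsLocalization.Away.lift D hu (algebraMap k (Localization.Away D) a) = _
        rw [IsScalarTower.algebraMap_apply k B (Localization.Away D), IsLocalization.Away.lift_eq,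
          ← IsScalarTower.algebraMap_apply] }
  have he : e.comp (IsScalarTower.toAlgHom k B (Localization.Away D)) = IsScalarTower.toAlgHom k B K :=
    AlgHom.ext fun b => IsLocalization.Away.lift_eq D hu b
  have heinj : Function.Injective e := by
    refine (IsLocalization.lift_injective_iff _).2 fun a b => ?_
    rw [(IsFractionRing.injective B K).eq_iff,
      (IsLocalization.injective (Localization.Away D) (powers_le_nonZeroDivisors_of_noZeroDivisors hD)).eq_iff]
  have hrange : ∀ c : C, χ c ∈ e.range := by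
    intro c
    have hle : Algebra.adjoin k (s : Set C) ≤ e.range.comap χ := Algebra.adjoin_le fun c hc => by
      have hdvd : den c ∣ D := Finset.dvd_prod_of_mem _ hc
      have hunit : IsUnit (algebraMap B (Localization.Away D) (den c)) :=
        isUnit_of_dvd_unit (map_dvd _ hdvd) (IsLocalization.Away.algebraMap_isUnit D)
      refine ⟨algebraMap B _ (num c) * ↑hunit.unit⁻¹, ?_⟩
      show e _ = χ c
      have h1 : e (algebraMap B _ (den c)) * e ↑hunit.unit⁻¹ = 1 := by
        rw [← map_mul, hunit.mul_val_inv, map_one]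
      have hb : ∀ b : B, e (algebraMap B _ b) = algebraMap B K b := fun b => AlgHom.congr_fun he b
      rw [hb] at h1
      rw [map_mul, hb, ← (hden c).2, eq_div_iff ((map_ne_zero_iff _ (IsFractionRing.injective B K)).2
        (nonZeroDivisors.ne_zero (hden c).1)), _root_.mul_assoc, _root_.mul_comm (e _), h1, _root_.mul_one]
    exact hle (hs ▸ Algebra.mem_top)
  refine ⟨D, (AlgEquiv.ofInjective e heinj).symm.toAlgHom.comp (χ.codRestrict _ hrange), e, hD, ?_, he⟩
  refine AlgHom.ext fun c => ?_
  exact congrArg Subtype.val ((AlgEquiv.ofInjective e heinj).apply_symm_apply (χ.codRestrict _ hrange c))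

variable [IsAlgClosed k]

/-- A point with values in the function field spreads out to a morphism to an abelian variety. -/
theorem exists_extend {G A : Over (Spec (CommRingCat.of k))} [GrpObj G] [Smooth G.hom] [QuasiCompact G.hom]
    [IsIntegral G.left] [GrpObj A] [IsProper A.hom] [GeometricallyIntegral A.hom]
    {B : Type u} [CommRing B] [Algebra k B] [IsDomain B] (j : Chart G B)
    (K : Type u) [Field K] [Algebra k K] [Algebra B K] [IsScalarTower k B K] [IsFractionRing B K]
    (r : sp k K ⟶ A) : ∃ R : G ⟶ A, gen j K ≫ R = r := by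
  haveI : IsSeparated G.hom := Groth.Agent.GrpField.isSeparated_grp (G := G)
  haveI : GeometricallyIntegral G.hom := AlbLib.geometricallyIntegral_of_isIntegral G
  obtain ⟨V, hV, hxV, -⟩ := exists_isAffineOpen_mem_and_subset (X := A.left)
    (x := r.left (IsLocalRing.closedPoint K)) (U := ⊤) trivial
  let C : Type u := Γ(A.left, V)
  obtain ⟨c, hc⟩ := Spec.map_surjective (hV.fromSpec ≫ A.hom)
  letI : Algebra k C := c.hom.toAlgebra
  let jC : sp k C ⟶ A := Over.homMk hV.fromSpec (by
    show hV.fromSpec ≫ A.hom = Spec.map (CommRingCat.ofHom c.hom)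
    rw [← hc]
    rfl)
  let jA : Chart A C := ⟨jC, inferInstanceAs (IsOpenImmersion hV.fromSpec)⟩
  haveI : Algebra.FiniteType k C := by
    haveI : LocallyOfFiniteType (Spec.map c) := by rw [hc]; infer_instance
    exact (HasRingHomProperty.Spec_iff (P := @LocallyOfFiniteType)).1 this
  obtain ⟨χ, hχ⟩ := jA.exists_lift r (by
    rintro _ ⟨p, rfl⟩
    rw [show p = IsLocalRing.closedPoint K from @Subsingleton.elim (PrimeSpectrum K) _ _ _]
    exact hV.range_fromSpec.ge hxV)
  obtain ⟨D, φ, e, hD, he, he'⟩ := exists_away_factor (B := B) χ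
  let u : sp k (Localization.Away D) ⟶ G := pt (IsScalarTower.toAlgHom k B (Localization.Away D)) ≫ j.j
  haveI : IsOpenImmersion u.left := by
    rw [Over.comp_left]
    haveI : IsOpenImmersion (pt (IsScalarTower.toAlgHom k B (Localization.Away D))).left :=
      IsOpenImmersion.of_isLocalization D
    infer_instance
  let v : sp k (Localization.Away D) ⟶ A := pt φ ≫ jC
  let U : G.left.Opens := u.left.opensRange
  haveI : Nonempty (sp k (Localization.Away D)).left := by
    haveI : Nontrivial (Localization.Away D) := ⟨⟨0, 1, fun h01 => zero_ne_one (α := K) (by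
      rw [← map_zero e, ← map_one e, h01])⟩⟩
    exact inferInstanceAs (Nonempty (PrimeSpectrum _))
  have hU : (U : Set G.left).Nonempty := ⟨_, Classical.arbitrary _, rfl⟩
  obtain ⟨g, hg1, hg2⟩ := Groth.Agent.S11992.result k G.left G.hom A U hU (u.left.isoOpensRange.inv ≫ v.left) (by
    rw [Category.assoc, Over.w v, ← Over.w u, ← Category.assoc]
    rw [← u.left.isoOpensRange_inv_comp])
  refine ⟨Over.homMk g hg1, Over.OverMorphism.ext ?_⟩
  have h1 : u.left ≫ g = v.left := by
    rw [← u.left.isoOpensRange_hom_ι, Category.assoc]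
    erw [hg2]
    rw [Iso.hom_inv_id_assoc]
  have h2 : gen j K = pt e ≫ u := by
    rw [gen, ← he', pt_comp, Category.assoc]
  rw [h2]
  show ((pt e).left ≫ u.left) ≫ g = r.left
  rw [Category.assoc, h1, hχ, ← he]
  show _ = (pt (e.comp φ) ≫ jC).left
  rw [pt_comp, Category.assoc]
  rfl

/-- An abelian subvariety of a connected group is central. -/
theorem comm_of_proper {G A : Over (Spec (CommRingCat.of k))} [GrpObj G] [LocallyOfFiniteType G.hom]
    [PreconnectedSpace G.left] [GrpObj A] [IsProper A.hom] [Smooth A.hom] [ConnectedSpace A.left]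
    (i : A ⟶ G) [IsMonHom i] (T : Over (Spec (CommRingCat.of k))) (a : T ⟶ A) (g : T ⟶ G) :
    (a ≫ i) * g = g * (a ≫ i) := by
  haveI : IsReduced A.left := AlgSpLib.isReduced_of_smooth A.hom
  haveI : IsΓIso (toUnit A) := AntiAffLib.antiAff_of_universallyClosed A η[A]
  have := congrArg (lift a g ≫ ·) (AntiAffLib.comm_of_hom (G := G) i)
  simpa only [MonObj.comp_mul, ← Category.assoc, lift_fst, lift_snd] using this

/-- An abelian subvariety admits a homomorphism of the group onto it restricting to a non-zero power. -/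
theorem exists_killing (G A : Over (Spec (CommRingCat.of k))) [GrpObj G] [Smooth G.hom] [QuasiCompact G.hom]
    [IsIntegral G.left] [GrpObj A] [IsProper A.hom] [Smooth A.hom] [ConnectedSpace A.left]
    (i : A ⟶ G) [IsMonHom i] [IsClosedImmersion i.left] :
    ∃ (R : G ⟶ A) (n : ℕ), IsMonHom R ∧ 0 < n ∧ i ≫ R = 𝟙 A ^ n := by
  haveI : IsSeparated G.hom := Groth.Agent.GrpField.isSeparated_grp (G := G)
  haveI : GeometricallyIntegral G.hom := AlbLib.geometricallyIntegral_of_isIntegral G
  haveI : IsReduced A.left := AlgSpLib.isReduced_of_smooth A.hom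
  haveI : GeometricallyIntegral A.hom := AlbLib.geometricallyIntegral_grp A
  haveI : IsΓIso (toUnit A) := AntiAffLib.antiAff_of_universallyClosed A η[A]
  haveI : IsCommMonObj A := AntiAffLib.isCommMonObj_of_antiAff A
  haveI : Mono i.left := inferInstance
  haveI : Mono i := Over.mono_of_mono_left i
  have hc := comm_of_proper (G := G) i
  have hN : AlgGrp.IsNormalHom i := fun T g a => ⟨a, by rw [← hc, _root_.mul_assoc, mul_inv_cancel, _root_.mul_one]⟩
  haveI : Flat A.hom := inferInstance
  haveI : QuasiCompact i.left := inferInstance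
  obtain ⟨Q, iQ, q, hqm, hqf, hqs, hqp, hker, hQsep, -, hQsm⟩ := Groth.Agent.S3030.result k A G i hN
  haveI := hqm; haveI := hqf; haveI := hqs; haveI := hqp; haveI := hQsep; haveI := hQsm inferInstance
  have hq : ∀ (T : Over (Spec (CommRingCat.of k))) (g g' : T ⟶ G),
      g ≫ q = g' ≫ q ↔ ∃ a : T ⟶ A, g * (a ≫ i) = g' := by
    intro T g g'
    constructor
    · intro e
      refine ⟨hker.lift (g⁻¹ * g') (toUnit _) (by
        rw [MonObj.mul_comp, GrpObj.inv_comp, e, inv_mul_cancel, Hom.one_def]), ?_⟩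
      rw [hker.lift_fst, mul_inv_cancel_left]
    · rintro ⟨a, rfl⟩
      rw [MonObj.mul_comp, Category.assoc, hker.w, ← Category.assoc, toUnit_unique (a ≫ toUnit A) (toUnit T),
        ← Hom.one_def, _root_.mul_one]
  haveI : Smooth q.left := by
    have sq := (Groth.Agent.MonoQuot.isPullback_cosets i q hq).map (Over.forget _)
    have hfst : Smooth (fst G A).left := inferInstanceAs (Smooth (pullback.fst G.hom A.hom))
    haveI : QuasiCompact (q.left ≫ Q.hom) := by rw [Over.w q]; infer_instance
    haveI : QuasiCompact q.left := QuasiCompact.of_comp q.left Q.hom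
    exact MorphismProperty.of_isPullback_of_descendsAlong (P := @Smooth)
      (Q := @Surjective ⊓ @Flat ⊓ @QuasiCompact) sq ⟨⟨‹_›, ‹_›⟩, ‹_›⟩ hfst
  obtain ⟨B, _, _, _, _, j, inv, ⟨h₀, hh₀⟩, -⟩ := exists_chart G
  let K := FractionRing B
  haveI : IsScalarTower k B K := inferInstance
  obtain ⟨n, r, hn, hr⟩ := exists_generic_map i q hq hc j K
  obtain ⟨R₀, hR₀⟩ := exists_extend j K r
  -- equivariance
  have hequ : ∀ a : 𝟙_ (Over (Spec (CommRingCat.of k))) ⟶ A,
      AVAmpleLib.tL (a ≫ i) ≫ R₀ = (toUnit G ≫ a) ^ n * R₀ := by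
    intro a
    haveI : IsDominant (gen j K).left := ⟨by
      rw [DenseRange, dense_iff_inter_open]
      intro U hU hUne
      exact ⟨_, gen_mem j K (IsLocalRing.closedPoint K) (U := ⟨U, hU⟩) hUne, _, rfl⟩⟩
    refine Over.OverMorphism.ext (ext_of_isDominant_of_isSeparated A.hom (by rw [Over.w, Over.w]) (gen j K).left ?_)
    refine congrArg CommaMorphism.left (?_ : gen j K ≫ AVAmpleLib.tL (a ≫ i) ≫ R₀ = gen j K ≫ ((toUnit G ≫ a) ^ n * R₀))
    have e : (toUnit (sp k K) ≫ a ≫ i) * gen j K = gen j K ≫ AVAmpleLib.tL (a ≫ i) := by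
      rw [MonObj.comp_mul, Category.comp_id, ← Category.assoc (gen j K) (toUnit G),
        toUnit_unique (gen j K ≫ toUnit G) (toUnit _)]
    let Φ : (G ⟶ A) →* (sp k K ⟶ A) := MonoidHom.mk' (fun f => gen j K ≫ f) (fun f g => MonObj.comp_mul _ f g)
    rw [← Category.assoc, ← e, ← act_spec, Category.assoc, hR₀, hr a]
    show _ = Φ _
    rw [map_mul, map_pow]
    show _ = (gen j K ≫ toUnit G ≫ a) ^ n * (gen j K ≫ R₀)
    rw [hR₀, ← Category.assoc (gen j K), toUnit_unique (gen j K ≫ toUnit G) (toUnit _)]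
  let R : G ⟶ A := R₀ * (toUnit G ≫ (η[G] ≫ R₀))⁻¹
  have hR1 : η[G] ≫ R = 1 := by
    rw [MonObj.comp_mul, GrpObj.comp_inv, ← Category.assoc η[G], toUnit_unique (η[G] ≫ toUnit G) (𝟙 _),
      Category.id_comp, mul_inv_cancel]
  haveI hmR : IsMonHom R := by
    have hone : (η[G] : 𝟙_ (Over (Spec (CommRingCat.of k))) ⟶ G) = 1 := by
      rw [Hom.one_def, toUnit_unique (toUnit _) (𝟙 _), Category.id_comp]
    refine ⟨by rw [hR1, Hom.one_def, toUnit_unique (toUnit _) (𝟙 _), Category.id_comp], ?_⟩
    have h := Groth.Agent.S14584.result k G G A η[G] η[G] (μ[G] ≫ R)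
    have e1 : lift (η[G] : 𝟙_ (Over (Spec (CommRingCat.of k))) ⟶ G) η[G] ≫ μ[G] = η[G] := by
      rw [← Hom.mul_def, hone, _root_.one_mul]
    have e2 : lift (toUnit G ≫ η[G]) (𝟙 G) ≫ μ[G] = 𝟙 G := by
      rw [← Hom.mul_def, ← Hom.one_def, _root_.one_mul]
    have e3 : lift (𝟙 G) (toUnit G ≫ η[G]) ≫ μ[G] = 𝟙 G := by
      rw [← Hom.mul_def, ← Hom.one_def, _root_.mul_one]
    rw [← Category.assoc (lift _ _) μ[G], e1, ← Category.assoc (lift _ _) μ[G], e2, ← Category.assoc (lift _ _) μ[G],
      e3, Category.id_comp, hR1, MonObj.comp_one, inv_one, _root_.one_mul] at h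
    rw [h, Hom.mul_def, ← lift_braiding_hom, Category.assoc, IsCommMonObj.mul_comm]
    congr 1
  refine ⟨R, n, hmR, hn, AVAmpleLib.hom_ext_of_points _ _ fun a => ?_⟩
  have hia : (η[G] : 𝟙_ (Over (Spec (CommRingCat.of k))) ⟶ G) ≫ AVAmpleLib.tL (a ≫ i) = a ≫ i := by
    rw [AVAmpleLib.point_tL, show (η[G] : 𝟙_ (Over (Spec (CommRingCat.of k))) ⟶ G) = 1 by
      rw [Hom.one_def, toUnit_unique (toUnit _) (𝟙 _), Category.id_comp], _root_.mul_one]
  have h := congrArg (η[G] ≫ ·) (hequ a)
  let Φ : (G ⟶ A) →* (𝟙_ (Over (Spec (CommRingCat.of k))) ⟶ A) :=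
    MonoidHom.mk' (fun f => η[G] ≫ f) (fun f g => MonObj.comp_mul _ f g)
  rw [← Category.assoc, hia, show η[G] ≫ ((toUnit G ≫ a) ^ n * R₀) = Φ ((toUnit G ≫ a) ^ n * R₀) from rfl,
    map_mul, map_pow, show Φ (toUnit G ≫ a) = a by
      show η[G] ≫ toUnit G ≫ a = a
      rw [← Category.assoc, toUnit_unique (η[G] ≫ toUnit G) (𝟙 _), Category.id_comp],
    show Φ R₀ = η[G] ≫ R₀ from rfl] at h
  let Ψ : (A ⟶ A) →* (𝟙_ (Over (Spec (CommRingCat.of k))) ⟶ A) :=
    MonoidHom.mk' (fun f => a ≫ f) (fun f g => MonObj.comp_mul _ f g)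
  show a ≫ i ≫ R = Ψ (𝟙 A ^ n)
  rw [map_pow, show Ψ (𝟙 A) = a from Category.comp_id a, ← Category.assoc, MonObj.comp_mul, h, GrpObj.comp_inv,
    ← Category.assoc (a ≫ i) (toUnit G), toUnit_unique ((a ≫ i) ≫ toUnit G) (𝟙 _), Category.id_comp,
    mul_inv_cancel_right]

end ChevThmLib

end
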