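import Groth.Agent.S1550
import Mathlib.FieldTheory.Galois.Infinite
import Mathlib.FieldTheory.IsSepClosed
import Mathlib.AlgebraicGeometry.Morphisms.Smooth

/-!
# Separable points of smooth fibres and descent of fixed points
-/

set_option autoImplicit false
set_option linter.style.haveILetI false
set_option backward.isDefEq.respectTransparency false

universe u

open CategoryTheory CategoryTheory.Limits AlgebraicGeometry
attribute [local instance] Curv2.resAlgebra

noncomputable section

namespace ChevThmLib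

/-- A non-empty fibre of a smooth morphism has a point with a finite separable residue extension. -/
theorem exists_sep_point {G Y : Scheme.{u}} (f : G ⟶ Y) [Smooth f] {F : Type u} [Field F]
    (y : Spec (CommRingCat.of F) ⟶ Y) (h : Nonempty (pullback f y : Scheme.{u})) :
    ∃ (L : Type u) (_ : Field L) (_ : Algebra F L) (p : Spec (CommRingCat.of L) ⟶ G),
      FiniteDimensional F L ∧ Algebra.IsSeparable F L ∧
        p ≫ f = Spec.map (CommRingCat.ofHom (algebraMap F L)) ≫ y := by
  let P : Scheme.{u} := pullback f y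
  letI : P.Over (Spec (CommRingCat.of F)) := ⟨pullback.snd f y⟩
  haveI : Smooth (P ↘ Spec (CommRingCat.of F)) := inferInstanceAs (Smooth (pullback.snd f y))
  obtain ⟨x, -, hfin, hsep⟩ := (Groth.Agent.S1550.result F P).nonempty
  refine ⟨P.residueField x, inferInstance, inferInstance, P.fromSpecResidueField x ≫ pullback.fst f y, hfin, hsep, ?_⟩
  rw [Category.assoc, pullback.condition, ← Category.assoc]
  congr 1
  have hc : CommRingCat.ofHom (Curv2.resMap F P x) =
      (Scheme.ΓSpecIso (CommRingCat.of F)).inv ≫ (pullback.snd f y).appTop ≫ P.presheaf.germ ⊤ x trivial ≫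
        P.residue x := rfl
  show _ = Spec.map (CommRingCat.ofHom (Curv2.resMap F P x))
  rw [hc, Spec.map_comp, Spec.map_comp, Spec.map_comp]
  show (Spec.map (P.residue x) ≫ P.fromSpecStalk x) ≫ pullback.snd f y = _
  simp only [Category.assoc]
  congr 1
  rw [← Scheme.fromSpecStalk_toSpecΓ_assoc, ← Scheme.toSpecΓ_naturality_assoc]
  simp [toSpecΓ_SpecMap_ΓSpecIso_inv, P]

/-- An extension of fields gives a monomorphism on field-valued points. -/
theorem cancel_field {K Ω : Type u} [Field K] [Field Ω] (ι : K →+* Ω) {A : Scheme.{u}}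
    (f g : Spec (CommRingCat.of K) ⟶ A)
    (h : Spec.map (CommRingCat.ofHom ι) ≫ f = Spec.map (CommRingCat.ofHom ι) ≫ g) : f = g := by
  obtain ⟨⟨x, φ⟩, rfl⟩ := (Scheme.SpecToEquivOfField K A).symm.surjective f
  obtain ⟨⟨y, ψ⟩, rfl⟩ := (Scheme.SpecToEquivOfField K A).symm.surjective g
  replace h : Spec.map (φ ≫ CommRingCat.ofHom ι) ≫ A.fromSpecResidueField x =
      Spec.map (ψ ≫ CommRingCat.ofHom ι) ≫ A.fromSpecResidueField y := by
    rw [Spec.map_comp, Spec.map_comp, Category.assoc, Category.assoc]; exact h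
  obtain ⟨e, he⟩ := Scheme.SpecToEquivOfField_eq_iff.1 ((Scheme.SpecToEquivOfField Ω A).symm.injective
    (a₁ := ⟨x, φ ≫ CommRingCat.ofHom ι⟩) (a₂ := ⟨y, ψ ≫ CommRingCat.ofHom ι⟩) h)
  dsimp only at e he
  subst e
  simp only [Scheme.residueFieldCongr_refl, Iso.refl_hom, Category.id_comp] at he
  refine congrArg (fun φ => (Scheme.SpecToEquivOfField K A).symm ⟨x, φ⟩) (CommRingCat.hom_ext (RingHom.ext fun a => ?_))
  exact ι.injective congr($(he).hom a)

/-- A point over a Galois extension fixed by the Galois group comes from the ground field. -/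
theorem exists_descend {K Ω : Type u} [Field K] [Field Ω] [Algebra K Ω] [IsGalois K Ω] {A : Scheme.{u}}
    (r : Spec (CommRingCat.of Ω) ⟶ A)
    (h : ∀ γ : Ω ≃ₐ[K] Ω, Spec.map (CommRingCat.ofHom (γ : Ω →+* Ω)) ≫ r = r) :
    ∃ r₀ : Spec (CommRingCat.of K) ⟶ A, Spec.map (CommRingCat.ofHom (algebraMap K Ω)) ≫ r₀ = r := by
  obtain ⟨⟨x, φ⟩, rfl⟩ := (Scheme.SpecToEquivOfField Ω A).symm.surjective r
  have hfix : ∀ (a : A.residueField x) (γ : Ω ≃ₐ[K] Ω), γ (φ.hom a) = φ.hom a := fun a γ => by
    have h' : Spec.map (φ ≫ CommRingCat.ofHom (γ : Ω →+* Ω)) ≫ A.fromSpecResidueField x =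
        Spec.map φ ≫ A.fromSpecResidueField x := by
      rw [Spec.map_comp, Category.assoc]; exact h γ
    obtain ⟨e, he⟩ := Scheme.SpecToEquivOfField_eq_iff.1 ((Scheme.SpecToEquivOfField Ω A).symm.injective
      (a₁ := ⟨x, φ ≫ CommRingCat.ofHom (γ : Ω →+* Ω)⟩) (a₂ := ⟨x, φ⟩) h')
    simp only [Scheme.residueFieldCongr_refl, Iso.refl_hom, Category.id_comp] at he
    exact congr($(he).hom a)
  have hr : ∀ a, φ.hom a ∈ (algebraMap K Ω).range := fun a =>
    RingHom.mem_range.2 ((InfiniteGalois.mem_range_algebraMap_iff_fixed _).2 (hfix a))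
  let ε : K ≃+* (algebraMap K Ω).range := RingEquiv.ofBijective (algebraMap K Ω).rangeRestrict
    ⟨fun a b e => (algebraMap K Ω).injective (congrArg Subtype.val e), (algebraMap K Ω).rangeRestrict_surjective⟩
  let ψ : A.residueField x →+* K := ε.symm.toRingHom.comp (φ.hom.codRestrict _ hr)
  refine ⟨Spec.map (CommRingCat.ofHom ψ) ≫ A.fromSpecResidueField x, ?_⟩
  show _ = Spec.map φ ≫ A.fromSpecResidueField x
  rw [← Category.assoc, ← Spec.map_comp]
  refine congrArg (fun φ => Spec.map φ ≫ A.fromSpecResidueField x) (CommRingCat.hom_ext (RingHom.ext fun a => ?_))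
  show algebraMap K Ω (ψ a) = φ.hom a
  exact congrArg Subtype.val (ε.apply_symm_apply (φ.hom.codRestrict _ hr a))

/-- A homomorphism from a field into a separably closed field extends to a separable extension. -/
theorem exists_ext {K Ω Ω' : Type u} [Field K] [Field Ω] [Field Ω'] [Algebra K Ω] [Algebra.IsSeparable K Ω]
    [IsSepClosed Ω'] (f : K →+* Ω') : ∃ τ : Ω →+* Ω', τ.comp (algebraMap K Ω) = f := by
  letI := f.toAlgebra
  exact ⟨(IsSepClosed.lift : Ω →ₐ[K] Ω').toRingHom, RingHom.ext (IsSepClosed.lift : Ω →ₐ[K] Ω').commutes⟩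

end ChevThmLib

end
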