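import Groth.Agent.ChevThmLib.Geom
import Groth.Agent.ChevThmLib.SepPoint
import Groth.Agent.AntiAffLib.RigidGrp
import Groth.Prelude

/-!
# A generic equivariant map onto a central abelian subvariety
-/

set_option autoImplicit false
set_option linter.style.haveILetI false
set_option backward.isDefEq.respectTransparency false
set_option maxHeartbeats 1600000

universe u

open CategoryTheory CategoryTheory.Limits MonoidalCategory CartesianMonoidalCategory AlgebraicGeometry CoactBr
open scoped MonObj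

noncomputable section

namespace ChevThmLib

attribute [-instance] CategoryTheory.Hom.commGroup

variable {k : Type u} [Field k] [IsAlgClosed k]

/-- Over the function field, a map to the subgroup which is equivariant up to a power. -/
theorem exists_generic_map {G A Q : Over (Spec (CommRingCat.of k))} [GrpObj G] [GrpObj A] [IrreducibleSpace G.left]
    [IsCommMonObj A] (i : A ⟶ G) [IsMonHom i] [Mono i] (q : G ⟶ Q) [Smooth q.left]
    (hq : ∀ (T : Over (Spec (CommRingCat.of k))) (g g' : T ⟶ G),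
      g ≫ q = g' ≫ q ↔ ∃ a : T ⟶ A, g * (a ≫ i) = g')
    (hc : ∀ (T : Over (Spec (CommRingCat.of k))) (a : T ⟶ A) (g : T ⟶ G), (a ≫ i) * g = g * (a ≫ i))
    {B : Type u} [CommRing B] [Algebra k B] [IsDomain B] (j : Chart G B)
    (K : Type u) [Field K] [Algebra k K] [Algebra B K] [IsScalarTower k B K] [IsFractionRing B K] :
    ∃ (n : ℕ) (r : sp k K ⟶ A), 0 < n ∧ ∀ a : 𝟙_ (Over (Spec (CommRingCat.of k))) ⟶ A,
      pt (act j K (a ≫ i)) ≫ r = (toUnit (sp k K) ≫ a) ^ n * r := by
  classical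
  -- the field of the base point
  let gq : Spec (CommRingCat.of K) ⟶ Q.left := (gen j K ≫ q).left
  obtain ⟨⟨y, ψ⟩, hψ⟩ := (Scheme.SpecToEquivOfField K Q.left).symm.surjective gq
  replace hψ : Spec.map ψ ≫ Q.left.fromSpecResidueField y = gq := hψ
  let F : Type u := Q.left.residueField y
  let Ω : Type u := SeparableClosure K
  letI algFK : Algebra F K := ψ.hom.toAlgebra
  letI algFΩ : Algebra F Ω := ((algebraMap K Ω).comp ψ.hom).toAlgebra
  haveI : IsScalarTower F K Ω := IsScalarTower.of_algebraMap_eq fun _ => rfl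
  let y₀ : Spec (CommRingCat.of F) ⟶ Q.left := Q.left.fromSpecResidueField y
  have hne : Nonempty (pullback q.left y₀ : Scheme.{u}) :=
    ⟨(pullback.lift (gen j K).left (Spec.map ψ) (by rw [hψ]; rfl)) (IsLocalRing.closedPoint K)⟩
  obtain ⟨L, _, _, p, hfin, hsep, hp⟩ := exists_sep_point q.left y₀ hne
  haveI := hfin; haveI := hsep
  haveI : IsSepClosed Ω := inferInstance
  let Emb := L →ₐ[F] Ω
  haveI : Nonempty Emb := ⟨IsSepClosed.lift⟩
  let n := Fintype.card Emb
  -- the points in the fibre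
  let ηΩ : sp k Ω ⟶ G := pt (IsScalarTower.toAlgHom k K Ω) ≫ gen j K
  have hηq : (ηΩ ≫ q).left = Spec.map (CommRingCat.ofHom (algebraMap F Ω)) ≫ y₀ := by
    have e : Spec.map (CommRingCat.ofHom (algebraMap F Ω)) =
        Spec.map (CommRingCat.ofHom (algebraMap K Ω)) ≫ Spec.map ψ := Spec.map_comp _ _
    rw [e]
    refine Eq.trans ?_ (Category.assoc _ _ _).symm
    exact (congrArg CommaMorphism.left (Category.assoc _ _ _)).trans
      (congrArg (Spec.map (CommRingCat.ofHom (algebraMap K Ω)) ≫ ·) hψ.symm)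
  have hpσ : ∀ s : Emb, ∃ pp : sp k Ω ⟶ G, pp.left = Spec.map (CommRingCat.ofHom s.toRingHom) ≫ p ∧ pp ≫ q = ηΩ ≫ q := by
    intro s
    have e : (Spec.map (CommRingCat.ofHom s.toRingHom) ≫ p) ≫ q.left = (ηΩ ≫ q).left := by
      rw [hηq, Category.assoc, hp, ← Category.assoc, ← Spec.map_comp,
        show CommRingCat.ofHom (algebraMap F L) ≫ CommRingCat.ofHom s.toRingHom = CommRingCat.ofHom (algebraMap F Ω)
          from CommRingCat.hom_ext s.comp_algebraMap]
    let pp : sp k Ω ⟶ G := Over.homMk (Spec.map (CommRingCat.ofHom s.toRingHom) ≫ p) (by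
      rw [← Over.w q, ← Category.assoc, e]
      exact Over.w (ηΩ ≫ q))
    exact ⟨pp, rfl, Over.OverMorphism.ext (by rw [Over.comp_left]; exact e)⟩
  choose pp hpp hppq using hpσ
  choose a ha using fun s => (hq _ _ _).1 (hppq s)
  letI : CommGroup (sp k Ω ⟶ A) := { (inferInstance : Group (sp k Ω ⟶ A)) with
    mul_comm := fun f g => by
      rw [Hom.mul_def, Hom.mul_def, ← lift_braiding_hom g f, Category.assoc, IsCommMonObj.mul_comm] }
  let r : sp k Ω ⟶ A := ∏ s : Emb, a s
  -- the behaviour under field endomorphisms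
  have key : ∀ (τ : Ω →ₐ[k] Ω) (c : 𝟙_ (Over (Spec (CommRingCat.of k))) ⟶ A),
      pt τ ≫ ηΩ = (toUnit (sp k Ω) ≫ c ≫ i) * ηΩ → (∀ x : F, τ (algebraMap F Ω x) = algebraMap F Ω x) →
      pt τ ≫ r = (toUnit (sp k Ω) ≫ c) ^ n * r := by
    intro τ c hτ hfix
    let π : Emb → Emb := fun s =>
      { τ.toRingHom.comp s.toRingHom with
        commutes' := fun x => by
          show τ (s (algebraMap F L x)) = _
          rw [s.commutes]
          exact hfix x }
    have hπ : Function.Bijective π := Finite.injective_iff_bijective.1 fun s s' e =>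
      AlgHom.ext fun x => τ.toRingHom.injective (congrArg (fun f : Emb => f x) e)
    have hsp : ∀ s, pt τ ≫ pp s = pp (π s) := fun s => Over.OverMorphism.ext (by
      rw [Over.comp_left, hpp, hpp, ← Category.assoc]
      show (Spec.map (CommRingCat.ofHom τ.toRingHom) ≫ Spec.map (CommRingCat.ofHom s.toRingHom)) ≫ p = _
      rw [← Spec.map_comp]
      rfl)
    have hs : ∀ s, pt τ ≫ a s = (toUnit (sp k Ω) ≫ c) * a (π s) := fun s => by
      rw [← cancel_mono i, MonObj.mul_comp, Category.assoc]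
      apply mul_left_cancel (a := pp (π s))
      calc pp (π s) * ((pt τ ≫ a s) ≫ i) = pt τ ≫ (pp s * (a s ≫ i)) := by
            rw [MonObj.comp_mul, hsp, Category.assoc]
        _ = (toUnit (sp k Ω) ≫ c ≫ i) * ηΩ := by rw [ha, hτ]
        _ = _ := by
            rw [← ha (π s), ← Category.assoc (toUnit _) c i, ← _root_.mul_assoc,
              hc _ (toUnit _ ≫ c) (pp (π s)), _root_.mul_assoc]
    let Φ : (sp k Ω ⟶ A) →* (sp k Ω ⟶ A) := MonoidHom.mk' (fun f => pt τ ≫ f) (fun f g => MonObj.comp_mul _ f g)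
    show Φ r = _
    rw [map_prod, Finset.prod_congr rfl (fun s _ => show Φ (a s) = _ from hs s), Finset.prod_mul_distrib,
      Finset.prod_const, Finset.card_univ]
    exact congrArg _ (hπ.prod_comp a)
  -- descent
  have hgam : ∀ gam : Ω ≃ₐ[K] Ω, Spec.map (CommRingCat.ofHom (gam : Ω →+* Ω)) ≫ r.left = r.left := by
    intro gam
    have h := key (gam.toAlgHom.restrictScalars k) 1 ?_ ?_
    · rw [MonObj.comp_one, one_pow, _root_.one_mul] at h
      exact congrArg CommaMorphism.left h
    · rw [MonObj.one_comp, MonObj.comp_one, _root_.one_mul, ← Category.assoc, ← pt_comp]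
      exact congrArg (fun f => pt f ≫ gen j K) (AlgHom.ext fun x => gam.commutes x)
    · exact fun x => gam.commutes (algebraMap F K x)
  obtain ⟨r₀, hr₀⟩ := exists_descend r.left hgam
  let r' : sp k K ⟶ A := Over.homMk r₀ (by
    apply cancel_field (algebraMap K Ω)
    rw [← Category.assoc, hr₀, Over.w r]
    exact (Over.w (pt (IsScalarTower.toAlgHom k K Ω))).symm)
  have hr' : pt (IsScalarTower.toAlgHom k K Ω) ≫ r' = r := Over.OverMorphism.ext hr₀
  refine ⟨n, r', Fintype.card_pos, fun c => ?_⟩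
  let φ := act j K (c ≫ i)
  obtain ⟨τ₀, hτ₀⟩ := exists_ext (Ω := Ω) ((algebraMap K Ω).comp φ.toRingHom)
  let τ : Ω →ₐ[k] Ω :=
    { τ₀ with
      commutes' := fun x => by
        show τ₀ (algebraMap k Ω x) = _
        rw [IsScalarTower.algebraMap_apply k K Ω, ← RingHom.comp_apply τ₀ (algebraMap K Ω), hτ₀]
        show algebraMap K Ω (φ (algebraMap k K x)) = _
        rw [φ.commutes] }
  have hτι : τ.comp (IsScalarTower.toAlgHom k K Ω) = (IsScalarTower.toAlgHom k K Ω).comp φ :=
    AlgHom.ext fun x => congr($hτ₀ x)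
  have hφψ : ∀ x : F, φ (algebraMap F K x) = algebraMap F K x := by
    have e : (pt φ ≫ gen j K) ≫ q = gen j K ≫ q := by
      rw [act_spec]
      refine ((hq _ _ _).2 ⟨toUnit _ ≫ c, ?_⟩).symm
      rw [← hc, Category.assoc]
    have e' : Spec.map (ψ ≫ CommRingCat.ofHom φ.toRingHom) ≫ Q.left.fromSpecResidueField y =
        Spec.map ψ ≫ Q.left.fromSpecResidueField y := by
      rw [Spec.map_comp, Category.assoc, hψ]
      exact congrArg CommaMorphism.left ((Category.assoc _ _ _).symm.trans e)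
    obtain ⟨e1, he⟩ := Scheme.SpecToEquivOfField_eq_iff.1 ((Scheme.SpecToEquivOfField K Q.left).symm.injective
      (a₁ := ⟨y, ψ ≫ CommRingCat.ofHom φ.toRingHom⟩) (a₂ := ⟨y, ψ⟩) e')
    simp only [Scheme.residueFieldCongr_refl, Iso.refl_hom, Category.id_comp] at he
    exact fun x => congr($(he).hom x)
  have hτη : pt τ ≫ ηΩ = (toUnit (sp k Ω) ≫ c ≫ i) * ηΩ := by
    rw [← Category.assoc, ← pt_comp, hτι, pt_comp, Category.assoc, act_spec, MonObj.comp_mul, ← Category.assoc,
      toUnit_unique (pt _ ≫ toUnit _) (toUnit _)]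
  have h := key τ c hτη fun x => by
    show τ₀ (algebraMap K Ω (algebraMap F K x)) = _
    rw [← RingHom.comp_apply τ₀ (algebraMap K Ω), hτ₀]
    show algebraMap K Ω (φ (algebraMap F K x)) = _
    rw [hφψ]
    rfl
  rw [← hr', ← Category.assoc, ← pt_comp, hτι, pt_comp, Category.assoc] at h
  apply Over.OverMorphism.ext
  apply cancel_field (algebraMap K Ω)
  show (pt (IsScalarTower.toAlgHom k K Ω) ≫ (pt φ ≫ r')).left =
    (pt (IsScalarTower.toAlgHom k K Ω) ≫ ((toUnit (sp k K) ≫ c) ^ n * r')).left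
  refine congrArg CommaMorphism.left (h.trans ?_)
  let Ψ : (sp k K ⟶ A) →* (sp k Ω ⟶ A) :=
    MonoidHom.mk' (fun f => pt (IsScalarTower.toAlgHom k K Ω) ≫ f) (fun f g => MonObj.comp_mul _ f g)
  show _ = Ψ _
  rw [map_mul, map_pow]
  congr 2
  exact (congrArg (· ≫ c) (toUnit_unique _ _)).trans (Category.assoc _ _ _)

end ChevThmLib

end
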