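import Groth.Agent.ChevThmLib.GalClosed
import Groth.Agent.CurveFFLib.Twist
import Groth.Agent.GeomRedFieldLib.Reduction
import Groth.Prelude
import Mathlib.FieldTheory.PurelyInseparable.Exponent

/-!
# The Frobenius twist of a group over a field
-/

set_option autoImplicit false
set_option linter.style.haveILetI false
set_option linter.unusedSectionVars false
set_option backward.isDefEq.respectTransparency false
set_option maxHeartbeats 1600000

universe u

open CategoryTheory CategoryTheory.Limits MonoidalCategory CartesianMonoidalCategory AlgebraicGeometry TopologicalSpace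
open scoped MonObj
open AVAmpleLib (imgPt)

noncomputable section

namespace ChevThmLib

attribute [-instance] CategoryTheory.Hom.commGroup

variable {k : Type u} [Field k] (p : ℕ) [Fact p.Prime] [CharP k p] [ExpChar k p] (r : ℕ)

/-- The iterated Frobenius of the base. -/
abbrev frobS : Spec (CommRingCat.of k) ⟶ Spec (CommRingCat.of k) :=
  Spec.map (CommRingCat.ofHom (iterateFrobenius k p r))

/-- The twist functor. -/
abbrev twF : Over (Spec (CommRingCat.of k)) ⥤ Over (Spec (CommRingCat.of k)) := Over.pullback (frobS (k := k) p r)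

/-- The twist as a group. -/
abbrev twGrp (G : Over (Spec (CommRingCat.of k))) [GrpObj G] : GrpObj ((twF (k := k) p r).obj G) := Functor.grpObjObj

/-- The iterated relative Frobenius. -/
def relF (G : Over (Spec (CommRingCat.of k))) : G ⟶ (twF (k := k) p r).obj G :=
  haveI : FrobSch.IsCharP G.left p := FrobSch.IsCharP.of_hom G.hom p
  Over.homMk (pullback.lift (FrobSch.frobIter G.left p r) G.hom
    (by rw [CurveFFLib.frobIter_comp, CurveFFLib.frobIter_spec])) (pullback.lift_snd _ _ _)

theorem relF_fst (G : Over (Spec (CommRingCat.of k))) :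
    haveI : FrobSch.IsCharP G.left p := FrobSch.IsCharP.of_hom G.hom p
    (relF p r G).left ≫ pullback.fst G.hom (frobS p r) = FrobSch.frobIter G.left p r :=
  pullback.lift_fst _ _ _

theorem relF_natural {G H : Over (Spec (CommRingCat.of k))} (f : G ⟶ H) :
    f ≫ relF p r H = relF p r G ≫ (twF (k := k) p r).map f := by
  haveI : FrobSch.IsCharP G.left p := FrobSch.IsCharP.of_hom G.hom p
  haveI : FrobSch.IsCharP H.left p := FrobSch.IsCharP.of_hom H.hom p
  refine Over.OverMorphism.ext (pullback.hom_ext ?_ ?_)
  · simp only [Over.comp_left, Category.assoc, relF_fst]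
    rw [show ((twF (k := k) p r).map f).left ≫ pullback.fst H.hom (frobS p r) = pullback.fst G.hom (frobS p r) ≫ f.left
      from pullback.lift_fst _ _ _, ← Category.assoc, relF_fst, CurveFFLib.frobIter_comp]
  · exact (Over.w (f ≫ relF p r H)).trans (Over.w (relF p r G ≫ (twF (k := k) p r).map f)).symm

theorem isMonHom_relF (G : Over (Spec (CommRingCat.of k))) [GrpObj G] :
    letI := twGrp (k := k) p r G
    IsMonHom (relF p r G) := by
  letI := twGrp (k := k) p r G
  have h1 : relF (k := k) p r (𝟙_ _) = Functor.LaxMonoidal.ε (twF (k := k) p r) := by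
    haveI : IsIso (Functor.LaxMonoidal.ε (twF (k := k) p r)) := inferInstance
    rw [← cancel_mono (inv (Functor.LaxMonoidal.ε (twF (k := k) p r)))]
    exact toUnit_unique _ _
  have h2 : ∀ X Y : Over (Spec (CommRingCat.of k)),
      relF (k := k) p r (X ⊗ Y) = (relF p r X ⊗ₘ relF p r Y) ≫ Functor.LaxMonoidal.μ (twF (k := k) p r) X Y := by
    intro X Y
    rw [← cancel_mono (Functor.OplaxMonoidal.δ (twF (k := k) p r) X Y), Category.assoc,
      Functor.Monoidal.μ_δ, Category.comp_id]
    refine CartesianMonoidalCategory.hom_ext _ _ ?_ ?_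
    · rw [Category.assoc, Functor.OplaxMonoidal.δ_fst, ← relF_natural, tensorHom_fst]
    · rw [Category.assoc, Functor.OplaxMonoidal.δ_snd, ← relF_natural, tensorHom_snd]
  refine ⟨?_, ?_⟩
  · rw [relF_natural, h1]
    rfl
  · rw [relF_natural, h2, Category.assoc]
    rfl

theorem relF_props (G : Over (Spec (CommRingCat.of k))) :
    IsIntegralHom (relF p r G).left ∧ UniversallyInjective (relF p r G).left ∧ Surjective (relF p r G).left := by
  haveI : FrobSch.IsCharP G.left p := FrobSch.IsCharP.of_hom G.hom p
  obtain ⟨hS1, hS2, hS3⟩ := CurveFFLib.frobSpec_props k p r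
  obtain ⟨hX1, hX2, hX3⟩ := CurveFFLib.frobIter_props (p := p) (X := G.left) r
  let π := pullback.fst G.hom (frobS (k := k) p r)
  haveI : IsIntegralHom π := MorphismProperty.pullback_fst _ _ hS1
  haveI : UniversallyInjective π := MorphismProperty.pullback_fst _ _ hS2
  haveI : IsIntegralHom ((relF p r G).left ≫ π) := by rw [relF_fst]; exact hX1
  haveI hu : UniversallyInjective ((relF p r G).left ≫ π) := by rw [relF_fst]; exact hX2
  refine ⟨IsIntegralHom.of_comp (relF p r G).left π, ?_, ⟨fun y => ⟨π y, π.injective ?_⟩⟩⟩
  · have h1 : UniversallyInjective ((relF p r G).left ≫ π) ↔ _ :=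
      (tfae_universallyInjective ((relF p r G).left ≫ π)).out 0 1
    have h2 : UniversallyInjective (relF p r G).left ↔ _ := (tfae_universallyInjective (relF p r G).left).out 0 1
    refine h2.mpr fun K _ g g' h => (h1.mp hu) K ?_
    dsimp only at h ⊢
    rw [← Category.assoc, h, Category.assoc]
  · exact ((Scheme.Hom.comp_apply (relF p r G).left π _).symm).trans
      ((congr($(relF_fst p r G) (π y))).trans (CurveFFLib.frobIter_apply r _))

theorem fst_relF_apply (G : Over (Spec (CommRingCat.of k))) (x : G.left) :
    pullback.fst G.hom (frobS (k := k) p r) ((relF p r G).left x) = x := by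
  haveI : FrobSch.IsCharP G.left p := FrobSch.IsCharP.of_hom G.hom p
  exact ((Scheme.Hom.comp_apply (relF p r G).left (pullback.fst G.hom (frobS (k := k) p r)) x).symm).trans
    ((congr($(relF_fst p r G) x)).trans (CurveFFLib.frobIter_apply r _))

/-- A large twist of a scheme of finite type has a geometrically reduced reduction. -/
theorem exists_reduced_twist {X : Scheme.{u}} (f : X ⟶ Spec (CommRingCat.of k)) [LocallyOfFiniteType f]
    [QuasiCompact f] :
    ∃ (r : ℕ) (Z : Scheme.{u}) (i : Z ⟶ pullback f (frobS (k := k) p r)), IsClosedImmersion i ∧ Surjective i ∧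
      GeometricallyReduced (i ≫ pullback.snd f (frobS p r)) ∧ IsReduced Z := by
  haveI : IsLocallyNoetherian X := LocallyOfFiniteType.isLocallyNoetherian f
  haveI : CompactSpace X := QuasiCompact.compactSpace_of_compactSpace f
  haveI : IsNoetherian X := ⟨⟩
  obtain ⟨k', _, _, hfin, hpi, hgr⟩ := GeomRedFieldLib.exists_reduction_gr f
    NoetherianSpace.finite_irreducibleComponents
  haveI := hfin; haveI := hpi
  haveI : IsPurelyInseparable.HasExponent k k' := inferInstance
  obtain ⟨e, he⟩ : ∃ e, ∀ a : k', a ^ p ^ e ∈ (algebraMap k k').range :=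
    ⟨IsPurelyInseparable.exponent k k', IsPurelyInseparable.exponent_def' k p⟩
  refine ⟨e, ?_⟩
  haveI : CharP k' p := charP_of_injective_algebraMap (algebraMap k k').injective p
  haveI : ExpChar k' p := ExpChar.prime Fact.out
  let ε : k ≃+* (algebraMap k k').range := RingEquiv.ofBijective (algebraMap k k').rangeRestrict
    ⟨fun a b h => (algebraMap k k').injective (congrArg Subtype.val h), (algebraMap k k').rangeRestrict_surjective⟩
  let ψ : k' →+* k := ε.symm.toRingHom.comp ((iterateFrobenius k' p e).codRestrict _ fun a => by
    rw [iterateFrobenius_def]; exact he a)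
  have hψ : ψ.comp (algebraMap k k') = iterateFrobenius k p e := by
    ext a
    apply (algebraMap k k').injective
    show algebraMap k k' (ε.symm _) = _
    refine (congrArg Subtype.val (ε.apply_symm_apply _)).trans ?_
    show iterateFrobenius k' p e (algebraMap k k' a) = _
    rw [iterateFrobenius_def, iterateFrobenius_def, map_pow]
  have hs : Spec.map (CommRingCat.ofHom ψ) ≫ GeomRedFieldLib.str k k' = frobS p e := by
    show _ ≫ Spec.map (CommRingCat.ofHom (algebraMap k k')) = _
    rw [← Spec.map_comp]
    exact congrArg Spec.map (CommRingCat.hom_ext hψ)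
  let P := pullback f (GeomRedFieldLib.str k k')
  haveI : AlgebraicGeometry.IsReduced P.nilradical.subscheme := GeomRedFieldLib.isReduced_nilradical P
  haveI : Surjective P.nilradical.subschemeι := GeomRedFieldLib.surjective_nilradical P
  haveI := hgr (Z := P.nilradical.subscheme) P.nilradical.subschemeι
  let s := Spec.map (CommRingCat.ofHom ψ)
  let t : pullback f (frobS (k := k) p e) ⟶ P :=
    pullback.lift (pullback.fst f _) (pullback.snd f _ ≫ s) (by rw [pullback.condition, Category.assoc, hs])
  have ht : IsPullback t (pullback.snd f (frobS (k := k) p e)) (pullback.snd f (GeomRedFieldLib.str k k')) s := by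
    refine IsPullback.of_right (h₁₂ := pullback.fst f (GeomRedFieldLib.str k k')) (v₁₃ := f) (h₂₂ := GeomRedFieldLib.str k k')
      ?_ (pullback.lift_snd _ _ _) (IsPullback.of_hasPullback _ _)
    rw [pullback.lift_fst, hs]
    exact IsPullback.of_hasPullback _ _
  let Z := pullback P.nilradical.subschemeι t
  refine ⟨Z, pullback.snd _ _, inferInstance, inferInstance, ?_, ?_⟩
  · exact MorphismProperty.of_isPullback ((IsPullback.of_hasPullback P.nilradical.subschemeι t).paste_vert ht) ‹_›
  · haveI : GeometricallyReduced (pullback.snd P.nilradical.subschemeι t ≫ pullback.snd f (frobS (k := k) p e)) :=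
      MorphismProperty.of_isPullback ((IsPullback.of_hasPullback P.nilradical.subschemeι t).paste_vert ht) ‹_›
    haveI : Flat (pullback.snd P.nilradical.subschemeι t ≫ pullback.snd f (frobS (k := k) p e)) :=
      Groth.Agent.GrpField.flat_field _
    exact GeometricallyReduced.isReduced_of_flat_of_finite_irreducibleComponents
      (pullback.snd P.nilradical.subschemeι t ≫ pullback.snd f (frobS (k := k) p e))

end ChevThmLib

end
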